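/-
Simple groups of order 95040: generalities.
-/
import Cfsg.Agent.Lib.SimpleM11.Involution
import Cfsg.Agent.Lib.SmallSylow.Block
import Cfsg.Prelude.Def_Sporadic

set_option autoImplicit false
set_option linter.style.haveILetI false
set_option linter.unusedSectionVars false

namespace CfsgSimpleM12

open Cfsg Subgroup

variable {G : Type*} [Group G] [Finite G]

theorem card_eq (hG : IsM12 G) : Nat.card G = 95040 := hG.2

theorem simple (hG : IsM12 G) : IsSimpleGroup G := hG.1

theorem normal_cases (hG : IsM12 G) {N : Subgroup G} (hN : N.Normal) : N = ⊥ ∨ N = ⊤ :=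
  haveI := simple hG
  hN.eq_bot_or_eq_top

theorem exists_noncomm (hG : IsM12 G) : ∃ a b : G, a * b ≠ b * a := by
  by_contra h
  push Not at h
  haveI := simple hG
  letI : CommGroup G := { (inferInstance : Group G) with mul_comm := h }
  have h7 : (Nat.card G).Prime := IsSimpleGroup.prime_card
  rw [card_eq hG] at h7
  norm_num at h7

theorem hom_trivial (hG : IsM12 G) (f : G →* ℂˣ) : f = 1 := by
  rcases normal_cases hG (MonoidHom.normal_ker f) with h | h
  · exfalso
    obtain ⟨x, y, hxy⟩ := exists_noncomm hG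
    exact hxy ((MonoidHom.ker_eq_bot_iff f).1 h (by rw [map_mul, map_mul, mul_comm]))
  · exact MonoidHom.ker_eq_top_iff.mp h

theorem center_trivial (hG : IsM12 G) {x : G} (hx : ∀ g : G, g * x = x * g) : x = 1 := by
  rcases normal_cases hG (inferInstance : (Subgroup.center G).Normal) with h | h
  · exact mem_bot.mp (h ▸ mem_center_iff.mpr hx)
  · obtain ⟨a, b, hab⟩ := exists_noncomm hG
    exact absurd (mem_center_iff.mp (h ▸ mem_top b : b ∈ center G) a) hab

theorem cent_ne_top (hG : IsM12 G) {x : G} (hx : x ≠ 1) : centralizer ({x} : Set G) ≠ ⊤ := fun h =>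
  hx (center_trivial hG fun g => mem_centralizer_singleton_iff.mp (h ▸ mem_top g))

/-- A proper subgroup has index at least eleven. -/
theorem eleven_le_index (hG : IsM12 G) {H : Subgroup G} (hH : H ≠ ⊤) : 11 ≤ H.index := by
  rcases normal_cases hG (normalCore_normal H) with h | h
  · have hinj : Function.Injective (MulAction.toPermHom G (G ⧸ H)) := by
      rw [← MonoidHom.ker_eq_bot_iff, ← normalCore_eq_ker, h]
    have hd : Nat.card G ∣ Nat.card (Equiv.Perm (G ⧸ H)) :=
      card_dvd_of_injective (MulAction.toPermHom G (G ⧸ H)) hinj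
    rw [card_eq hG, Nat.card_perm, ← H.index_eq_card] at hd
    exact (Nat.Prime.dvd_factorial (by norm_num)).mp ((show 11 ∣ 95040 by norm_num).trans hd)
  · exact absurd (eq_top_iff.mpr (h ▸ normalCore_le H)) hH

theorem no_transfer (hG : IsM12 G) {p : ℕ} [Fact p.Prime] (P : Sylow p G)
    (h1 : 1 < Nat.card (P : Subgroup G)) (h2 : Nat.card (P : Subgroup G) < 95040)
    (h : normalizer ((P : Subgroup G) : Set G) ≤ centralizer ((P : Subgroup G) : Set G)) : False := by
  haveI : (P : Subgroup G).FiniteIndex := ⟨index_ne_zero_of_finite⟩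
  have hc := MonoidHom.ker_transferSylow_isComplement' P h
  have hm := hc.card_mul
  rw [card_eq hG] at hm
  rcases normal_cases hG (MonoidHom.normal_ker (MonoidHom.transferSylow P h)) with e | e <;>
    rw [e] at hm
  · rw [card_bot, one_mul] at hm; omega
  · rw [card_top, card_eq hG] at hm; omega

theorem exists_order {K : Subgroup G} {q : ℕ} (hq : q.Prime) (h : q ∣ Nat.card K) :
    ∃ x ∈ K, orderOf x = q := by
  haveI := Fact.mk hq
  obtain ⟨x, hx⟩ := exists_prime_orderOf_dvd_card' q h
  exact ⟨x, x.2, (orderOf_coe x).trans hx⟩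

theorem dvd_8640 {m : ℕ} (h : m ∣ 95040) (h11 : ¬ 11 ∣ m) : m ∣ 8640 :=
  Nat.Coprime.dvd_of_dvd_mul_right (((Nat.Prime.coprime_iff_not_dvd (by norm_num)).mpr h11).symm)
    (show m ∣ 8640 * 11 from h)

theorem fac (hG : IsM12 G) {q k : ℕ} (hq : q.Prime) (h : q ^ k ∣ 95040) (h' : ¬ q ^ (k + 1) ∣ 95040)
    (P : Sylow q G) : Nat.card (P : Subgroup G) = q ^ k := by
  haveI := Fact.mk hq
  rw [P.card_eq_multiplicity, card_eq hG, CfsgLib.Order7920.fac_eq hq (by norm_num) h h']

theorem card_sylow11 (hG : IsM12 G) (P : Sylow 11 G) : Nat.card (P : Subgroup G) = 11 := by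
  rw [fac hG (k := 1) (by norm_num) (by norm_num) (by norm_num) P, pow_one]

theorem card_sylow5 (hG : IsM12 G) (P : Sylow 5 G) : Nat.card (P : Subgroup G) = 5 := by
  rw [fac hG (k := 1) (by norm_num) (by norm_num) (by norm_num) P, pow_one]

theorem card_sylow3 (hG : IsM12 G) (P : Sylow 3 G) : Nat.card (P : Subgroup G) = 27 := by
  rw [fac hG (k := 3) (by norm_num) (by norm_num) (by norm_num) P]; norm_num

theorem card_sylow2 (hG : IsM12 G) (P : Sylow 2 G) : Nat.card (P : Subgroup G) = 64 := by
  rw [fac hG (k := 6) (by norm_num) (by norm_num) (by norm_num) P]; norm_num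

/-- In a Sylow subgroup every element centralises at least the square of the prime. -/
theorem sq_dvd_cent {p n : ℕ} [Fact p.Prime] (hn : 2 ≤ n) (P : Sylow p G)
    (hP : Nat.card (P : Subgroup G) = p ^ n) {y : G} (hy : y ∈ (P : Subgroup G)) :
    p ^ 2 ∣ Nat.card (centralizer ({y} : Set G)) := by
  have hp : p.Prime := Fact.out
  set K := ((centralizer ({(⟨y, hy⟩ : (P : Subgroup G))} : Set (P : Subgroup G))).map (P : Subgroup G).subtype)
  have hK : K ≤ centralizer ({y} : Set G) := by
    rintro _ ⟨c, hc, rfl⟩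
    exact mem_centralizer_singleton_iff.mpr (congrArg Subtype.val (mem_centralizer_singleton_iff.mp hc))
  refine dvd_trans ?_ (card_dvd_of_le hK)
  rw [card_map_of_injective (subtype_injective _)]
  set y' : (P : Subgroup G) := ⟨y, hy⟩
  obtain ⟨m, -, hm⟩ := (Nat.dvd_prime_pow hp).mp (hP ▸ card_subgroup_dvd_card (centralizer ({y'} : Set (P : Subgroup G))))
  rw [hm]
  refine pow_dvd_pow p ?_
  by_contra hlt
  have hsmall : m ≤ 1 := by omega
  haveI : Nontrivial (P : Subgroup G) := Finite.one_lt_card_iff_nontrivial.mp (by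
    rw [hP]; exact Nat.one_lt_pow (by omega) hp.one_lt)
  have hC : (Subgroup.center (P : Subgroup G)) ≤ centralizer ({y'} : Set (P : Subgroup G)) := fun c hc =>
    mem_centralizer_singleton_iff.mpr ((mem_center_iff.mp hc y').symm)
  have hy' : y' ∈ centralizer ({y'} : Set (P : Subgroup G)) := mem_centralizer_singleton_iff.mpr rfl
  have hnt : Nontrivial (Subgroup.center (P : Subgroup G)) := P.isPGroup'.center_nontrivial
  have h1 : 1 < Nat.card (Subgroup.center (P : Subgroup G)) := Finite.one_lt_card
  have h2 := Nat.le_of_dvd Nat.card_pos (card_dvd_of_le hC)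
  have hm1 : m = 1 := by
    rcases Nat.eq_zero_or_pos m with rfl | h
    · rw [hm, pow_zero] at h2; omega
    · omega
  rw [hm1, pow_one] at hm
  have hce : Subgroup.center (P : Subgroup G) = centralizer ({y'} : Set (P : Subgroup G)) := by
    refine eq_of_le_of_card_ge hC ?_
    rw [hm]
    rcases (Nat.dvd_prime hp).mp (hm ▸ card_dvd_of_le hC) with e | e <;> omega
  have htop : centralizer ({y'} : Set (P : Subgroup G)) = ⊤ := by
    refine eq_top_iff.mpr fun c _ => mem_centralizer_singleton_iff.mpr ?_
    exact mem_center_iff.mp (hce ▸ hy') c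
  rw [htop, card_top, hP] at hm
  have : p ^ 1 < p ^ n := Nat.pow_lt_pow_right hp.one_lt (by omega)
  rw [pow_one] at this
  omega

end CfsgSimpleM12
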