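/-
Simple groups of order 95040: general facts on character values.
-/
import Cfsg.Agent.Lib.SimpleM12.Basic
import Cfsg.Agent.Lib.Blocks.ThreePrimes
import Cfsg.Agent.Lib.PrimeDegrees.Solvable

set_option autoImplicit false
set_option linter.style.haveILetI false
set_option linter.unusedSectionVars false

namespace CfsgSimpleM12

open Cfsg CfsgLib.CharTheory CfsgLib.Blocks CfsgSimpleM11
open scoped ComplexConjugate

universe u
variable {G : Type u} [Group G] [Fintype G]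

/-- The order of a centraliser. -/
noncomputable abbrev cc (g : G) : ℕ := Nat.card (Subgroup.centralizer ({g} : Set G))

theorem sum_dg_sq (hG : IsM12 G) : ∑ χ : IrrCharacter G, dg χ ^ 2 = 95040 := by
  have h := sum_irr_degree_sq (G := G)
  rw [card_eq hG] at h
  simp only [irr_degree] at h
  exact_mod_cast h

theorem eq_triv_of_dg_one (hG : IsM12 G) {χ : IrrCharacter G} (h : dg χ = 1) : χ = triv G := by
  obtain ⟨f, hf⟩ := exists_hom_of_degree_one (isCharacter_of_irr χ.2)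
    (by rw [irr_degree]; show (dg χ : ℂ) = 1; rw [h, Nat.cast_one])
  refine Subtype.ext (funext fun g => ?_)
  rw [hf, hom_trivial hG f, triv_apply]
  simp

theorem dg_dvd' (hG : IsM12 G) (χ : IrrCharacter G) : dg χ ∣ 95040 := card_eq hG ▸ dg_dvd χ

theorem dg_le (hG : IsM12 G) (χ : IrrCharacter G) : dg χ ≤ 308 := by
  have h2 : dg χ ^ 2 ≤ 95040 := sum_dg_sq hG ▸
    Finset.single_le_sum (f := fun ψ : IrrCharacter G => dg ψ ^ 2) (fun _ _ => Nat.zero_le _) (Finset.mem_univ χ)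
  nlinarith

theorem not_triv_ne_one (hG : IsM12 G) {χ : IrrCharacter G} (h : χ ≠ triv G) : (χ : G → ℂ) ≠ fun _ => 1 :=
  fun e => h (Subtype.ext e)

theorem faithful_value (hG : IsM12 G) {χ : IrrCharacter G} (hχ : χ ≠ triv G) {g : G} (hg : g ≠ 1) :
    (χ : G → ℂ) g ≠ (dg χ : ℂ) := fun h => by
  haveI := simple hG
  exact hχ (Subtype.ext (CfsgSimpleM11.eq_one_of_eq_degree χ hg (h.trans (irr_degree χ).symm)))

/-- Values at involutions. -/
theorem involution_int (hG : IsM12 G) (χ : IrrCharacter G) {t : G} (ht : orderOf t = 2) :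
    ∃ v : ℤ, (χ : G → ℂ) t = v ∧ v % 4 = (dg χ : ℤ) % 4 ∧ -(dg χ : ℤ) ≤ v ∧ v ≤ (dg χ : ℤ) ∧
      (χ ≠ triv G → v < (dg χ : ℤ)) := by
  have h2 : t * t = 1 := by rw [← pow_two, ← ht, pow_orderOf_eq_one]
  obtain ⟨k, hk0, hk, hev⟩ := two_mults χ h2
  obtain ⟨m, rfl⟩ := hev (hom_trivial hG)
  refine ⟨_, hk, by simp only [dg]; omega, by simp only [dg]; omega, by simp only [dg]; omega, fun hne => ?_⟩
  rcases Nat.eq_zero_or_pos (m + m) with h | h
  · exfalso
    refine faithful_value hG hne (g := t) (fun e => by rw [e, orderOf_one] at ht; norm_num at ht) ?_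
    rw [hk, h]
    push_cast
    ring
  · simp only [dg]; omega

/-- A character of full `p`-degree vanishes on the elements of order divisible by `p`. -/
theorem vanish_full (hG : IsM12 G) (χ : IrrCharacter G) {p k : ℕ} (hp : p.Prime) (hk : p ^ k ∣ 95040)
    (hk' : ¬ p ^ (k + 1) ∣ 95040) (hd : p ^ k ∣ dg χ) {y : G} (hy : p ∣ orderOf y) : (χ : G → ℂ) y = 0 := by
  haveI := Fact.mk hp
  obtain ⟨M, hM⟩ := exists_pModular hp
  refine ThreePrimes.vanish_of_defZero hM χ ?_ hy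
  have h0 : dg χ ≠ 0 := (irr_charDegree_pos χ).ne'
  show (dg χ).factorization p = _
  rw [card_eq hG, CfsgLib.Order7920.fac_eq hp (by norm_num) hk hk']
  exact CfsgLib.Order7920.fac_eq hp h0 hd fun h => hk' (h.trans (dg_dvd' hG χ))

/-- Burnside: degree coprime to the class size. -/
theorem vanish_coprime (hG : IsM12 G) {χ : IrrCharacter G} (hne : χ ≠ triv G) {g : G} (hg : g ≠ 1)
    (hcop : Nat.Coprime (dg χ) (95040 / cc g)) : (χ : G → ℂ) g = 0 := by
  haveI := simple hG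
  refine CfsgLib.PrimeDegrees.vanish_of_coprime (exists_noncomm hG) χ (not_triv_ne_one hG hne) hg ?_
  have h := (Subgroup.centralizer ({g} : Set G)).card_mul_index
  rw [card_eq hG] at h
  rw [show (Subgroup.centralizer ({g} : Set G)).index = 95040 / cc g from
    (Nat.div_eq_of_eq_mul_right Nat.card_pos h.symm).symm]
  exact hcop

/-- A value at an element of prime power order is congruent to the degree. -/
theorem modEq_degree (χ : IrrCharacter G) {p k : ℕ} [Fact p.Prime] {y : G} (hy : y ^ p ^ k = 1) {a : ℤ}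
    (ha : (χ : G → ℂ) y = a) : a ≡ (dg χ : ℤ) [ZMOD p] :=
  genChar_modEq_mul (isGenChar_of_char (isCharacter_of_irr χ.2)) hy (Commute.one_right y) (z := 1)
    (c := (dg χ : ℤ)) (by rw [mul_one, ha]) (by rw [irr_degree, Int.cast_natCast])
    (by rw [one_pow, irr_degree, Int.cast_natCast])

/-- Multiplication by a commuting element of prime order `p`, for `z` of order prime to `p`. -/
theorem modEq_mul (χ : IrrCharacter G) {p : ℕ} [Fact p.Prime] {y z : G} (hy : y ^ p = 1) (hyz : Commute y z)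
    {a b : ℤ} (hz : ∃ c : ℤ, (χ : G → ℂ) (z ^ p) = c) (ha : (χ : G → ℂ) (y * z) = a) (hb : (χ : G → ℂ) z = b) :
    a ≡ b [ZMOD p] := by
  obtain ⟨c, hc⟩ := hz
  exact genChar_modEq_mul (isGenChar_of_char (isCharacter_of_irr χ.2)) (k := 1) (by rw [pow_one]; exact hy) hyz
    ha hb (by rw [pow_one]; exact hc)

/-- No nontrivial character takes the negative of its degree. -/
theorem neg_degree_ne (hG : IsM12 G) {χ : IrrCharacter G} (hχ : χ ≠ triv G) {g : G} (hg : g ≠ 1) :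
    (χ : G → ℂ) g ≠ -(dg χ : ℂ) := fun h => by
  haveI := simple hG
  have hc := isCharacter_mul (isCharacter_of_irr χ.2) (isCharacter_of_irr χ.2)
  have hmem : g ∈ charKernel _ hc := (mem_charKernel hc g).2 (by
    simp only [Pi.mul_apply, h, irr_degree]; ring)
  rcases (charKernel_normal _ hc).eq_bot_or_eq_top with e | e
  · exact hg (Subgroup.mem_bot.mp (e ▸ hmem))
  · refine hχ (eq_triv_of_dg_one hG ?_)
    have hv : ∀ x, (χ : G → ℂ) x * conj ((χ : G → ℂ) x) = (dg χ : ℂ) * (dg χ : ℂ) := fun x => by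
      have h1 := (mem_charKernel hc x).1 (e ▸ Subgroup.mem_top x)
      simp only [Pi.mul_apply, irr_degree] at h1
      rcases mul_self_eq_mul_self_iff.mp h1 with h2 | h2 <;> rw [h2] <;> simp
    have h2 := sum_mul_conj_irr χ.2
    simp only [hv, Finset.sum_const, Finset.card_univ, nsmul_eq_mul] at h2
    have h3 : (dg χ : ℂ) * (dg χ : ℂ) = 1 :=
      mul_left_cancel₀ (Nat.cast_ne_zero.2 (Fintype.card_pos.ne')) (h2.trans (by simp))
    have h4 : dg χ * dg χ = 1 := by exact_mod_cast h3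
    exact Nat.eq_one_of_mul_eq_one_right h4

theorem cc_eq_sum (g : G) : (cc g : ℝ) = ∑ χ : IrrCharacter G, ‖(χ : G → ℂ) g‖ ^ 2 := by
  classical
  have h := sum_irr_mul_conj g g
  rw [if_pos (IsConj.refl g)] at h
  simp only [Complex.mul_conj', ← Complex.ofReal_pow, ← Complex.ofReal_sum] at h
  exact_mod_cast h.symm

/-- Bessel's inequality for a column. -/
theorem norm_le (s : Finset (IrrCharacter G)) {g : G} (v : IrrCharacter G → ℤ)
    (hv : ∀ χ ∈ s, (χ : G → ℂ) g = (v χ : ℂ)) : ∑ χ ∈ s, v χ ^ 2 ≤ (cc g : ℤ) := by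
  have h : ((∑ χ ∈ s, v χ ^ 2 : ℤ) : ℝ) ≤ (cc g : ℝ) := by
    rw [cc_eq_sum g]
    refine le_trans (le_of_eq ?_) (Finset.sum_le_sum_of_subset_of_nonneg (Finset.subset_univ s)
      fun _ _ _ => sq_nonneg _)
    push_cast
    exact Finset.sum_congr rfl fun χ hχ => by rw [hv χ hχ, Complex.norm_intCast, sq_abs]
  exact_mod_cast h

/-- Bessel's inequality for two columns. -/
theorem gram_le (s : Finset (IrrCharacter G)) {g h : G} (hgh : ¬ IsConj g h) (v w : IrrCharacter G → ℤ)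
    (hv : ∀ χ ∈ s, (χ : G → ℂ) g = (v χ : ℂ)) (hw : ∀ χ ∈ s, (χ : G → ℂ) h = (w χ : ℂ)) :
    (∑ χ ∈ s, v χ * w χ) ^ 2 ≤
      ((cc g : ℤ) - ∑ χ ∈ s, v χ ^ 2) * ((cc h : ℤ) - ∑ χ ∈ s, w χ ^ 2) := by
  classical
  have e := sum_irr_mul_conj g h
  rw [if_neg hgh, ← Finset.sum_add_sum_compl s] at e
  rw [Finset.sum_congr rfl (g := fun χ => ((v χ * w χ : ℤ) : ℂ)) (fun χ hχ => by
    rw [hv χ hχ, hw χ hχ, map_intCast]; push_cast; ring), ← Int.cast_sum] at e
  have hn : ‖((∑ χ ∈ s, v χ * w χ : ℤ) : ℂ)‖ ≤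
      ∑ χ ∈ sᶜ, ‖(χ : G → ℂ) g‖ * ‖(χ : G → ℂ) h‖ := by
    rw [eq_neg_of_add_eq_zero_left e, norm_neg]
    refine (norm_sum_le _ _).trans (le_of_eq (Finset.sum_congr rfl fun χ _ => ?_))
    rw [norm_mul, Complex.norm_conj]
  have hcs := Finset.sum_mul_sq_le_sq_mul_sq sᶜ (fun χ : IrrCharacter G => ‖(χ : G → ℂ) g‖)
    (fun χ : IrrCharacter G => ‖(χ : G → ℂ) h‖)
  have hsplit : ∀ (x : G) (u : IrrCharacter G → ℤ), (∀ χ ∈ s, (χ : G → ℂ) x = (u χ : ℂ)) →
      ∑ χ ∈ sᶜ, ‖(χ : G → ℂ) x‖ ^ 2 = (((cc x : ℤ) - ∑ χ ∈ s, u χ ^ 2 : ℤ) : ℝ) := by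
    intro x u hu
    have h1 : ∑ χ ∈ s, ‖(χ : G → ℂ) x‖ ^ 2 = ∑ χ ∈ s, ((u χ : ℝ)) ^ 2 :=
      Finset.sum_congr rfl fun χ hχ => by rw [hu χ hχ, Complex.norm_intCast, sq_abs]
    push_cast
    rw [cc_eq_sum x, ← Finset.sum_add_sum_compl s (fun χ : IrrCharacter G => ‖(χ : G → ℂ) x‖ ^ 2), h1]
    ring
  rw [hsplit g v hv, hsplit h w hw] at hcs
  rw [Complex.norm_intCast] at hn
  have h0 := pow_le_pow_left₀ (abs_nonneg _) hn 2
  rw [sq_abs] at h0
  exact_mod_cast h0.trans hcs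

end CfsgSimpleM12
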