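/-
An involution centralising a Sylow subgroup of order eleven: the principal block.
-/
import Cfsg.Agent.Lib.SimpleM12.Chars
import Cfsg.Agent.Lib.SmallSylow.Block

set_option autoImplicit false
set_option linter.style.haveILetI false
set_option linter.unusedSectionVars false

namespace CfsgSimpleM12

open Cfsg CfsgLib.CharTheory CfsgLib.Blocks CfsgSimpleM11
open CfsgLib.SmallSylow (inIdx)

universe u
variable {G : Type u} [Group G] [Fintype G]

theorem deg_list_aux : ((List.range 309).all fun d => 95040 % d != 0 || decide (d < 22) ||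
    (d % 11 != 1 && d % 11 != 10) || [32, 45, 54, 120, 144].contains d) = true := by decide +kernel

theorem deg_list {d : ℕ} (hd : d < 309) (h1 : d ∣ 95040) (h2 : 22 ≤ d) (h3 : d % 11 = 1 ∨ d % 11 = 10) :
    d ∈ ([32, 45, 54, 120, 144] : List ℕ) := by
  have := List.all_eq_true.1 deg_list_aux d (List.mem_range.2 hd)
  simp only [Bool.or_eq_true, bne_iff_ne, ne_eq, decide_eq_true_eq, Bool.and_eq_true,
    List.contains_iff_mem] at this
  rcases this with ((h | h) | h) | h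
  · exact absurd (Nat.mod_eq_zero_of_dvd h1) h
  · omega
  · omega
  · exact h

theorem sum_two : ∀ d ∈ ([32, 45, 54, 120, 144] : List ℕ),
    (d % 11 = 1 → ¬ d + 1 ∣ 95040) ∧ (d % 11 = 10 → ¬ d - 1 ∣ 95040) := by decide +kernel

theorem deg_five : ∀ d ∈ ([32, 45, 54, 120, 144] : List ℕ), d ∣ 720 → d ∈ ([45, 120, 144] : List ℕ) := by
  decide +kernel

theorem sum_five : ∀ f : Fin 4 → Fin 3, ∀ S : ℤ, S = 1 + ∑ i, ![(45 : ℤ), -120, 144] (f i) →
    (S.natAbs < 309 ∧ S.natAbs ∣ 95040) → S.natAbs < 22 := by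
  intro f S hS
  subst hS
  revert f
  decide +kernel

/-- The data of the principal block at an involution centralising the Sylow subgroup. -/
theorem block_data (hG : IsM12 G) (P : Sylow 11 G) (he : inIdx P = 2 ∨ inIdx P = 5)
    {t : G} (ht : orderOf t = 2) (htC : t ∈ Subgroup.centralizer ((P : Subgroup G) : Set G)) :
    ∃ (X : Finset (IrrCharacter G)) (δ : IrrCharacter G → ℤ) (η : IrrCharacter G) (ε : ℤ),
      triv G ∈ X ∧ δ (triv G) = 1 ∧ X.card = inIdx P ∧ η ≠ triv G ∧ (ε = 1 ∨ ε = -1) ∧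
      (∀ χ ∈ X, (δ χ = 1 ∨ δ χ = -1) ∧ (dg χ : ℤ) ≡ δ χ [ZMOD 11] ∧
        (χ ≠ triv G → 22 ≤ dg χ) ∧ dg χ ∣ inIdx P * Nat.card (Sylow 11 G) ∧
        ∃ v : ℤ, (χ : G → ℂ) t = v ∧ v ≡ (dg χ : ℤ) [ZMOD 44]) ∧
      ε * (dg η : ℤ) = ∑ χ ∈ X, δ χ * (dg χ : ℤ) ∧ 22 ≤ dg η := by
  classical
  haveI : Fact (Nat.Prime 11) := ⟨by norm_num⟩
  have hP : Nat.card P = 11 := card_sylow11 hG P
  obtain ⟨M, hM⟩ := exists_pModular (p := 11) (by norm_num)
  obtain ⟨X, Y, hXY, hdisj, hcX, hcY, εX, ε, hX, hε, hYdeg, hagree, hrel⟩ :=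
    Cfsg.Agent.S4441.result 11 M hM (by norm_num) P hP (inIdx P) rfl
  have hno : ¬ 11 ∣ orderOf t := by rw [ht]; norm_num
  have hreg1 : ¬ 11 ∣ orderOf (1 : G) := by rw [orderOf_one]; norm_num
  obtain ⟨x, hx, hx1⟩ := CfsgLib.SmallSylow.exists_mem_ne P hP
  have hxo := CfsgLib.SmallSylow.orderOf_mem P hP hx hx1
  have hcomm : Commute x t := Subgroup.mem_centralizer_iff.mp htC x hx
  have hint : ∀ χ : IrrCharacter G, ∀ z : G, z ^ 2 = 1 → ∃ c : ℤ, (χ : G → ℂ) z = c := fun χ z hz => by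
    obtain ⟨k, -, hk, -⟩ := two_mults χ (t := z) (by rw [← pow_two]; exact hz)
    exact ⟨_, hk⟩
  -- the trivial character lies in X
  have htriv : triv G ∈ X := by
    rcases (hXY ▸ oneIrr_mem hM : oneIrr G ∈ X ∪ Y) with h | h
    · exact h
    · exfalso
      have h2 := hYdeg _ h
      rw [show charDegree (oneIrr G : G → ℂ) = 1 from dg_triv] at h2
      rw [Int.modEq_iff_dvd] at h2
      rcases hε with e | e <;> rcases he with f | f <;> rw [e, f] at h2 <;> norm_num at h2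
  have hfacts : ∀ χ ∈ X, (εX χ = 1 ∨ εX χ = -1) ∧ (dg χ : ℤ) ≡ εX χ [ZMOD 11] ∧
      (χ ≠ triv G → 22 ≤ dg χ) ∧ dg χ ∣ inIdx P * Nat.card (Sylow 11 G) ∧
      ∃ v : ℤ, (χ : G → ℂ) t = v ∧ v ≡ (dg χ : ℤ) [ZMOD 44] := by
    intro χ hχ
    obtain ⟨h1, h2, h3⟩ := hX χ hχ
    obtain ⟨v, hv, h4, h5, -, h6⟩ := involution_int hG χ ht
    have hmod : εX χ ≡ v [ZMOD 11] := modEq_mul χ (p := 11) (by rw [← hxo, pow_orderOf_eq_one]) hcomm
      (hint χ (t ^ 11) (by rw [← pow_mul, mul_comm, pow_mul, ← ht, pow_orderOf_eq_one, one_pow]))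
      (h3 x hx hx1 t htC hno) hv
    have h44 : v ≡ (dg χ : ℤ) [ZMOD 44] := by
      simp only [Int.ModEq, dg] at *
      omega
    refine ⟨h1, h2, fun hne => ?_, ?_, v, hv, h44⟩
    · have := h6 hne
      simp only [Int.ModEq, dg] at *
      omega
    · have hf0 : charDegree (χ : G → ℂ) ≠ 0 := (irr_charDegree_pos χ).ne'
      refine CfsgLib.SmallSylow.natDegree_dvd_of_isIntegral hf0 ?_
      have h7 := isIntegral_clv x χ
      have h8 := h3 x hx hx1 1 (Subgroup.one_mem _) hreg1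
      rw [mul_one] at h8
      rw [clv, centralChar, CfsgLib.SmallSylow.index_centralizer P hP hx hx1, h8, ← irr_charDegree_cast] at h7
      rcases h1 with h | h
      · rw [h, Int.cast_one, mul_one] at h7; exact h7
      · rw [h, Int.cast_neg, Int.cast_one, mul_neg, mul_one, neg_div] at h7
        simpa using h7.neg
  -- an exceptional character
  obtain ⟨η, hη⟩ : Y.Nonempty := by
    by_contra h
    rw [Set.not_nonempty_iff_eq_empty] at h
    obtain ⟨X', Y', δ', σ', D⟩ := CfsgLib.SmallSylow.exists_data hM (by norm_num) P hP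
    rw [h, Nat.card_eq_zero.mpr (Or.inl inferInstance)] at hcY
    have hd : inIdx P ∣ 10 := ⟨Y'.card, by rw [show (10 : ℕ) = 11 - 1 from rfl, ← D.cardY, mul_comm]⟩
    have := Nat.div_mul_cancel hd
    rw [show (10 : ℕ) = 11 - 1 from rfl, ← hcY] at this
    omega
  have hηne : η ≠ triv G := fun e => Set.disjoint_left.mp hdisj htriv (e ▸ hη)
  have hεX : εX (triv G) = 1 := by
    obtain ⟨h1, h2, -⟩ := hfacts _ htriv
    rw [dg_triv, Int.modEq_iff_dvd] at h2
    rcases h1 with h | h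
    · exact h
    · rw [h] at h2; norm_num at h2
  have hrel' : ∀ g : G, ¬ 11 ∣ orderOf g →
      (ε : ℂ) * (η : G → ℂ) g = ∑ χ ∈ X.toFinset, (εX χ : ℂ) * (χ : G → ℂ) g := fun g hg => by
    rw [hrel η hη g hg, finsum_mem_eq_toFinset_sum]
  have hdeg : ε * (dg η : ℤ) = ∑ χ ∈ X.toFinset, εX χ * (dg χ : ℤ) := by
    have h := hrel' 1 hreg1
    simp only [irr_degree] at h
    exact_mod_cast h
  refine ⟨X.toFinset, εX, η, ε, Set.mem_toFinset.2 htriv, hεX, by rw [← Nat.card_eq_card_toFinset, hcX],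
    hηne, hε, fun χ hχ => hfacts χ (Set.mem_toFinset.1 hχ), hdeg, ?_⟩
  -- the degree of the exceptional character
  obtain ⟨w, hw, -, h5, -, h6⟩ := involution_int hG η ht
  have h44 : ε * w ≡ ε * (dg η : ℤ) [ZMOD 44] := by
    have h := hrel' t hno
    choose! v hv hv' using fun χ (hχ : χ ∈ X.toFinset) => (hfacts χ (Set.mem_toFinset.1 hχ)).2.2.2.2
    rw [hw, Finset.sum_congr rfl (g := fun χ => ((εX χ * v χ : ℤ) : ℂ)) (fun χ hχ => by
      rw [hv χ hχ]; push_cast; ring), ← Int.cast_sum] at h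
    have h' : ε * w = ∑ χ ∈ X.toFinset, εX χ * v χ := by exact_mod_cast h
    rw [h', hdeg, Int.modEq_iff_dvd, ← Finset.sum_sub_distrib]
    exact Finset.dvd_sum fun χ hχ => by
      rw [← mul_sub]
      exact dvd_mul_of_dvd_right (Int.modEq_iff_dvd.mp (hv' χ hχ)) _
  have := h6 hηne
  rcases hε with e | e <;> rw [e] at h44 <;> simp only [Int.ModEq, dg] at * <;> omega

/-- With inertial index two no involution centralises the Sylow subgroup. -/
theorem no_involution_two (hG : IsM12 G) (P : Sylow 11 G) (he : inIdx P = 2)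
    {t : G} (ht : orderOf t = 2) (htC : t ∈ Subgroup.centralizer ((P : Subgroup G) : Set G)) : False := by
  classical
  obtain ⟨X, δ, η, ε, htriv, hδ1, hcard, hηne, hε, hX, hdeg, hη22⟩ := block_data hG P (Or.inl he) ht htC
  obtain ⟨χ, hχ⟩ : ∃ χ, X.erase (triv G) = {χ} := Finset.card_eq_one.mp (by
    rw [Finset.card_erase_of_mem htriv, hcard, he])
  have hχX : χ ∈ X.erase (triv G) := hχ ▸ Finset.mem_singleton_self χ
  obtain ⟨hne, hmem⟩ := Finset.mem_erase.mp hχX
  rw [← Finset.add_sum_erase X _ htriv, hχ, Finset.sum_singleton, hδ1, dg_triv, Nat.cast_one, one_mul] at hdeg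
  obtain ⟨h1, h2, h22, -, -⟩ := hX χ hmem
  have hl := deg_list (Nat.lt_succ_of_le (dg_le hG χ)) (dg_dvd' hG χ) (h22 hne) (by
    rcases h1 with h | h <;> rw [h] at h2 <;> simp only [Int.ModEq, dg] at * <;> omega)
  obtain ⟨k1, k2⟩ := sum_two _ hl
  have hη := dg_dvd' hG η
  rcases h1 with h | h <;> rcases hε with e | e <;> rw [h, e] at hdeg <;> rw [h] at h2 <;>
    simp only [Int.ModEq, dg] at *
  · exact k1 (by omega) (show charDegree (χ : G → ℂ) + 1 ∣ 95040 by convert hη using 1; omega)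
  · omega
  · omega
  · exact k2 (by omega) (show charDegree (χ : G → ℂ) - 1 ∣ 95040 by convert hη using 1; omega)

/-- With inertial index five and 144 Sylow subgroups no involution centralises the Sylow subgroup. -/
theorem no_involution_five (hG : IsM12 G) (P : Sylow 11 G) (he : inIdx P = 5)
    (hn : Nat.card (Sylow 11 G) = 144) {t : G} (ht : orderOf t = 2)
    (htC : t ∈ Subgroup.centralizer ((P : Subgroup G) : Set G)) : False := by
  classical
  obtain ⟨X, δ, η, ε, htriv, hδ1, hcard, hηne, hε, hX, hdeg, hη22⟩ := block_data hG P (Or.inr he) ht htC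
  have hc4 : (X.erase (triv G)).card = 4 := by rw [Finset.card_erase_of_mem htriv, hcard, he]
  let q : Fin 4 ≃ (X.erase (triv G) : Finset _) := ((Fintype.equivFin _).trans
    (finCongr (by rw [Fintype.card_coe, hc4]))).symm
  have hlab : ∀ i, ∃ j : Fin 3, δ (q i).1 * (dg (q i).1 : ℤ) = ![(45 : ℤ), -120, 144] j := by
    intro i
    obtain ⟨hne, hmem⟩ := Finset.mem_erase.mp (q i).2
    obtain ⟨h1, h2, h22, hd, -⟩ := hX _ hmem
    rw [he, hn] at hd
    have hl := deg_five _ (deg_list (Nat.lt_succ_of_le (dg_le hG _)) (dg_dvd' hG _) (h22 hne) (by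
      rcases h1 with h | h <;> rw [h] at h2 <;> simp only [Int.ModEq, dg] at * <;> omega)) hd
    simp only [List.mem_cons, List.not_mem_nil, or_false] at hl
    rcases hl with e | e | e
    · refine ⟨0, ?_⟩
      rw [e] at h2 ⊢
      rcases h1 with h | h <;> rw [h] at h2 ⊢ <;> simp [Int.modEq_iff_dvd] at h2 ⊢ <;> omega
    · refine ⟨1, ?_⟩
      rw [e] at h2 ⊢
      rcases h1 with h | h <;> rw [h] at h2 ⊢ <;> simp [Int.modEq_iff_dvd] at h2 ⊢ <;> omega
    · refine ⟨2, ?_⟩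
      rw [e] at h2 ⊢
      rcases h1 with h | h <;> rw [h] at h2 ⊢ <;> simp [Int.modEq_iff_dvd] at h2 ⊢ <;> omega
  choose f hf using hlab
  rw [← Finset.add_sum_erase X _ htriv, hδ1, dg_triv, Nat.cast_one, one_mul, ← Finset.sum_coe_sort,
    ← Equiv.sum_comp q, Finset.sum_congr rfl fun i _ => hf i] at hdeg
  have hna : (ε * (dg η : ℤ)).natAbs = dg η := by rcases hε with e | e <;> simp [e]
  have := sum_five f _ hdeg (by rw [hna]; exact ⟨Nat.lt_succ_of_le (dg_le hG η), dg_dvd' hG η⟩)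
  omega

end CfsgSimpleM12
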