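/-
Determination of the characters that do not vanish at an element of order eleven.
-/
import Cfsg.Agent.Lib.SimpleM12.Eleven
import Cfsg.Agent.Lib.SimpleM12.Chars
import Mathlib.Data.Fin.Tuple.Sort

set_option autoImplicit false
set_option linter.style.haveILetI false
set_option linter.unusedSectionVars false

namespace CfsgSimpleM12

open Cfsg CfsgLib.CharTheory CfsgSimpleM11
open scoped ComplexConjugate

universe u
variable {G : Type u} [Group G] [Fintype G]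

/-- The possible degrees of a nontrivial character. -/
abbrev degrees : List ℕ := [2, 3, 4, 5, 6, 8, 9, 10, 11, 12, 15, 16, 18, 20, 22, 24, 27, 30, 32, 33, 36, 40, 44, 45, 48, 54, 55, 60, 64, 66, 72, 80, 88, 90, 96, 99, 108, 110, 120, 132, 135, 144, 160, 165, 176, 180, 192, 198, 216, 220, 240, 264, 270, 288, 297]

/-- The signed degrees congruent to one modulo eleven. -/
abbrev labels : Fin 7 → ℤ := ![12, 45, 144, -10, -32, -54, -120]

/-- The candidate shapes: four signed degrees and the signed exceptional degree. -/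
abbrev rows : Fin 26 → Fin 5 → ℤ := ![
  ![12, 12, 12, -10, -27],
  ![12, 12, 12, -32, -5],
  ![12, 12, 45, -10, -60],
  ![12, 12, 45, -54, -16],
  ![12, 12, -10, -10, -5],
  ![12, 45, -10, -32, -16],
  ![12, 45, -10, -54, 6],
  ![12, 45, -10, -120, 72],
  ![12, 45, -32, -32, 6],
  ![12, 144, -10, -120, -27],
  ![12, 144, -32, -120, -5],
  ![45, 45, 45, -120, -16],
  ![45, 45, -10, -54, -27],
  ![45, 45, -32, -32, -27],
  ![45, 45, -32, -54, -5],
  ![45, 144, -10, -120, -60],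
  ![45, 144, -54, -120, -16],
  ![45, -10, -10, -10, -16],
  ![45, -10, -10, -32, 6],
  ![45, -10, -54, -54, 72],
  ![45, -32, -32, -54, 72],
  ![45, -32, -54, -120, 160],
  ![144, -10, -10, -120, -5],
  ![144, -10, -54, -54, -27],
  ![144, -32, -32, -54, -27],
  ![144, -32, -54, -54, -5]]

/-- The shape of the column of an element of order eleven. -/
structure Shape (a : G) (D : Fin 5 → ℤ) where
  ch : Fin 5 → IrrCharacter G
  inj : Function.Injective ch
  ne_triv : ∀ i, ch i ≠ triv G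
  ne_inv : ∀ i, ch i ≠ invIrr (ch 4)
  deg : ∀ i, (dg (ch i) : ℤ) = |D i|
  real : ∀ i, i ≠ 4 → (ch i : G → ℂ) a = ((D i).sign : ℂ) ∧ (ch i : G → ℂ) a⁻¹ = ((D i).sign : ℂ)
  pair_sum : (ch 4 : G → ℂ) a + (ch 4 : G → ℂ) a⁻¹ = ((D 4).sign : ℂ)
  pair_ne : (ch 4 : G → ℂ) a ≠ (ch 4 : G → ℂ) a⁻¹
  rest : ∀ χ, χ ≠ triv G → (∀ i, χ ≠ ch i) → χ ≠ invIrr (ch 4) →
    (χ : G → ℂ) a = 0 ∧ (χ : G → ℂ) a⁻¹ = 0 ∧ 11 ∣ dg χ

theorem degree_aux : ((List.range 309).all fun d => decide (d < 2) || 95040 % d != 0 || degrees.contains d) = true := by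
  decide +kernel

theorem dg_mem (hG : IsM12 G) {χ : IrrCharacter G} (h : χ ≠ triv G) : dg χ ∈ degrees := by
  have h1 := List.all_eq_true.1 degree_aux (dg χ) (List.mem_range.2 (Nat.lt_succ_of_le (dg_le hG χ)))
  simp only [Bool.or_eq_true, bne_iff_ne, ne_eq, decide_eq_true_eq, List.contains_iff_mem] at h1
  rcases h1 with (h2 | h2) | h2
  · exfalso
    have := CfsgLib.Blocks.irr_charDegree_pos χ
    exact h (eq_triv_of_dg_one hG (by simp only [dg] at *; omega))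
  · exact absurd (Nat.mod_eq_zero_of_dvd (dg_dvd' hG χ)) h2
  · exact h2

theorem excDeg_mem : ∀ {d : ℕ}, d ∈ degrees → ∀ {s : ℤ}, s ∈ ([1, -1] : List ℤ) → ((d : ℤ) + 5 * s) % 11 = 0 →
    (d, s) ∈ ([(5, -1), (6, 1), (16, -1), (27, -1), (60, -1), (72, 1), (160, 1), (192, -1), (270, 1)] : List (ℕ × ℤ)) := by
  decide +kernel

theorem excList_mem : ∀ {d : ℕ}, d ∈ degrees → ∀ {s : ℤ}, s ∈ ([1, -1] : List ℤ) → ((d : ℤ) + 5 * s) % 11 = 0 →
    s * (d : ℤ) ∈ ([-5, 6, -16, -27, -60, 72, 160, -192, 270] : List ℤ) := by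
  decide +kernel

theorem twoDeg_mem : ∀ {d : ℕ}, d ∈ degrees → ∀ {r : ℤ}, r ∈ ([2, -2] : List ℤ) → ((d : ℤ) + 10 * r) % 11 = 0 →
    d ∈ ([2, 9, 20, 24, 64, 90, 108, 240, 288] : List ℕ) := by
  decide +kernel

theorem single_check : ∀ d ∈ ([2, 9, 20, 24, 64, 90, 108, 240, 288] : List ℕ),
    ∀ es ∈ ([(5, -1), (6, 1), (16, -1), (27, -1), (60, -1), (72, 1), (160, 1), (192, -1), (270, 1)] : List (ℕ × ℤ)),
    ∀ r ∈ ([2, -2] : List ℤ), 1 + es.2 * (es.1 : ℤ) + r * (d : ℤ) = 0 → r = (d : ℤ) := by decide +kernel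

theorem four_check : ∀ d ∈ degrees, ∀ r ∈ ([1, -1] : List ℤ), ((d : ℤ) + 10 * r) % 11 = 0 →
    ∃ j, r * (d : ℤ) = labels j := by decide +kernel

theorem row_check : ∀ a b c d : Fin 7, a ≤ b → b ≤ c → c ≤ d →
    ∀ E ∈ ([-5, 6, -16, -27, -60, 72, 160, -192, 270] : List ℤ),
    1 + (labels a + labels b + labels c + labels d) + E = 0 →
    1 + 2 * E ^ 2 + (labels a ^ 2 + labels b ^ 2 + labels c ^ 2 + labels d ^ 2) ≤ 95040 →
    (95040 - (1 + 2 * E ^ 2 + (labels a ^ 2 + labels b ^ 2 + labels c ^ 2 + labels d ^ 2))) % 121 = 0 →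
    ∃ k : Fin 26, rows k = ![labels a, labels b, labels c, labels d, E] := by decide +kernel

theorem col_self (hG : IsM12 G) {a : G} (ha : orderOf a = 11) :
    ∑ χ : IrrCharacter G, (χ : G → ℂ) a * (χ : G → ℂ) a⁻¹ = 11 := by
  classical
  have h := sum_irr_mul_conj a a
  rw [if_pos (IsConj.refl a), cent11 hG ha] at h
  simp only [← irr_inv] at h
  exact_mod_cast h

theorem col_sq (hG : IsM12 G) {a : G} (ha : orderOf a = 11) :
    ∑ χ : IrrCharacter G, (χ : G → ℂ) a * (χ : G → ℂ) a = 0 := by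
  classical
  have h := sum_irr_mul_conj a a⁻¹
  rw [if_neg (not_conj_inv hG ha)] at h
  simp only [← irr_inv, inv_inv] at h
  exact h

theorem exists_shape (hG : IsM12 G) {a : G} (ha : orderOf a = 11) :
    ∃ k : Fin 26, Nonempty (Shape a (rows k)) := by
  classical
  haveI := simple hG
  have ha1 : a ≠ 1 := fun e => by rw [e, orderOf_one] at ha; norm_num at ha
  choose S T N hS hT hN hpar using eleven_data hG ha
  set I := Finset.univ (α := IrrCharacter G) with hI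
  have hsum2 : ∑ χ ∈ I, ((χ : G → ℂ) a⁻¹ * (χ : G → ℂ) a⁻¹) = 0 := by
    have hai : orderOf a⁻¹ = 11 := by rw [orderOf_inv, ha]
    simpa using col_sq hG hai
  have hS2 : ∑ χ ∈ I, S χ ^ 2 = 22 := by
    have : ((∑ χ ∈ I, S χ ^ 2 : ℤ) : ℂ) = ((22 : ℤ) : ℂ) := by
      push_cast
      rw [Finset.sum_congr rfl (g := fun χ : IrrCharacter G => (χ : G → ℂ) a * (χ : G → ℂ) a +
        (2 * ((χ : G → ℂ) a * (χ : G → ℂ) a⁻¹) + (χ : G → ℂ) a⁻¹ * (χ : G → ℂ) a⁻¹))
        (fun χ _ => by rw [← hS χ]; ring), Finset.sum_add_distrib, Finset.sum_add_distrib, ← Finset.mul_sum,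
        hsum2, hI, col_sq hG ha, col_self hG ha]
      norm_num
    exact_mod_cast this
  have hT2 : ∑ χ ∈ I, T χ ^ 2 = 2 := by
    have : ((-11 * ∑ χ ∈ I, T χ ^ 2 : ℤ) : ℂ) = ((-22 : ℤ) : ℂ) := by
      push_cast
      rw [Finset.mul_sum]
      rw [Finset.sum_congr rfl (g := fun χ : IrrCharacter G => (χ : G → ℂ) a * (χ : G → ℂ) a -
        (2 * ((χ : G → ℂ) a * (χ : G → ℂ) a⁻¹) - (χ : G → ℂ) a⁻¹ * (χ : G → ℂ) a⁻¹))
        (fun χ _ => by rw [← hT χ]; ring), Finset.sum_sub_distrib, Finset.sum_sub_distrib, ← Finset.mul_sum,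
        hsum2, hI, col_sq hG ha, col_self hG ha]
      norm_num
    have := Int.cast_injective this
    omega
  have hDS : ∑ χ ∈ I, (dg χ : ℤ) * S χ = 0 := by
    have : ((∑ χ ∈ I, (dg χ : ℤ) * S χ : ℤ) : ℂ) = ((0 : ℤ) : ℂ) := by
      push_cast
      simp only [← hS, mul_add, Finset.sum_add_distrib]
      rw [col_dg ha1, col_dg (inv_ne_one.mpr ha1), add_zero]
    exact_mod_cast this
  -- the exceptional pair
  obtain ⟨e, he⟩ : ∃ e, T e ≠ 0 := by
    by_contra h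
    push Not at h
    simp [h] at hT2
  set e' := invIrr e with he'
  have hSe : S e' = S e := by
    have h1 := hS e'
    rw [invIrr_apply, invIrr_apply, inv_inv, add_comm, hS e] at h1
    exact_mod_cast h1.symm
  have hTe : T e' ^ 2 = T e ^ 2 := by
    have h1 := hT e'
    rw [invIrr_apply, invIrr_apply, inv_inv, sub_sq_comm, hT e] at h1
    have h2 : ((T e ^ 2 : ℤ) : ℂ) = ((T e' ^ 2 : ℤ) : ℂ) := by
      push_cast
      linear_combination (-1 / 11 : ℂ) * h1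
    exact_mod_cast h2.symm
  have hne : (e : G → ℂ) a ≠ (e : G → ℂ) a⁻¹ := by
    intro h
    have h1 := hT e
    rw [h, sub_self] at h1
    have h2 : (T e : ℂ) ^ 2 = 0 := by linear_combination (1 / 11 : ℂ) * h1
    exact he (by exact_mod_cast pow_eq_zero_iff (n := 2) (by norm_num) |>.mp h2)
  have hee : e ≠ e' := fun h => hne (by
    have := congrArg (fun ψ : IrrCharacter G => (ψ : G → ℂ) a) h
    simpa [he', invIrr_apply] using this)
  have hTe2 : 0 < T e ^ 2 := by positivity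
  have hpair : ∀ F : IrrCharacter G → ℤ,
      ∑ χ ∈ I, F χ = F e + F e' + ∑ χ ∈ (I.erase e).erase e', F χ := by
    intro F
    rw [← Finset.add_sum_erase I F (Finset.mem_univ e),
      ← Finset.add_sum_erase (I.erase e) F (Finset.mem_erase.2 ⟨hee.symm, Finset.mem_univ e'⟩), add_assoc]
  have hT' := hpair (fun χ => T χ ^ 2)
  rw [hT2, hTe] at hT'
  have hrestT : ∀ χ, χ ≠ e → χ ≠ e' → T χ = 0 := by
    intro χ h1 h2
    have h0 : 0 ≤ ∑ ψ ∈ (I.erase e).erase e', T ψ ^ 2 := Finset.sum_nonneg fun _ _ => sq_nonneg _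
    have h3 : ∑ ψ ∈ (I.erase e).erase e', T ψ ^ 2 = 0 := by omega
    have := (Finset.sum_eq_zero_iff_of_nonneg fun ψ _ => sq_nonneg (T ψ)).mp h3 χ
      (Finset.mem_erase.2 ⟨h2, Finset.mem_erase.2 ⟨h1, Finset.mem_univ _⟩⟩)
    exact pow_eq_zero_iff (n := 2) (by norm_num) |>.mp this
  have hTe1 : T e ^ 2 = 1 := by
    have h0 : 0 ≤ ∑ ψ ∈ (I.erase e).erase e', T ψ ^ 2 := Finset.sum_nonneg fun _ _ => sq_nonneg _
    omega
  have hσodd : S e % 2 = 1 := by
    have h1 := hpar e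
    rcases sq_eq_one_iff.mp hTe1 with h | h <;> rw [h] at h1 <;> omega
  have hval : ∀ χ, T χ = 0 → ∃ r : ℤ, S χ = 2 * r ∧ (χ : G → ℂ) a = r ∧ (χ : G → ℂ) a⁻¹ = r := by
    intro χ h
    obtain ⟨r, hr⟩ := hpar χ
    rw [h, sub_zero] at hr
    refine ⟨r, hr, ?_⟩
    have h1 := hT χ
    rw [h, Int.cast_zero, zero_pow (by norm_num), mul_zero] at h1
    have h2 : (χ : G → ℂ) a = (χ : G → ℂ) a⁻¹ := sub_eq_zero.mp (pow_eq_zero_iff (n := 2) (by norm_num) |>.mp h1)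
    have h3 := hS χ
    rw [hr, h2] at h3
    push_cast at h3
    have h4 : (χ : G → ℂ) a⁻¹ = r := by linear_combination (1 / 2 : ℂ) * h3
    exact ⟨h2.trans h4, h4⟩
  choose! r hr hra hra' using hval
  -- the trivial character
  have htS : S (triv G) = 2 := by
    have := hS (triv G)
    rw [triv_apply, triv_apply] at this
    have h2 : ((2 : ℤ) : ℂ) = (S (triv G) : ℂ) := by rw [← this]; norm_num
    exact_mod_cast h2.symm
  have hte : triv G ≠ e := fun h => by rw [h] at htS; omega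
  have hte' : triv G ≠ e' := fun h => by rw [h, hSe] at htS; omega
  have htT : T (triv G) = 0 := hrestT _ hte hte'
  set R := ((I.erase e).erase e').erase (triv G) with hR
  have hsplit : ∀ F : IrrCharacter G → ℤ,
      ∑ χ ∈ I, F χ = F e + F e' + F (triv G) + ∑ χ ∈ R, F χ := by
    intro F
    rw [hpair F, ← Finset.add_sum_erase _ F (show triv G ∈ (I.erase e).erase e' from
      Finset.mem_erase.2 ⟨hte', Finset.mem_erase.2 ⟨hte, Finset.mem_univ _⟩⟩)]
    ring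
  have hRmem : ∀ χ, χ ∈ R ↔ χ ≠ triv G ∧ χ ≠ e' ∧ χ ≠ e := fun χ => by simp [hR, hI]
  have hRT : ∀ χ ∈ R, T χ = 0 := fun χ h => hrestT χ ((hRmem χ).1 h).2.2 ((hRmem χ).1 h).2.1
  have hA := hsplit (fun χ => S χ ^ 2)
  rw [hS2, hSe, htS, Finset.sum_congr rfl (fun χ hχ => by rw [hr χ (hRT χ hχ), mul_pow]), ← Finset.mul_sum] at hA
  have hB := hsplit (fun χ => (dg χ : ℤ) * S χ)
  rw [hDS, hSe, htS, dg_invIrr, dg_triv, Finset.sum_congr rfl (fun χ hχ => by
    rw [hr χ (hRT χ hχ), mul_left_comm]), ← Finset.mul_sum, Nat.cast_one, one_mul] at hB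
  have hcong : ∀ χ, ((dg χ : ℤ) + 5 * S χ) % 11 = 0 := fun χ => by rw [hN χ]; simp
  have hmem : ∀ χ, χ ≠ triv G → dg χ ∈ degrees := fun χ h => dg_mem hG h
  have hσsq : S e ^ 2 = 1 := by
    have h1 : 0 ≤ ∑ χ ∈ R, r χ ^ 2 := Finset.sum_nonneg fun _ _ => sq_nonneg _
    have h2 : S e ^ 2 ≤ 9 := by omega
    have h3 : -3 ≤ S e ∧ S e ≤ 3 := ⟨by nlinarith, by nlinarith⟩
    obtain ⟨h3, h4⟩ := h3
    interval_cases hs : S e <;> try omega
    all_goals
      exfalso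
      have h5 : ∑ χ ∈ R, r χ ^ 2 = 0 := by omega
      have h6 : ∑ χ ∈ R, (dg χ : ℤ) * r χ = 0 := Finset.sum_eq_zero fun χ hχ => by
        have := (Finset.sum_eq_zero_iff_of_nonneg fun ψ _ => sq_nonneg (r ψ)).mp h5 χ hχ
        rw [pow_eq_zero_iff (n := 2) (by norm_num) |>.mp this, mul_zero]
      omega
  have hRsq : ∑ χ ∈ R, r χ ^ 2 = 4 := by omega
  have hσ : S e ∈ ([1, -1] : List ℤ) := by
    rcases sq_eq_one_iff.mp hσsq with h | h <;> simp [h]
  set Q := R.filter (fun χ => r χ ≠ 0) with hQ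
  have hQsum : ∀ F : IrrCharacter G → ℤ, (∀ χ, r χ = 0 → F χ = 0) → ∑ χ ∈ Q, F χ = ∑ χ ∈ R, F χ :=
    fun F hF => Finset.sum_filter_of_ne fun χ _ h h0 => h (hF χ h0)
  have hQsq : ∑ χ ∈ Q, r χ ^ 2 = 4 := by rw [hQsum _ (fun χ h => by simp [h])]; exact hRsq
  have hQR : ∀ χ ∈ Q, χ ∈ R ∧ r χ ≠ 0 := fun χ hχ => Finset.mem_filter.mp hχ
  have hQd : ∑ χ ∈ Q, (dg χ : ℤ) * r χ = ∑ χ ∈ R, (dg χ : ℤ) * r χ := hQsum _ (fun χ h => by simp [h])
  -- no single character with value two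
  have hsmall : ∀ χ ∈ Q, r χ = 1 ∨ r χ = -1 := by
    intro χ hχ
    have h1 : r χ ^ 2 ≤ 4 := hQsq ▸ Finset.single_le_sum (f := fun ψ => r ψ ^ 2) (fun _ _ => sq_nonneg _) hχ
    have h0 := (hQR χ hχ).2
    have h3 : -2 ≤ r χ ∧ r χ ≤ 2 := ⟨by nlinarith, by nlinarith⟩
    by_contra hc
    have h2 : r χ ∈ ([2, -2] : List ℤ) := by simp; omega
    have hother : ∀ ψ ∈ Q, ψ = χ := by
      intro ψ hψ
      by_contra hne'
      have := Finset.add_sum_erase Q (fun ψ => r ψ ^ 2) hχ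
      have h4 : r ψ ^ 2 ≤ ∑ x ∈ Q.erase χ, r x ^ 2 :=
        Finset.single_le_sum (f := fun ψ => r ψ ^ 2) (fun _ _ => sq_nonneg _) (Finset.mem_erase.2 ⟨hne', hψ⟩)
      have h5 : 0 < r ψ ^ 2 := by
        have := (hQR ψ hψ).2
        positivity
      have h6 : r χ ^ 2 = 4 := by
        simp only [List.mem_cons, List.not_mem_nil, or_false] at h2
        rcases h2 with h | h <;> rw [h] <;> norm_num
      simp only [hQsq] at this
      omega
    have hd : ∑ ψ ∈ Q, (dg ψ : ℤ) * r ψ = dg χ * r χ := by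
      rw [Finset.eq_singleton_iff_unique_mem.mpr ⟨hχ, hother⟩, Finset.sum_singleton]
    obtain ⟨hn, -, -⟩ := (hRmem χ).1 (hQR χ hχ).1
    have hTχ := hRT χ (hQR χ hχ).1
    have hk := single_check (dg χ) (twoDeg_mem (hmem χ hn) h2 (by
        have := hcong χ; rw [hr χ hTχ] at this; omega))
      (dg e, S e) (excDeg_mem (hmem e hte.symm) hσ (hcong e)) (r χ) h2 (by dsimp only; linarith)
    refine hn (Subtype.ext (eq_one_of_eq_degree χ ha1 ?_))
    rw [hra χ hTχ, irr_degree, hk]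
    push_cast
    rfl
  have hcard : Q.card = 4 := by
    have : ∑ χ ∈ Q, r χ ^ 2 = ∑ χ ∈ Q, (1 : ℤ) := Finset.sum_congr rfl fun χ hχ => by
      rcases hsmall χ hχ with h | h <;> rw [h] <;> norm_num
    rw [hQsq, Finset.sum_const, nsmul_eq_mul, mul_one] at this
    exact_mod_cast this.symm
  let q0 : Fin 4 ≃ Q := ((Fintype.equivFin Q).trans (finCongr (by rw [Fintype.card_coe, hcard]))).symm
  have hlab : ∀ i, ∃ j : Fin 7, r (q0 i).1 * (dg (q0 i).1 : ℤ) = labels j := by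
    intro i
    obtain ⟨hq1, -⟩ := hQR _ (q0 i).2
    exact four_check _ (hmem _ ((hRmem _).1 hq1).1) _ (by rcases hsmall _ (q0 i).2 with h | h <;> simp [h])
      (by have := hcong (q0 i).1; rw [hr _ (hRT _ hq1)] at this; omega)
  choose L0 hL0 using hlab
  let q : Fin 4 ≃ Q := (Tuple.sort L0).trans q0
  have hmono : Monotone (L0 ∘ Tuple.sort L0) := Tuple.monotone_sort L0
  set L : Fin 4 → Fin 7 := L0 ∘ Tuple.sort L0 with hLdef
  have hL : ∀ i, r (q i).1 * (dg (q i).1 : ℤ) = labels (L i) := fun i => hL0 _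
  have hqsum : ∀ F : IrrCharacter G → ℤ, ∑ i, F (q i).1 = ∑ χ ∈ Q, F χ := fun F => by
    rw [Equiv.sum_comp q (fun x : Q => F x.1), Finset.sum_coe_sort]
  have hsq := hsplit (fun χ => (dg χ : ℤ) ^ 2)
  have htot : ∑ χ ∈ I, (dg χ : ℤ) ^ 2 = 95040 := by exact_mod_cast sum_dg_sq hG
  rw [htot, dg_invIrr, dg_triv, ← Finset.sum_filter_add_sum_filter_not R (fun χ => r χ ≠ 0), ← hQ,
    ← hqsum, Finset.sum_congr rfl (g := fun i => labels (L i) ^ 2) (fun i _ => by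
      rw [← hL, mul_pow, sq_eq_one_iff.mpr (hsmall _ (q i).2), one_mul])] at hsq
  obtain ⟨K, hK⟩ : ∃ K : ℕ, ∑ χ ∈ R.filter (fun χ => ¬ r χ ≠ 0), (dg χ : ℤ) ^ 2 = 121 * (K : ℤ) := by
    have : ∀ χ ∈ R.filter (fun χ => ¬ r χ ≠ 0), 11 ∣ dg χ := by
      intro χ hχ
      obtain ⟨h1, h2⟩ := Finset.mem_filter.mp hχ
      have := hcong χ
      rw [hr χ (hRT χ h1), not_not.mp h2] at this
      omega
    choose! k hk using this
    refine ⟨∑ χ ∈ R.filter (fun χ => ¬ r χ ≠ 0), k χ ^ 2, ?_⟩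
    rw [Nat.cast_sum, Finset.mul_sum]
    refine Finset.sum_congr rfl fun χ hχ => ?_
    rw [hk χ hχ]; push_cast; ring
  rw [hK] at hsq
  have hlin : 1 + ∑ i, labels (L i) + S e * (dg e : ℤ) = 0 := by
    simp only [← hL]
    rw [hqsum (fun χ => r χ * (dg χ : ℤ))]
    simp only [mul_comm (r _)]
    linarith
  have hEsq : (S e * (dg e : ℤ)) ^ 2 = (dg e : ℤ) ^ 2 := by rw [mul_pow, hσsq, one_mul]
  rw [Fin.sum_univ_four] at hlin hsq
  obtain ⟨k, hk⟩ := row_check (L 0) (L 1) (L 2) (L 3) (hmono (by decide)) (hmono (by decide)) (hmono (by decide))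
    (S e * (dg e : ℤ)) (excList_mem (hmem e hte.symm) hσ (hcong e)) hlin
    (by rw [hEsq]; omega) (by rw [hEsq]; omega)
  refine ⟨k, ⟨?_⟩⟩
  let f : Fin 5 → IrrCharacter G := ![(q 0).1, (q 1).1, (q 2).1, (q 3).1, e]
  have hfmem : ∀ j : Fin 4, f j.castSucc = (q j).1 := fun j => by fin_cases j <;> rfl
  have hrow : ∀ j : Fin 4, rows k j.castSucc = labels (L j) := fun j => by
    rw [hk]; fin_cases j <;> rfl
  have hrow4 : rows k 4 = S e * (dg e : ℤ) := by rw [hk]; rfl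
  have hqR : ∀ j, (q j).1 ≠ triv G ∧ (q j).1 ≠ e' ∧ (q j).1 ≠ e := fun j => (hRmem _).1 (hQR _ (q j).2).1
  have hjd : ∀ j : Fin 4, (dg (q j).1 : ℤ) = |rows k j.castSucc| ∧ r (q j).1 = (rows k j.castSucc).sign := by
    intro j
    have hpos : 0 < (dg (q j).1 : ℤ) := by exact_mod_cast CfsgLib.Blocks.irr_charDegree_pos (q j).1
    rw [hrow, ← hL]
    rcases hsmall _ (q j).2 with h | h <;> rw [h]
    · exact ⟨by rw [one_mul, abs_of_pos hpos], by rw [one_mul, Int.sign_eq_one_of_pos hpos]⟩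
    · exact ⟨by rw [neg_one_mul, abs_neg, abs_of_pos hpos],
        by rw [neg_one_mul, Int.sign_neg, Int.sign_eq_one_of_pos hpos]⟩
  have hpe : 0 < (dg e : ℤ) := by exact_mod_cast CfsgLib.Blocks.irr_charDegree_pos e
  refine ⟨f, ?_, ?_, ?_, ?_, ?_, ?_, hne, ?_⟩
  · have hq : ∀ i j, i ≠ j → (q i).1 ≠ (q j).1 := fun i j h e' =>
      h (q.injective (Subtype.ext e'))
    intro x y hxy
    fin_cases x <;> fin_cases y <;> simp [f] at hxy ⊢ <;>
      first
        | exact absurd hxy (hq _ _ (by decide))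
        | exact absurd hxy (hqR _).2.2
        | exact absurd hxy.symm (hqR _).2.2
  · intro i
    fin_cases i <;> first | exact (hqR _).1 | exact hte.symm
  · intro i
    show f i ≠ e'
    fin_cases i <;> first | exact (hqR _).2.1 | exact hee
  · intro i
    refine Fin.lastCases ?_ (fun j => ?_) i
    · show (dg e : ℤ) = |rows k 4|
      rw [hrow4, abs_mul, abs_of_pos hpe]
      rcases sq_eq_one_iff.mp hσsq with h | h <;> simp [h]
    · rw [hfmem]; exact (hjd j).1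
  · intro i hi
    revert hi
    refine Fin.lastCases (fun h => absurd rfl h) (fun j _ => ?_) i
    rw [hfmem, ← (hjd j).2]
    exact ⟨hra _ (hRT _ (hQR _ (q j).2).1), hra' _ (hRT _ (hQR _ (q j).2).1)⟩
  · show (e : G → ℂ) a + (e : G → ℂ) a⁻¹ = _
    rw [hS e, hrow4, Int.sign_mul, Int.sign_eq_one_of_pos hpe, mul_one]
    rcases sq_eq_one_iff.mp hσsq with h | h <;> simp [h]
  · intro χ hne1 hχ hne2
    have h1 : χ ∈ R := (hRmem χ).2 ⟨hne1, hne2, hχ 4⟩
    have h0 : r χ = 0 := by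
      by_contra hh
      have hm : χ ∈ Q := Finset.mem_filter.mpr ⟨h1, hh⟩
      refine hχ (q.symm ⟨χ, hm⟩).castSucc ?_
      rw [hfmem, q.apply_symm_apply]
    have hTχ := hRT χ h1
    refine ⟨by rw [hra χ hTχ, h0, Int.cast_zero], by rw [hra' χ hTχ, h0, Int.cast_zero], ?_⟩
    have := hcong χ
    rw [hr χ hTχ, h0] at this
    omega

end CfsgSimpleM12
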