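/-
Relations between the values of the characters of the shape.
-/
import Cfsg.Agent.Lib.SimpleM12.ShapeMain
import Cfsg.Agent.Lib.SimpleM11.Rational

set_option autoImplicit false
set_option linter.style.haveILetI false
set_option linter.unusedSectionVars false

namespace CfsgSimpleM12

open Cfsg CfsgLib.CharTheory CfsgLib.Blocks CfsgSimpleM11
open scoped ComplexConjugate

universe u
variable {G : Type u} [Group G] [Fintype G]

theorem regular (hG : IsM12 G) {g : G} (hg : orderOf g ≠ 11) :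
    ¬ 11 ∣ orderOf g ∧ g ^ 8640 = 1 := by
  have h1 : ¬ 11 ∣ orderOf g := fun h => by
    obtain ⟨k, hk⟩ := h
    have ho : orderOf (g ^ k) = 11 := by
      rw [orderOf_pow, hk, Nat.gcd_mul_left_left]
      have : 0 < k := Nat.pos_of_ne_zero fun e => by
        rw [e, mul_zero] at hk; exact (orderOf_pos g).ne' hk
      rw [Nat.mul_div_cancel _ this]
    have hm : g ∈ Subgroup.centralizer ({g ^ k} : Set G) :=
      Subgroup.mem_centralizer_singleton_iff.mpr (Commute.self_pow g k)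
    have := Subgroup.orderOf_dvd_natCard _ hm
    rw [cent11 hG ho, hk] at this
    have h2 := Nat.le_of_dvd (by norm_num) this
    have h3 : k ≠ 1 := fun e => hg (by rw [hk, e])
    have h4 : k ≠ 0 := fun e => by rw [e, mul_zero] at hk; exact (orderOf_pos g).ne' hk
    omega
  exact ⟨h1, orderOf_dvd_iff_pow_eq_one.mp (dvd_8640 (card_eq hG ▸ orderOf_dvd_natCard g) h1)⟩

theorem cc_dvd (hG : IsM12 G) {g : G} (hg1 : g ≠ 1) (hg : orderOf g ≠ 11) : cc g ∣ 8640 :=
  dvd_8640 (card_eq hG ▸ Subgroup.card_subgroup_dvd_card _)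
    (not_eleven_dvd_cent hG (fun e => hg1 (orderOf_eq_one_iff.mp e)) hg)

theorem orderOf_dvd_cc (g : G) : orderOf g ∣ cc g :=
  Subgroup.orderOf_dvd_natCard _ (Subgroup.mem_centralizer_singleton_iff.mpr rfl)

/-- Products of two involutions do not have order eleven. -/
theorem pairCount_zero (hG : IsM12 G) {a : G} (ha : orderOf a = 11) {i j : G} (hi : orderOf i = 2)
    (hj : orderOf j = 2) : pairCount i j a = 0 := by
  rw [pairCount, Nat.card_eq_zero]
  refine Or.inl ⟨fun ⟨x, hx1, hx2⟩ => ?_⟩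
  have e1 : x * x = 1 := by
    rw [← pow_two, ← (orderOf_of_isConj hx1).trans hi, pow_orderOf_eq_one]
  have e2 : (x⁻¹ * a) * (x⁻¹ * a) = 1 := by
    rw [← pow_two, ← (orderOf_of_isConj hx2).trans hj, pow_orderOf_eq_one]
  have e3 : x⁻¹ = x := inv_eq_of_mul_eq_one_left e1
  rw [e3] at e2
  refine not_inverted hG ha (i := x) ?_
  rw [e3]
  exact eq_inv_of_mul_eq_one_left (by simpa [mul_assoc] using e2)

namespace Shape

variable {a : G} {D : Fin 5 → ℤ} (Sh : Shape a D)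

include Sh in
theorem D_ne_zero (i : Fin 5) : D i ≠ 0 := fun h => by
  have := Sh.deg i
  rw [h, abs_zero] at this
  exact (irr_charDegree_pos (Sh.ch i)).ne' (by exact_mod_cast this)

include Sh in
theorem sign_ne_zero (i : Fin 5) : ((D i).sign : ℂ) ≠ 0 := by
  exact_mod_cast fun h => Sh.D_ne_zero i (Int.sign_eq_zero_iff_zero.mp h)

/-- A sum over all characters split along the shape. -/
theorem sum_split (F : IrrCharacter G → ℂ)
    (h : ∀ χ, χ ≠ triv G → (∀ i, χ ≠ Sh.ch i) → χ ≠ invIrr (Sh.ch 4) → F χ = 0) :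
    ∑ χ : IrrCharacter G, F χ = F (triv G) + ∑ i, F (Sh.ch i) + F (invIrr (Sh.ch 4)) := by
  classical
  have ht : triv G ≠ invIrr (Sh.ch 4) := fun e => by
    have h2 : invIrr (Sh.ch 4) = triv G := e.symm
    refine Sh.ne_triv 4 (Subtype.ext (funext fun g => ?_))
    have := congrArg (fun ψ : IrrCharacter G => (ψ : G → ℂ) g⁻¹) h2
    simpa [invIrr_apply, triv_apply] using this
  rw [← Finset.add_sum_erase _ F (Finset.mem_univ (triv G)),
    ← Finset.add_sum_erase _ F (Finset.mem_erase.2 ⟨ht.symm, Finset.mem_univ (invIrr (Sh.ch 4))⟩),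
    ← Finset.sum_image (f := F) (s := Finset.univ) (g := Sh.ch) (fun x _ y _ hxy => Sh.inj hxy)]
  rw [Finset.sum_subset (s₁ := Finset.univ.image Sh.ch)
    (s₂ := (Finset.univ.erase (triv G)).erase (invIrr (Sh.ch 4)))]
  · ring
  · intro χ hχ
    obtain ⟨i, -, rfl⟩ := Finset.mem_image.1 hχ
    exact Finset.mem_erase.2 ⟨Sh.ne_inv i, Finset.mem_erase.2 ⟨Sh.ne_triv i, Finset.mem_univ _⟩⟩
  · intro χ hχ hn
    obtain ⟨h1, h2⟩ := Finset.mem_erase.1 hχ
    exact h χ (Finset.mem_erase.1 h2).1 (fun i e => hn (Finset.mem_image.2 ⟨i, Finset.mem_univ _, e.symm⟩)) h1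

theorem exc_ne_zero : (Sh.ch 4 : G → ℂ) a ≠ 0 := by
  intro h
  refine Sh.pair_ne ?_
  rw [CfsgSimpleM11.irr_inv, h, map_zero]

theorem exc_unique (ψ : IrrCharacter G) (h : (ψ : G → ℂ) a = (Sh.ch 4 : G → ℂ) a) : ψ = Sh.ch 4 := by
  by_contra hne
  refine Sh.pair_ne ?_
  by_cases ht : ψ = triv G
  · rw [ht, triv_apply] at h
    rw [CfsgSimpleM11.irr_inv, ← h, map_one]
  by_cases hi : ψ = invIrr (Sh.ch 4)
  · rw [hi, invIrr_apply] at h
    exact h.symm
  by_cases hc : ∀ i, ψ ≠ Sh.ch i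
  · exact absurd ((Sh.rest ψ ht hc hi).1.symm.trans h).symm Sh.exc_ne_zero
  · push Not at hc
    obtain ⟨i, rfl⟩ := hc
    obtain ⟨e1, e2⟩ := Sh.real i (fun e => hne (by rw [e]))
    rw [CfsgSimpleM11.irr_inv, ← h, e1, map_intCast]

theorem exc_galois (hG : IsM12 G) (ha : orderOf a = 11) {g : G} (hg : orderOf g ≠ 11) :
    ∀ m : ℕ, m.Coprime (Nat.card G) → (Sh.ch 4 : G → ℂ) (g ^ m) = (Sh.ch 4 : G → ℂ) g := by
  intro m hm
  rw [card_eq hG] at hm
  obtain ⟨k, hk1, hk2⟩ := Nat.chineseRemainder (show Nat.Coprime 8640 11 by norm_num) m 1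
  have hk : k.Coprime (Nat.card G) := by
    rw [card_eq hG, show 95040 = 8640 * 11 from rfl]
    rw [show 95040 = 8640 * 11 from rfl] at hm
    refine Nat.Coprime.mul_right ?_ ?_
    · rw [Nat.Coprime, Nat.gcd_comm, Nat.gcd_rec, hk1, ← Nat.gcd_rec, Nat.gcd_comm]
      exact hm.coprime_mul_right_right
    · rw [Nat.Coprime, Nat.gcd_comm, Nat.gcd_rec, hk2, ← Nat.gcd_rec]
      norm_num
  have he : powIrr hk (Sh.ch 4) = Sh.ch 4 := by
    refine Sh.exc_unique _ ?_
    show (Sh.ch 4 : G → ℂ) (a ^ k) = _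
    rw [pow_red ha (show k % 11 = 1 % 11 from hk2), pow_one]
  rw [pow_eq_pow_of_modEq hk1.symm (regular hG hg).2]
  exact congrArg (fun ψ : IrrCharacter G => (ψ : G → ℂ) g) he

/-- The exceptional characters agree and are rational away from the elements of order eleven. -/
theorem exc_int (hG : IsM12 G) (ha : orderOf a = 11) {g : G} (hg : orderOf g ≠ 11) :
    ∃ z : ℤ, (Sh.ch 4 : G → ℂ) g = z ∧ (invIrr (Sh.ch 4) : G → ℂ) g = z := by
  have hinv := Sh.exc_galois hG ha hg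
  obtain ⟨z, hz⟩ := rational_int_of_invariant (isCharacter_of_irr (Sh.ch 4).2) g hinv
  exact ⟨z, hz, by rw [invIrr_apply, CfsgSimpleM11.irr_inv, hz, map_intCast]⟩

/-- The characters with a given signed degree have a rational sum. -/
theorem class_int (hG : IsM12 G) (ha : orderOf a = 11) {g : G} (hg : orderOf g ≠ 11) (d : ℤ)
    (hd : ∀ i, D i = d → i ≠ 4) (hd1 : |d| ≠ 1) :
    ∃ z : ℤ, ∑ i ∈ Finset.univ.filter (fun i => D i = d), (Sh.ch i : G → ℂ) g = z := by
  classical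
  have hchar : IsCharacter G (fun x => ∑ i ∈ Finset.univ.filter (fun i => D i = d), (Sh.ch i : G → ℂ) x) := by
    rw [show (fun x => ∑ i ∈ Finset.univ.filter (fun i => D i = d), (Sh.ch i : G → ℂ) x) =
      ∑ i ∈ Finset.univ.filter (fun i => D i = d), (Sh.ch i : G → ℂ) from
        (funext fun x => (Finset.sum_apply x _ _).symm)]
    exact isCharacter_sum _ _ fun i _ => isCharacter_of_irr (Sh.ch i).2
  refine rational_int_of_invariant hchar g fun m hm => ?_
  rw [card_eq hG] at hm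
  obtain ⟨k, hk1, hk2⟩ := Nat.chineseRemainder (show Nat.Coprime 8640 11 by norm_num) m 1
  have hk : k.Coprime (Nat.card G) := by
    rw [card_eq hG, show 95040 = 8640 * 11 from rfl]
    rw [show 95040 = 8640 * 11 from rfl] at hm
    refine Nat.Coprime.mul_right ?_ ?_
    · rw [Nat.Coprime, Nat.gcd_comm, Nat.gcd_rec, hk1, ← Nat.gcd_rec, Nat.gcd_comm]
      exact hm.coprime_mul_right_right
    · rw [Nat.Coprime, Nat.gcd_comm, Nat.gcd_rec, hk2, ← Nat.gcd_rec]
      norm_num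
  have hka : a ^ k = a := by rw [pow_red ha (show k % 11 = 1 % 11 from hk2), pow_one]
  set s := Finset.univ.filter (fun i => D i = d) with hs
  have hperm : ∀ i ∈ s, ∃ j ∈ s, powIrr hk (Sh.ch i) = Sh.ch j := by
    intro i hi
    have hiD : D i = d := (Finset.mem_filter.1 hi).2
    obtain ⟨e1, e2⟩ := Sh.real i (hd i hiD)
    set ψ := powIrr hk (Sh.ch i) with hψ
    have hv : ∀ x, (ψ : G → ℂ) x = (Sh.ch i : G → ℂ) (x ^ k) := fun x => rfl
    have hva : (ψ : G → ℂ) a = ((D i).sign : ℂ) := by rw [hv, hka, e1]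
    have hdeg : (dg ψ : ℤ) = |d| := by
      rw [← hiD, ← Sh.deg i]
      have h1 := hv 1
      rw [one_pow, irr_degree, irr_degree] at h1
      exact congrArg _ (Nat.cast_inj.1 h1)
    have h1 : ψ ≠ triv G := fun e => by
      rw [e, dg_triv, Nat.cast_one] at hdeg
      exact hd1 hdeg.symm
    have h2 : ψ ≠ invIrr (Sh.ch 4) := fun e => by
      refine Sh.pair_ne ?_
      rw [e, invIrr_apply] at hva
      have h' := congrArg conj hva
      rw [CfsgSimpleM11.irr_inv, Complex.conj_conj, map_intCast] at h'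
      rw [hva]
      exact h'
    by_contra hno
    push Not at hno
    by_cases hc : ∀ j, ψ ≠ Sh.ch j
    · exact Sh.sign_ne_zero i (hva.symm.trans (Sh.rest ψ h1 hc h2).1)
    · push Not at hc
      obtain ⟨j, hj⟩ := hc
      refine hno j (Finset.mem_filter.2 ⟨Finset.mem_univ _, ?_⟩) hj
      by_cases hj4 : j = 4
      · exfalso
        refine Sh.pair_ne ?_
        rw [← hj4, ← hj, CfsgSimpleM11.irr_inv, hva, map_intCast]
      · rw [hj, (Sh.real j hj4).1] at hva
        have hs' : (D j).sign = (D i).sign := by exact_mod_cast hva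
        have habs : |D j| = |d| := by rw [← Sh.deg j, ← hj]; exact hdeg
        rw [← hiD] at habs ⊢
        rw [← Int.sign_mul_abs (D j), ← Int.sign_mul_abs (D i), hs', habs]
  choose! π hπ hπ' using hperm
  have hinjOn : Set.InjOn π s := fun i hi j hj e => by
    apply Sh.inj
    apply (powIrr_bijective hk).1
    rw [hπ' i hi, hπ' j hj, e]
  show ∑ i ∈ s, (Sh.ch i : G → ℂ) (g ^ m) = ∑ i ∈ s, (Sh.ch i : G → ℂ) g
  rw [pow_eq_pow_of_modEq hk1.symm (regular hG hg).2, Finset.sum_congr rfl (g := fun i => (Sh.ch (π i) : G → ℂ) g)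
    fun i hi => (show (Sh.ch i : G → ℂ) (g ^ k) = _ from congrArg (fun ψ : IrrCharacter G => (ψ : G → ℂ) g) (hπ' i hi)),
    ← Finset.sum_image (f := fun j => (Sh.ch j : G → ℂ) g) hinjOn]
  refine Finset.sum_congr ?_ fun _ _ => rfl
  refine Finset.eq_of_subset_of_card_le (fun x hx => ?_) (le_of_eq (Finset.card_image_of_injOn hinjOn).symm)
  obtain ⟨i, hi, rfl⟩ := Finset.mem_image.1 hx
  exact hπ i hi

theorem int_of_unique (hG : IsM12 G) (ha : orderOf a = 11) {g : G} (hg : orderOf g ≠ 11) (i : Fin 5)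
    (huniq : ∀ j, D j = D i → j = i) (hi : i ≠ 4) (hd1 : |D i| ≠ 1) : ∃ z : ℤ, (Sh.ch i : G → ℂ) g = z := by
  classical
  obtain ⟨z, hz⟩ := Sh.class_int hG ha hg (D i) (fun j hj => by rw [huniq j hj]; exact hi) hd1
  refine ⟨z, ?_⟩
  rw [← hz, Finset.sum_eq_single_of_mem i (by simp)]
  exact fun j hj hne => absurd (huniq j (Finset.mem_filter.1 hj).2) hne

/-- Orthogonality with the column of the element of order eleven. -/
theorem orth (hG : IsM12 G) (ha : orderOf a = 11) {g : G} (hg : orderOf g ≠ 11) :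
    1 + ∑ i, ((D i).sign : ℂ) * (Sh.ch i : G → ℂ) g = 0 := by
  obtain ⟨z, hz, hz'⟩ := Sh.exc_int hG ha hg
  have h := col_orth (g := g) (h := a) (not_isConj_of_orderOf (by rw [orderOf_inv, ha]; exact hg))
  rw [Sh.sum_split _ (fun χ h1 h2 h3 => by rw [(Sh.rest χ h1 h2 h3).1, mul_zero]), triv_apply, triv_apply,
    Fin.sum_univ_five] at h
  rw [Fin.sum_univ_five, ← h, hz, hz', invIrr_apply, (Sh.real 0 (by decide)).1, (Sh.real 1 (by decide)).1,
    (Sh.real 2 (by decide)).1, (Sh.real 3 (by decide)).1, ← Sh.pair_sum]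
  ring

/-- The number of representations of the element of order eleven. -/
theorem count_eq (hG : IsM12 G) (ha : orderOf a = 11) {g h : G} (hg : orderOf g ≠ 11) (hh : orderOf h ≠ 11) :
    (pairCount g h a : ℂ) * (cc g : ℂ) * (cc h : ℂ) =
      95040 * (1 + ∑ i, (Sh.ch i : G → ℂ) g * (Sh.ch i : G → ℂ) h / (D i : ℂ)) := by
  obtain ⟨z, hz, hz'⟩ := Sh.exc_int hG ha hg
  obtain ⟨w, hw, hw'⟩ := Sh.exc_int hG ha hh
  have H := pairCount_mul g h a
  simp only [clv, centralChar, ← CfsgSimpleM11.irr_inv] at H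
  rw [Sh.sum_split _ (fun χ h1 h2 h3 => by rw [(Sh.rest χ h1 h2 h3).2.1, mul_zero, mul_zero])] at H
  have hm : ((Subgroup.centralizer ({g} : Set G)).index : ℂ) * (cc g : ℂ) = 95040 := by
    rw [← Nat.cast_mul, Subgroup.index_mul_card, card_eq hG]; norm_num
  rw [mul_right_comm, H, ← hm, mul_right_comm _ (cc g : ℂ)]
  congr 1
  have hd : ∀ i, (Sh.ch i : G → ℂ) 1 = ((D i).sign : ℂ) * (D i : ℂ) := fun i => by
    rw [irr_degree, ← Int.cast_mul, show (D i).sign * D i = |D i| by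
      rw [← Int.natCast_natAbs, mul_comm]; exact Int.mul_sign_self (D i), ← Sh.deg i]
    simp
  have hd' : (invIrr (Sh.ch 4) : G → ℂ) 1 = ((D 4).sign : ℂ) * (D 4 : ℂ) := by
    rw [invIrr_apply, inv_one, hd]
  have hs : ∀ i, ((D i).sign : ℂ) * ((D i).sign : ℂ) = 1 := fun i => by
    rw [← Int.cast_mul]
    rcases lt_or_gt_of_ne (Sh.D_ne_zero i) with h | h
    · rw [Int.sign_eq_neg_one_of_neg h]; norm_num
    · rw [Int.sign_eq_one_of_pos h]; norm_num
  have hsinv : ∀ i, ((D i).sign : ℂ)⁻¹ = ((D i).sign : ℂ) := fun i => inv_eq_of_mul_eq_one_left (hs i)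
  rw [triv_apply, triv_apply, triv_apply, triv_apply, Fin.sum_univ_five, Fin.sum_univ_five, hd', hz, hz', hw, hw',
    hd, hd, hd, hd, hd, invIrr_apply, inv_inv, (Sh.real 0 (by decide)).2, (Sh.real 1 (by decide)).2,
    (Sh.real 2 (by decide)).2, (Sh.real 3 (by decide)).2]
  simp only [div_eq_mul_inv, mul_inv, hsinv, inv_one]
  have k : ∀ i (A B : ℂ), A * (((D i).sign : ℂ) * (D i : ℂ)⁻¹) * (B * ((D i).sign : ℂ)) = A * B * (D i : ℂ)⁻¹ :=
    fun i A B => by
      calc A * (((D i).sign : ℂ) * (D i : ℂ)⁻¹) * (B * ((D i).sign : ℂ))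
          = A * B * (D i : ℂ)⁻¹ * (((D i).sign : ℂ) * ((D i).sign : ℂ)) := by ring
        _ = _ := by rw [hs, mul_one]
  linear_combination ((Subgroup.centralizer ({g} : Set G)).index : ℂ) *
    ((k 0 ((Sh.ch 0 : G → ℂ) g) ((Sh.ch 0 : G → ℂ) h)) + (k 1 ((Sh.ch 1 : G → ℂ) g) ((Sh.ch 1 : G → ℂ) h)) +
      (k 2 ((Sh.ch 2 : G → ℂ) g) ((Sh.ch 2 : G → ℂ) h)) + (k 3 ((Sh.ch 3 : G → ℂ) g) ((Sh.ch 3 : G → ℂ) h)) +
      (k 4 (z : ℂ) (w : ℂ))) +
    ((Subgroup.centralizer ({g} : Set G)).index : ℂ) * (z : ℂ) * ((D 4 : ℂ)⁻¹) * ((D 4).sign : ℂ) * (w : ℂ) *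
      Sh.pair_sum

/-- Integral values at an element. -/
structure Vals (g : G) (v : Fin 5 → ℤ) : Prop where
  reg : orderOf g ≠ 11
  val : ∀ i, (Sh.ch i : G → ℂ) g = (v i : ℂ)
  inv : (invIrr (Sh.ch 4) : G → ℂ) g = (v 4 : ℂ)

variable {Sh}

theorem Vals.lin (hG : IsM12 G) (ha : orderOf a = 11) {g : G} {v : Fin 5 → ℤ} (V : Sh.Vals g v) :
    1 + ∑ i, (D i).sign * v i = 0 := by
  have h := Sh.orth hG ha V.reg
  simp only [V.val] at h
  exact_mod_cast h

theorem Vals.count (hG : IsM12 G) (ha : orderOf a = 11) {g h : G} {v w : Fin 5 → ℤ} (V : Sh.Vals g v)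
    (W : Sh.Vals h w) (hD : ∀ i, D i ∣ 95040) :
    (pairCount g h a : ℤ) * (cc g : ℤ) * (cc h : ℤ) = 95040 + ∑ i, v i * w i * (95040 / D i) := by
  have H := Sh.count_eq hG ha V.reg W.reg
  simp only [V.val, W.val] at H
  have : (((pairCount g h a : ℤ) * (cc g : ℤ) * (cc h : ℤ) : ℤ) : ℂ) =
      ((95040 + ∑ i, v i * w i * (95040 / D i) : ℤ) : ℂ) := by
    push_cast
    rw [H, mul_add, mul_one, Finset.mul_sum]
    congr 1
    refine Finset.sum_congr rfl fun i _ => ?_
    rw [Int.cast_div (hD i) (by exact_mod_cast Sh.D_ne_zero i)]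
    push_cast
    ring
  exact_mod_cast this

theorem Vals.norm {g : G} {v : Fin 5 → ℤ} (V : Sh.Vals g v) :
    1 + ∑ i, v i ^ 2 + v 4 ^ 2 ≤ (cc g : ℤ) := by
  classical
  have h := sum_irr_mul_conj g g
  rw [if_pos (IsConj.refl g)] at h
  simp only [Complex.mul_conj, ← Complex.ofReal_sum] at h
  have h' : (∑ χ : IrrCharacter G, Complex.normSq ((χ : G → ℂ) g)) = (cc g : ℝ) := by exact_mod_cast h
  set T : Finset (IrrCharacter G) := insert (triv G) (insert (invIrr (Sh.ch 4)) (Finset.univ.image Sh.ch))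
  have hle : ∑ χ ∈ T, Complex.normSq ((χ : G → ℂ) g) ≤ (cc g : ℝ) :=
    h' ▸ Finset.sum_le_sum_of_subset_of_nonneg (Finset.subset_univ _) fun _ _ _ => Complex.normSq_nonneg _
  have hn1 : invIrr (Sh.ch 4) ∉ Finset.univ.image Sh.ch := fun hm => by
    obtain ⟨i, -, hi⟩ := Finset.mem_image.1 hm
    exact Sh.ne_inv i hi
  have hn0 : triv G ∉ insert (invIrr (Sh.ch 4)) (Finset.univ.image Sh.ch) := fun hm => by
    rcases Finset.mem_insert.1 hm with h | h
    · refine Sh.ne_triv 4 (Subtype.ext (funext fun x => ?_))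
      have := congrArg (fun ψ : IrrCharacter G => (ψ : G → ℂ) x⁻¹) h.symm
      simpa [invIrr_apply, triv_apply] using this
    · obtain ⟨i, -, hi⟩ := Finset.mem_image.1 h
      exact Sh.ne_triv i hi
  rw [Finset.sum_insert hn0, Finset.sum_insert hn1, Finset.sum_image (fun x _ y _ hxy => Sh.inj hxy), triv_apply,
    V.inv] at hle
  simp only [V.val, Complex.normSq_intCast, map_one] at hle
  have : ((1 + ∑ i, v i ^ 2 + v 4 ^ 2 : ℤ) : ℝ) ≤ ((cc g : ℤ) : ℝ) := by
    push_cast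
    simp only [← pow_two] at hle
    linarith
  exact_mod_cast this

theorem Vals.burnside (hG : IsM12 G) {g : G} {v : Fin 5 → ℤ} (V : Sh.Vals g v) (hg : g ≠ 1) (i : Fin 5)
    (hi : v i ≠ 0) : (95040 / cc g).gcd (D i).natAbs ≠ 1 := fun h => hi (by
  have hd : dg (Sh.ch i) = (D i).natAbs := by
    have := Sh.deg i
    rw [← Int.natCast_natAbs] at this
    exact_mod_cast this
  have := vanish_coprime hG (Sh.ne_triv i) hg (by rw [hd, Nat.Coprime, Nat.gcd_comm]; exact h)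
  rw [V.val] at this
  exact_mod_cast this)

theorem vals_of_invol (hG : IsM12 G) (ha : orderOf a = 11) {t : G} (ht : orderOf t = 2) :
    ∃ v : Fin 5 → ℤ, Sh.Vals t v ∧ ∀ i, v i % 4 = |D i| % 4 ∧ -|D i| < v i ∧ v i < |D i| := by
  choose v hv h1 h2 h3 h4 using fun i => involution_int hG (Sh.ch i) ht
  have hreg : orderOf t ≠ 11 := by omega
  refine ⟨v, ⟨hreg, hv, ?_⟩, fun i => ?_⟩
  · obtain ⟨z, hz, hz'⟩ := Sh.exc_int hG ha hreg
    rw [hz', ← hz, hv]
  · rw [← Sh.deg i]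
    refine ⟨h1 i, lt_of_le_of_ne (h2 i) fun e => ?_, h4 i (Sh.ne_triv i)⟩
    refine neg_degree_ne hG (Sh.ne_triv i) (g := t) (fun e' => by rw [e', orderOf_one] at ht; norm_num at ht) ?_
    rw [hv i, ← e]
    push_cast
    ring

/-- An element of order `p` in the centraliser of an involution forces a congruence. -/
theorem Vals.modp (hG : IsM12 G) {p k : ℕ} [Fact p.Prime] (hodd : p ≠ 2) (hk : p ^ k ∣ 95040)
    (hk' : ¬ p ^ (k + 1) ∣ 95040) {t : G} {v : Fin 5 → ℤ} (V : Sh.Vals t v) (ht : orderOf t = 2)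
    (hp : p ∣ cc t) (i : Fin 5) (hd : ((p ^ k : ℕ) : ℤ) ∣ D i) : (p : ℤ) ∣ v i := by
  have hpp : p.Prime := Fact.out
  obtain ⟨y, hy, hyo⟩ := exists_order hpp hp
  have hc : Commute y t := Subgroup.mem_centralizer_singleton_iff.mp hy
  have hdvd : p ^ k ∣ dg (Sh.ch i) := by
    have := Sh.deg i
    rw [← Int.natCast_natAbs] at this
    rw [show dg (Sh.ch i) = (D i).natAbs by exact_mod_cast this]
    simpa using Int.natAbs_dvd_natAbs.mpr hd
  have ho : p ∣ orderOf (y * t) := by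
    rw [hc.orderOf_mul_eq_mul_orderOf_of_coprime (by
      rw [hyo, ht]; exact (Nat.coprime_primes hpp Nat.prime_two).mpr hodd), hyo]
    exact dvd_mul_right _ _
  have h0 := vanish_full hG (Sh.ch i) hpp hk hk' hdvd ho
  have htp : t ^ p = t := by
    conv_rhs => rw [← pow_one t]
    rw [pow_eq_pow_iff_modEq, ht]
    exact (hpp.eq_two_or_odd.resolve_left hodd)
  have := modEq_mul (Sh.ch i) (a := 0) (p := p) (show y ^ p = 1 by rw [← hyo]; exact pow_orderOf_eq_one y) hc ⟨v i, by rw [htp, V.val]⟩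
    (by rw [h0, Int.cast_zero]) (V.val i)
  exact Int.modEq_zero_iff_dvd.mp this.symm

end Shape

end CfsgSimpleM12
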