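/-
Finite searches for the values at an involution.
-/
import Mathlib.Tactic.IntervalCases

set_option autoImplicit false

namespace CfsgSimpleM12

/-- Possible values of a character of degree `d` at an involution with centraliser order at most `cm`. -/
def cand (d cm : ℕ) (z2 z5 : Bool) : List ℤ :=
  ((List.range (2 * d - 1)).map fun k : ℕ => (k : ℤ) - (d : ℤ) + 1).filter fun v =>
    ((v - (d : ℤ)) % 4 == 0) && decide (v * v ≤ (cm : ℤ)) && (!(z2 && (2 ^ 20 % d == 0)) || v == 0) &&
      (!(z5 && (d % 5 == 0)) || v % 5 == 0)

/-- Burnside's condition and the congruences for a single value. -/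
def okOne (C d : ℕ) (v : ℤ) : Bool :=
  (v == 0 || Nat.gcd (95040 / C) d != 1) && (!(C % 3 == 0 && d % 27 == 0) || v % 3 == 0) &&
    (!(C % 5 == 0 && d % 5 == 0) || v % 5 == 0)

/-- All conditions on a vector of values. -/
def okVal (d0 d1 d2 d3 d4 : ℕ) (a b c e f : ℤ) (C : ℕ) : Bool :=
  decide (1 + a * a + b * b + c * c + e * e + f * f + f * f ≤ (C : ℤ)) &&
    okOne C d0 a && okOne C d1 b && okOne C d2 c && okOne C d3 e && okOne C d4 f

/-- The centraliser orders divisible by 64. -/
abbrev orders64 : List ℕ := [64, 192, 320, 576, 960, 1728, 2880]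

/-- The centraliser orders divisible by 10. -/
abbrev orders10 : List ℕ := [10, 20, 30, 40, 60, 80, 90, 120, 160, 180, 240, 270, 320, 360, 480, 540, 720, 960, 1080, 1440, 2160, 2880, 4320]

theorem central_row0_check :
    ((cand 12 2880 true false).all fun a => (cand 12 2880 true false).all fun b => (cand 12 2880 true false).all fun c => (cand 10 2880 true false).all fun e => 
      (fun f : ℤ => (95040 + 7920 * (a * a) + 7920 * (b * b) + 7920 * (c * c) - 9504 * (e * e) - 3520 * (f * f) != 0) || !((cand 27 2880 true false).contains f) || orders64.all (fun C => !(okVal 12 12 12 10 27 a b c e f C) || ([] : List (ℤ × ℤ × ℤ × ℤ × ℤ × ℕ)).contains (a, b, c, e, f, C))) (1 + a + b + c - e)) = true := by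
  decide +kernel

theorem central_row0 {a b c e f : ℤ} {C : ℕ} (ha : a ∈ cand 12 2880 true false) (hb : b ∈ cand 12 2880 true false)
    (hc : c ∈ cand 12 2880 true false) (he : e ∈ cand 10 2880 true false) (hf : f ∈ cand 27 2880 true false)
    (hlin : 1 + a + b + c - e - f = 0)
    (hq : 95040 + 7920 * (a * a) + 7920 * (b * b) + 7920 * (c * c) - 9504 * (e * e) - 3520 * (f * f) = 0) (hC : C ∈ orders64) (hok : okVal 12 12 12 10 27 a b c e f C = true) :
    False := by
  have h := central_row0_check
  replace h := List.all_eq_true.1 h _ ha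
  replace h := List.all_eq_true.1 h _ hb
  replace h := List.all_eq_true.1 h _ hc
  replace h := List.all_eq_true.1 h _ he
  rw [show (1 + a + b + c - e) = f by omega] at h
  simp only [hq, bne_self_eq_false, List.contains_iff_mem.2 hf, Bool.not_true, Bool.false_or] at h
  have h2 := List.all_eq_true.1 h C hC
  simp only [hok, Bool.not_true, Bool.false_or] at h2
  simp at h2

theorem central_row3_check :
    ((cand 12 2880 true false).all fun a => (cand 12 2880 true false).all fun b => (cand 45 2880 true false).all fun c => (cand 16 2880 true false).all fun f => 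
      (fun e : ℤ => (95040 + 7920 * (a * a) + 7920 * (b * b) + 2112 * (c * c) - 1760 * (e * e) - 5940 * (f * f) != 0) || !((cand 54 2880 true false).contains e) || orders64.all (fun C => !(okVal 12 12 45 54 16 a b c e f C) || ([((-8), (-8), (-15), (-30), 0, 2880)] : List (ℤ × ℤ × ℤ × ℤ × ℤ × ℕ)).contains (a, b, c, e, f, C))) (1 + a + b + c - f)) = true := by
  decide +kernel

theorem central_row3 {a b c e f : ℤ} {C : ℕ} (ha : a ∈ cand 12 2880 true false) (hb : b ∈ cand 12 2880 true false)
    (hc : c ∈ cand 45 2880 true false) (he : e ∈ cand 54 2880 true false) (hf : f ∈ cand 16 2880 true false)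
    (hlin : 1 + a + b + c - e - f = 0)
    (hq : 95040 + 7920 * (a * a) + 7920 * (b * b) + 2112 * (c * c) - 1760 * (e * e) - 5940 * (f * f) = 0) (hC : C ∈ orders64) (hok : okVal 12 12 45 54 16 a b c e f C = true) :
    (a, b, c, e, f, C) ∈ ([((-8), (-8), (-15), (-30), 0, 2880)] : List (ℤ × ℤ × ℤ × ℤ × ℤ × ℕ)) := by
  have h := central_row3_check
  replace h := List.all_eq_true.1 h _ ha
  replace h := List.all_eq_true.1 h _ hb
  replace h := List.all_eq_true.1 h _ hc
  replace h := List.all_eq_true.1 h _ hf
  rw [show (1 + a + b + c - f) = e by omega] at h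
  simp only [hq, bne_self_eq_false, List.contains_iff_mem.2 he, Bool.not_true, Bool.false_or] at h
  have h2 := List.all_eq_true.1 h C hC
  simp only [hok, Bool.not_true, Bool.false_or] at h2
  exact List.contains_iff_mem.1 h2

theorem central_row5_check :
    ((cand 12 2880 true false).all fun a => (cand 10 2880 true false).all fun c => (cand 32 2880 true false).all fun e => (cand 16 2880 true false).all fun f => 
      (fun b : ℤ => (95040 + 7920 * (a * a) + 2112 * (b * b) - 9504 * (c * c) - 2970 * (e * e) - 5940 * (f * f) != 0) || !((cand 45 2880 true false).contains b) || orders64.all (fun C => !(okVal 12 45 10 32 16 a b c e f C) || ([] : List (ℤ × ℤ × ℤ × ℤ × ℤ × ℕ)).contains (a, b, c, e, f, C))) (-(1 + a - c - e - f))) = true := by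
  decide +kernel

theorem central_row5 {a b c e f : ℤ} {C : ℕ} (ha : a ∈ cand 12 2880 true false) (hb : b ∈ cand 45 2880 true false)
    (hc : c ∈ cand 10 2880 true false) (he : e ∈ cand 32 2880 true false) (hf : f ∈ cand 16 2880 true false)
    (hlin : 1 + a + b - c - e - f = 0)
    (hq : 95040 + 7920 * (a * a) + 2112 * (b * b) - 9504 * (c * c) - 2970 * (e * e) - 5940 * (f * f) = 0) (hC : C ∈ orders64) (hok : okVal 12 45 10 32 16 a b c e f C = true) :
    False := by
  have h := central_row5_check
  replace h := List.all_eq_true.1 h _ ha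
  replace h := List.all_eq_true.1 h _ hc
  replace h := List.all_eq_true.1 h _ he
  replace h := List.all_eq_true.1 h _ hf
  rw [show (-(1 + a - c - e - f)) = b by omega] at h
  simp only [hq, bne_self_eq_false, List.contains_iff_mem.2 hb, Bool.not_true, Bool.false_or] at h
  have h2 := List.all_eq_true.1 h C hC
  simp only [hok, Bool.not_true, Bool.false_or] at h2
  simp at h2

theorem central_row6_check :
    ((cand 12 2880 true false).all fun a => (cand 45 2880 true false).all fun b => (cand 10 2880 true false).all fun c => (cand 6 2880 true false).all fun f => 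
      (fun e : ℤ => (95040 + 7920 * (a * a) + 2112 * (b * b) - 9504 * (c * c) - 1760 * (e * e) + 15840 * (f * f) != 0) || !((cand 54 2880 true false).contains e) || orders64.all (fun C => !(okVal 12 45 10 54 6 a b c e f C) || ([] : List (ℤ × ℤ × ℤ × ℤ × ℤ × ℕ)).contains (a, b, c, e, f, C))) (1 + a + b - c + f)) = true := by
  decide +kernel

theorem central_row6 {a b c e f : ℤ} {C : ℕ} (ha : a ∈ cand 12 2880 true false) (hb : b ∈ cand 45 2880 true false)
    (hc : c ∈ cand 10 2880 true false) (he : e ∈ cand 54 2880 true false) (hf : f ∈ cand 6 2880 true false)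
    (hlin : 1 + a + b - c - e + f = 0)
    (hq : 95040 + 7920 * (a * a) + 2112 * (b * b) - 9504 * (c * c) - 1760 * (e * e) + 15840 * (f * f) = 0) (hC : C ∈ orders64) (hok : okVal 12 45 10 54 6 a b c e f C = true) :
    False := by
  have h := central_row6_check
  replace h := List.all_eq_true.1 h _ ha
  replace h := List.all_eq_true.1 h _ hb
  replace h := List.all_eq_true.1 h _ hc
  replace h := List.all_eq_true.1 h _ hf
  rw [show (1 + a + b - c + f) = e by omega] at h
  simp only [hq, bne_self_eq_false, List.contains_iff_mem.2 he, Bool.not_true, Bool.false_or] at h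
  have h2 := List.all_eq_true.1 h C hC
  simp only [hok, Bool.not_true, Bool.false_or] at h2
  simp at h2

theorem central_row8_check :
    ((cand 12 2880 true false).all fun a => (cand 32 2880 true false).all fun c => (cand 32 2880 true false).all fun e => (cand 6 2880 true false).all fun f => 
      (fun b : ℤ => (95040 + 7920 * (a * a) + 2112 * (b * b) - 2970 * (c * c) - 2970 * (e * e) + 15840 * (f * f) != 0) || !((cand 45 2880 true false).contains b) || orders64.all (fun C => !(okVal 12 45 32 32 6 a b c e f C) || ([] : List (ℤ × ℤ × ℤ × ℤ × ℤ × ℕ)).contains (a, b, c, e, f, C))) (-(1 + a - c - e + f))) = true := by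
  decide +kernel

theorem central_row8 {a b c e f : ℤ} {C : ℕ} (ha : a ∈ cand 12 2880 true false) (hb : b ∈ cand 45 2880 true false)
    (hc : c ∈ cand 32 2880 true false) (he : e ∈ cand 32 2880 true false) (hf : f ∈ cand 6 2880 true false)
    (hlin : 1 + a + b - c - e + f = 0)
    (hq : 95040 + 7920 * (a * a) + 2112 * (b * b) - 2970 * (c * c) - 2970 * (e * e) + 15840 * (f * f) = 0) (hC : C ∈ orders64) (hok : okVal 12 45 32 32 6 a b c e f C = true) :
    False := by
  have h := central_row8_check
  replace h := List.all_eq_true.1 h _ ha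
  replace h := List.all_eq_true.1 h _ hc
  replace h := List.all_eq_true.1 h _ he
  replace h := List.all_eq_true.1 h _ hf
  rw [show (-(1 + a - c - e + f)) = b by omega] at h
  simp only [hq, bne_self_eq_false, List.contains_iff_mem.2 hb, Bool.not_true, Bool.false_or] at h
  have h2 := List.all_eq_true.1 h C hC
  simp only [hok, Bool.not_true, Bool.false_or] at h2
  simp at h2

theorem central_row9_check :
    ((cand 12 2880 true false).all fun a => (cand 10 2880 true false).all fun c => (cand 120 2880 true false).all fun e => (cand 27 2880 true false).all fun f => 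
      (fun b : ℤ => (95040 + 7920 * (a * a) + 660 * (b * b) - 9504 * (c * c) - 792 * (e * e) - 3520 * (f * f) != 0) || !((cand 144 2880 true false).contains b) || orders64.all (fun C => !(okVal 12 144 10 120 27 a b c e f C) || ([] : List (ℤ × ℤ × ℤ × ℤ × ℤ × ℕ)).contains (a, b, c, e, f, C))) (-(1 + a - c - e - f))) = true := by
  decide +kernel

theorem central_row9 {a b c e f : ℤ} {C : ℕ} (ha : a ∈ cand 12 2880 true false) (hb : b ∈ cand 144 2880 true false)
    (hc : c ∈ cand 10 2880 true false) (he : e ∈ cand 120 2880 true false) (hf : f ∈ cand 27 2880 true false)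
    (hlin : 1 + a + b - c - e - f = 0)
    (hq : 95040 + 7920 * (a * a) + 660 * (b * b) - 9504 * (c * c) - 792 * (e * e) - 3520 * (f * f) = 0) (hC : C ∈ orders64) (hok : okVal 12 144 10 120 27 a b c e f C = true) :
    False := by
  have h := central_row9_check
  replace h := List.all_eq_true.1 h _ ha
  replace h := List.all_eq_true.1 h _ hc
  replace h := List.all_eq_true.1 h _ he
  replace h := List.all_eq_true.1 h _ hf
  rw [show (-(1 + a - c - e - f)) = b by omega] at h
  simp only [hq, bne_self_eq_false, List.contains_iff_mem.2 hb, Bool.not_true, Bool.false_or] at h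
  have h2 := List.all_eq_true.1 h C hC
  simp only [hok, Bool.not_true, Bool.false_or] at h2
  simp at h2

theorem central_row11_check :
    ((cand 45 2880 true false).all fun a => (cand 45 2880 true false).all fun b => (cand 45 2880 true false).all fun c => (cand 16 2880 true false).all fun f => 
      (fun e : ℤ => (95040 + 2112 * (a * a) + 2112 * (b * b) + 2112 * (c * c) - 792 * (e * e) - 5940 * (f * f) != 0) || !((cand 120 2880 true false).contains e) || orders64.all (fun C => !(okVal 45 45 45 120 16 a b c e f C) || ([] : List (ℤ × ℤ × ℤ × ℤ × ℤ × ℕ)).contains (a, b, c, e, f, C))) (1 + a + b + c - f)) = true := by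
  decide +kernel

theorem central_row11 {a b c e f : ℤ} {C : ℕ} (ha : a ∈ cand 45 2880 true false) (hb : b ∈ cand 45 2880 true false)
    (hc : c ∈ cand 45 2880 true false) (he : e ∈ cand 120 2880 true false) (hf : f ∈ cand 16 2880 true false)
    (hlin : 1 + a + b + c - e - f = 0)
    (hq : 95040 + 2112 * (a * a) + 2112 * (b * b) + 2112 * (c * c) - 792 * (e * e) - 5940 * (f * f) = 0) (hC : C ∈ orders64) (hok : okVal 45 45 45 120 16 a b c e f C = true) :
    False := by
  have h := central_row11_check
  replace h := List.all_eq_true.1 h _ ha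
  replace h := List.all_eq_true.1 h _ hb
  replace h := List.all_eq_true.1 h _ hc
  replace h := List.all_eq_true.1 h _ hf
  rw [show (1 + a + b + c - f) = e by omega] at h
  simp only [hq, bne_self_eq_false, List.contains_iff_mem.2 he, Bool.not_true, Bool.false_or] at h
  have h2 := List.all_eq_true.1 h C hC
  simp only [hok, Bool.not_true, Bool.false_or] at h2
  simp at h2

theorem central_row13_check :
    ((cand 45 2880 true false).all fun b => (cand 32 2880 true false).all fun c => (cand 32 2880 true false).all fun e => (cand 27 2880 true false).all fun f => 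
      (fun a : ℤ => (95040 + 2112 * (a * a) + 2112 * (b * b) - 2970 * (c * c) - 2970 * (e * e) - 3520 * (f * f) != 0) || !((cand 45 2880 true false).contains a) || orders64.all (fun C => !(okVal 45 45 32 32 27 a b c e f C) || ([] : List (ℤ × ℤ × ℤ × ℤ × ℤ × ℕ)).contains (a, b, c, e, f, C))) (-(1 + b - c - e - f))) = true := by
  decide +kernel

theorem central_row13 {a b c e f : ℤ} {C : ℕ} (ha : a ∈ cand 45 2880 true false) (hb : b ∈ cand 45 2880 true false)
    (hc : c ∈ cand 32 2880 true false) (he : e ∈ cand 32 2880 true false) (hf : f ∈ cand 27 2880 true false)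
    (hlin : 1 + a + b - c - e - f = 0)
    (hq : 95040 + 2112 * (a * a) + 2112 * (b * b) - 2970 * (c * c) - 2970 * (e * e) - 3520 * (f * f) = 0) (hC : C ∈ orders64) (hok : okVal 45 45 32 32 27 a b c e f C = true) :
    False := by
  have h := central_row13_check
  replace h := List.all_eq_true.1 h _ hb
  replace h := List.all_eq_true.1 h _ hc
  replace h := List.all_eq_true.1 h _ he
  replace h := List.all_eq_true.1 h _ hf
  rw [show (-(1 + b - c - e - f)) = a by omega] at h
  simp only [hq, bne_self_eq_false, List.contains_iff_mem.2 ha, Bool.not_true, Bool.false_or] at h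
  have h2 := List.all_eq_true.1 h C hC
  simp only [hok, Bool.not_true, Bool.false_or] at h2
  simp at h2

theorem central_row16_check :
    ((cand 45 2880 true false).all fun a => (cand 54 2880 true false).all fun c => (cand 120 2880 true false).all fun e => (cand 16 2880 true false).all fun f => 
      (fun b : ℤ => (95040 + 2112 * (a * a) + 660 * (b * b) - 1760 * (c * c) - 792 * (e * e) - 5940 * (f * f) != 0) || !((cand 144 2880 true false).contains b) || orders64.all (fun C => !(okVal 45 144 54 120 16 a b c e f C) || ([((-3), 0, 6, (-8), 0, 192), ((-3), 0, 6, (-8), 0, 576), (9, 0, (-6), 16, 0, 576)] : List (ℤ × ℤ × ℤ × ℤ × ℤ × ℕ)).contains (a, b, c, e, f, C))) (-(1 + a - c - e - f))) = true := by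
  decide +kernel

theorem central_row16 {a b c e f : ℤ} {C : ℕ} (ha : a ∈ cand 45 2880 true false) (hb : b ∈ cand 144 2880 true false)
    (hc : c ∈ cand 54 2880 true false) (he : e ∈ cand 120 2880 true false) (hf : f ∈ cand 16 2880 true false)
    (hlin : 1 + a + b - c - e - f = 0)
    (hq : 95040 + 2112 * (a * a) + 660 * (b * b) - 1760 * (c * c) - 792 * (e * e) - 5940 * (f * f) = 0) (hC : C ∈ orders64) (hok : okVal 45 144 54 120 16 a b c e f C = true) :
    (a, b, c, e, f, C) ∈ ([((-3), 0, 6, (-8), 0, 192), ((-3), 0, 6, (-8), 0, 576), (9, 0, (-6), 16, 0, 576)] : List (ℤ × ℤ × ℤ × ℤ × ℤ × ℕ)) := by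
  have h := central_row16_check
  replace h := List.all_eq_true.1 h _ ha
  replace h := List.all_eq_true.1 h _ hc
  replace h := List.all_eq_true.1 h _ he
  replace h := List.all_eq_true.1 h _ hf
  rw [show (-(1 + a - c - e - f)) = b by omega] at h
  simp only [hq, bne_self_eq_false, List.contains_iff_mem.2 hb, Bool.not_true, Bool.false_or] at h
  have h2 := List.all_eq_true.1 h C hC
  simp only [hok, Bool.not_true, Bool.false_or] at h2
  exact List.contains_iff_mem.1 h2

theorem central_row18_check :
    ((cand 10 2880 true false).all fun b => (cand 10 2880 true false).all fun c => (cand 32 2880 true false).all fun e => (cand 6 2880 true false).all fun f => 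
      (fun a : ℤ => (95040 + 2112 * (a * a) - 9504 * (b * b) - 9504 * (c * c) - 2970 * (e * e) + 15840 * (f * f) != 0) || !((cand 45 2880 true false).contains a) || orders64.all (fun C => !(okVal 45 10 10 32 6 a b c e f C) || ([] : List (ℤ × ℤ × ℤ × ℤ × ℤ × ℕ)).contains (a, b, c, e, f, C))) (-(1 - b - c - e + f))) = true := by
  decide +kernel

theorem central_row18 {a b c e f : ℤ} {C : ℕ} (ha : a ∈ cand 45 2880 true false) (hb : b ∈ cand 10 2880 true false)
    (hc : c ∈ cand 10 2880 true false) (he : e ∈ cand 32 2880 true false) (hf : f ∈ cand 6 2880 true false)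
    (hlin : 1 + a - b - c - e + f = 0)
    (hq : 95040 + 2112 * (a * a) - 9504 * (b * b) - 9504 * (c * c) - 2970 * (e * e) + 15840 * (f * f) = 0) (hC : C ∈ orders64) (hok : okVal 45 10 10 32 6 a b c e f C = true) :
    False := by
  have h := central_row18_check
  replace h := List.all_eq_true.1 h _ hb
  replace h := List.all_eq_true.1 h _ hc
  replace h := List.all_eq_true.1 h _ he
  replace h := List.all_eq_true.1 h _ hf
  rw [show (-(1 - b - c - e + f)) = a by omega] at h
  simp only [hq, bne_self_eq_false, List.contains_iff_mem.2 ha, Bool.not_true, Bool.false_or] at h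
  have h2 := List.all_eq_true.1 h C hC
  simp only [hok, Bool.not_true, Bool.false_or] at h2
  simp at h2

theorem central_row19_check :
    ((cand 45 2880 true false).all fun a => (cand 10 2880 true false).all fun b => (cand 54 2880 true false).all fun c => (cand 54 2880 true false).all fun e => 
      (fun f : ℤ => (95040 + 2112 * (a * a) - 9504 * (b * b) - 1760 * (c * c) - 1760 * (e * e) + 1320 * (f * f) != 0) || !((cand 72 2880 true false).contains f) || orders64.all (fun C => !(okVal 45 10 54 54 72 a b c e f C) || ([] : List (ℤ × ℤ × ℤ × ℤ × ℤ × ℕ)).contains (a, b, c, e, f, C))) (-(1 + a - b - c - e))) = true := by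
  decide +kernel

theorem central_row19 {a b c e f : ℤ} {C : ℕ} (ha : a ∈ cand 45 2880 true false) (hb : b ∈ cand 10 2880 true false)
    (hc : c ∈ cand 54 2880 true false) (he : e ∈ cand 54 2880 true false) (hf : f ∈ cand 72 2880 true false)
    (hlin : 1 + a - b - c - e + f = 0)
    (hq : 95040 + 2112 * (a * a) - 9504 * (b * b) - 1760 * (c * c) - 1760 * (e * e) + 1320 * (f * f) = 0) (hC : C ∈ orders64) (hok : okVal 45 10 54 54 72 a b c e f C = true) :
    False := by
  have h := central_row19_check
  replace h := List.all_eq_true.1 h _ ha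
  replace h := List.all_eq_true.1 h _ hb
  replace h := List.all_eq_true.1 h _ hc
  replace h := List.all_eq_true.1 h _ he
  rw [show (-(1 + a - b - c - e)) = f by omega] at h
  simp only [hq, bne_self_eq_false, List.contains_iff_mem.2 hf, Bool.not_true, Bool.false_or] at h
  have h2 := List.all_eq_true.1 h C hC
  simp only [hok, Bool.not_true, Bool.false_or] at h2
  simp at h2

theorem central_row20_check :
    ((cand 45 2880 true false).all fun a => (cand 32 2880 true false).all fun b => (cand 32 2880 true false).all fun c => (cand 54 2880 true false).all fun e => 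
      (fun f : ℤ => (95040 + 2112 * (a * a) - 2970 * (b * b) - 2970 * (c * c) - 1760 * (e * e) + 1320 * (f * f) != 0) || !((cand 72 2880 true false).contains f) || orders64.all (fun C => !(okVal 45 32 32 54 72 a b c e f C) || ([] : List (ℤ × ℤ × ℤ × ℤ × ℤ × ℕ)).contains (a, b, c, e, f, C))) (-(1 + a - b - c - e))) = true := by
  decide +kernel

theorem central_row20 {a b c e f : ℤ} {C : ℕ} (ha : a ∈ cand 45 2880 true false) (hb : b ∈ cand 32 2880 true false)
    (hc : c ∈ cand 32 2880 true false) (he : e ∈ cand 54 2880 true false) (hf : f ∈ cand 72 2880 true false)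
    (hlin : 1 + a - b - c - e + f = 0)
    (hq : 95040 + 2112 * (a * a) - 2970 * (b * b) - 2970 * (c * c) - 1760 * (e * e) + 1320 * (f * f) = 0) (hC : C ∈ orders64) (hok : okVal 45 32 32 54 72 a b c e f C = true) :
    False := by
  have h := central_row20_check
  replace h := List.all_eq_true.1 h _ ha
  replace h := List.all_eq_true.1 h _ hb
  replace h := List.all_eq_true.1 h _ hc
  replace h := List.all_eq_true.1 h _ he
  rw [show (-(1 + a - b - c - e)) = f by omega] at h
  simp only [hq, bne_self_eq_false, List.contains_iff_mem.2 hf, Bool.not_true, Bool.false_or] at h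
  have h2 := List.all_eq_true.1 h C hC
  simp only [hok, Bool.not_true, Bool.false_or] at h2
  simp at h2

theorem central_row23_check :
    ((cand 10 2880 true false).all fun b => (cand 54 2880 true false).all fun c => (cand 54 2880 true false).all fun e => (cand 27 2880 true false).all fun f => 
      (fun a : ℤ => (95040 + 660 * (a * a) - 9504 * (b * b) - 1760 * (c * c) - 1760 * (e * e) - 3520 * (f * f) != 0) || !((cand 144 2880 true false).contains a) || orders64.all (fun C => !(okVal 144 10 54 54 27 a b c e f C) || ([] : List (ℤ × ℤ × ℤ × ℤ × ℤ × ℕ)).contains (a, b, c, e, f, C))) (-(1 - b - c - e - f))) = true := by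
  decide +kernel

theorem central_row23 {a b c e f : ℤ} {C : ℕ} (ha : a ∈ cand 144 2880 true false) (hb : b ∈ cand 10 2880 true false)
    (hc : c ∈ cand 54 2880 true false) (he : e ∈ cand 54 2880 true false) (hf : f ∈ cand 27 2880 true false)
    (hlin : 1 + a - b - c - e - f = 0)
    (hq : 95040 + 660 * (a * a) - 9504 * (b * b) - 1760 * (c * c) - 1760 * (e * e) - 3520 * (f * f) = 0) (hC : C ∈ orders64) (hok : okVal 144 10 54 54 27 a b c e f C = true) :
    False := by
  have h := central_row23_check
  replace h := List.all_eq_true.1 h _ hb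
  replace h := List.all_eq_true.1 h _ hc
  replace h := List.all_eq_true.1 h _ he
  replace h := List.all_eq_true.1 h _ hf
  rw [show (-(1 - b - c - e - f)) = a by omega] at h
  simp only [hq, bne_self_eq_false, List.contains_iff_mem.2 ha, Bool.not_true, Bool.false_or] at h
  have h2 := List.all_eq_true.1 h C hC
  simp only [hok, Bool.not_true, Bool.false_or] at h2
  simp at h2

theorem central_row24_check :
    ((cand 32 2880 true false).all fun b => (cand 32 2880 true false).all fun c => (cand 54 2880 true false).all fun e => (cand 27 2880 true false).all fun f => 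
      (fun a : ℤ => (95040 + 660 * (a * a) - 2970 * (b * b) - 2970 * (c * c) - 1760 * (e * e) - 3520 * (f * f) != 0) || !((cand 144 2880 true false).contains a) || orders64.all (fun C => !(okVal 144 32 32 54 27 a b c e f C) || ([] : List (ℤ × ℤ × ℤ × ℤ × ℤ × ℕ)).contains (a, b, c, e, f, C))) (-(1 - b - c - e - f))) = true := by
  decide +kernel

theorem central_row24 {a b c e f : ℤ} {C : ℕ} (ha : a ∈ cand 144 2880 true false) (hb : b ∈ cand 32 2880 true false)
    (hc : c ∈ cand 32 2880 true false) (he : e ∈ cand 54 2880 true false) (hf : f ∈ cand 27 2880 true false)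
    (hlin : 1 + a - b - c - e - f = 0)
    (hq : 95040 + 660 * (a * a) - 2970 * (b * b) - 2970 * (c * c) - 1760 * (e * e) - 3520 * (f * f) = 0) (hC : C ∈ orders64) (hok : okVal 144 32 32 54 27 a b c e f C = true) :
    False := by
  have h := central_row24_check
  replace h := List.all_eq_true.1 h _ hb
  replace h := List.all_eq_true.1 h _ hc
  replace h := List.all_eq_true.1 h _ he
  replace h := List.all_eq_true.1 h _ hf
  rw [show (-(1 - b - c - e - f)) = a by omega] at h
  simp only [hq, bne_self_eq_false, List.contains_iff_mem.2 ha, Bool.not_true, Bool.false_or] at h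
  have h2 := List.all_eq_true.1 h C hC
  simp only [hok, Bool.not_true, Bool.false_or] at h2
  simp at h2

theorem five_row2_check :
    ((cand 12 4320 false true).all fun b => (cand 45 4320 false true).all fun c => (cand 10 4320 false true).all fun e => (cand 60 4320 false true).all fun f => 
      (fun a : ℤ => (95040 + 7920 * (a * a) + 7920 * (b * b) + 2112 * (c * c) - 9504 * (e * e) - 1584 * (f * f) != 0) || !((cand 12 4320 false true).contains a) || orders10.all (fun C => !(okVal 12 12 45 10 60 a b c e f C) || ([] : List (ℤ × ℤ × ℤ × ℤ × ℤ × ℕ)).contains (a, b, c, e, f, C))) (-(1 + b + c - e - f))) = true := by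
  decide +kernel

theorem five_row2 {a b c e f : ℤ} {C : ℕ} (ha : a ∈ cand 12 4320 false true) (hb : b ∈ cand 12 4320 false true)
    (hc : c ∈ cand 45 4320 false true) (he : e ∈ cand 10 4320 false true) (hf : f ∈ cand 60 4320 false true)
    (hlin : 1 + a + b + c - e - f = 0)
    (hq : 95040 + 7920 * (a * a) + 7920 * (b * b) + 2112 * (c * c) - 9504 * (e * e) - 1584 * (f * f) = 0) (hC : C ∈ orders10) (hok : okVal 12 12 45 10 60 a b c e f C = true) :
    False := by
  have h := five_row2_check
  replace h := List.all_eq_true.1 h _ hb
  replace h := List.all_eq_true.1 h _ hc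
  replace h := List.all_eq_true.1 h _ he
  replace h := List.all_eq_true.1 h _ hf
  rw [show (-(1 + b + c - e - f)) = a by omega] at h
  simp only [hq, bne_self_eq_false, List.contains_iff_mem.2 ha, Bool.not_true, Bool.false_or] at h
  have h2 := List.all_eq_true.1 h C hC
  simp only [hok, Bool.not_true, Bool.false_or] at h2
  simp at h2

theorem five_row7_check :
    ((cand 12 4320 false true).all fun a => (cand 45 4320 false true).all fun b => (cand 10 4320 false true).all fun c => (cand 120 4320 false true).all fun e => 
      (fun f : ℤ => (95040 + 7920 * (a * a) + 2112 * (b * b) - 9504 * (c * c) - 792 * (e * e) + 1320 * (f * f) != 0) || !((cand 72 4320 false true).contains f) || orders10.all (fun C => !(okVal 12 45 10 120 72 a b c e f C) || ([] : List (ℤ × ℤ × ℤ × ℤ × ℤ × ℕ)).contains (a, b, c, e, f, C))) (-(1 + a + b - c - e))) = true := by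
  decide +kernel

theorem five_row7 {a b c e f : ℤ} {C : ℕ} (ha : a ∈ cand 12 4320 false true) (hb : b ∈ cand 45 4320 false true)
    (hc : c ∈ cand 10 4320 false true) (he : e ∈ cand 120 4320 false true) (hf : f ∈ cand 72 4320 false true)
    (hlin : 1 + a + b - c - e + f = 0)
    (hq : 95040 + 7920 * (a * a) + 2112 * (b * b) - 9504 * (c * c) - 792 * (e * e) + 1320 * (f * f) = 0) (hC : C ∈ orders10) (hok : okVal 12 45 10 120 72 a b c e f C = true) :
    False := by
  have h := five_row7_check
  replace h := List.all_eq_true.1 h _ ha
  replace h := List.all_eq_true.1 h _ hb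
  replace h := List.all_eq_true.1 h _ hc
  replace h := List.all_eq_true.1 h _ he
  rw [show (-(1 + a + b - c - e)) = f by omega] at h
  simp only [hq, bne_self_eq_false, List.contains_iff_mem.2 hf, Bool.not_true, Bool.false_or] at h
  have h2 := List.all_eq_true.1 h C hC
  simp only [hok, Bool.not_true, Bool.false_or] at h2
  simp at h2

theorem five_row12_check :
    ((cand 45 4320 false true).all fun a => (cand 45 4320 false true).all fun b => (cand 10 4320 false true).all fun c => (cand 27 4320 false true).all fun f => 
      (fun e : ℤ => (95040 + 2112 * (a * a) + 2112 * (b * b) - 9504 * (c * c) - 1760 * (e * e) - 3520 * (f * f) != 0) || !((cand 54 4320 false true).contains e) || orders10.all (fun C => !(okVal 45 45 10 54 27 a b c e f C) || ([] : List (ℤ × ℤ × ℤ × ℤ × ℤ × ℕ)).contains (a, b, c, e, f, C))) (1 + a + b - c - f)) = true := by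
  decide +kernel

theorem five_row12 {a b c e f : ℤ} {C : ℕ} (ha : a ∈ cand 45 4320 false true) (hb : b ∈ cand 45 4320 false true)
    (hc : c ∈ cand 10 4320 false true) (he : e ∈ cand 54 4320 false true) (hf : f ∈ cand 27 4320 false true)
    (hlin : 1 + a + b - c - e - f = 0)
    (hq : 95040 + 2112 * (a * a) + 2112 * (b * b) - 9504 * (c * c) - 1760 * (e * e) - 3520 * (f * f) = 0) (hC : C ∈ orders10) (hok : okVal 45 45 10 54 27 a b c e f C = true) :
    False := by
  have h := five_row12_check
  replace h := List.all_eq_true.1 h _ ha
  replace h := List.all_eq_true.1 h _ hb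
  replace h := List.all_eq_true.1 h _ hc
  replace h := List.all_eq_true.1 h _ hf
  rw [show (1 + a + b - c - f) = e by omega] at h
  simp only [hq, bne_self_eq_false, List.contains_iff_mem.2 he, Bool.not_true, Bool.false_or] at h
  have h2 := List.all_eq_true.1 h C hC
  simp only [hok, Bool.not_true, Bool.false_or] at h2
  simp at h2

theorem five_row15_check :
    ((cand 45 4320 false true).all fun a => (cand 10 4320 false true).all fun c => (cand 120 4320 false true).all fun e => (cand 60 4320 false true).all fun f => 
      (fun b : ℤ => (95040 + 2112 * (a * a) + 660 * (b * b) - 9504 * (c * c) - 792 * (e * e) - 1584 * (f * f) != 0) || !((cand 144 4320 false true).contains b) || orders10.all (fun C => !(okVal 45 144 10 120 60 a b c e f C) || ([] : List (ℤ × ℤ × ℤ × ℤ × ℤ × ℕ)).contains (a, b, c, e, f, C))) (-(1 + a - c - e - f))) = true := by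
  decide +kernel

theorem five_row15 {a b c e f : ℤ} {C : ℕ} (ha : a ∈ cand 45 4320 false true) (hb : b ∈ cand 144 4320 false true)
    (hc : c ∈ cand 10 4320 false true) (he : e ∈ cand 120 4320 false true) (hf : f ∈ cand 60 4320 false true)
    (hlin : 1 + a + b - c - e - f = 0)
    (hq : 95040 + 2112 * (a * a) + 660 * (b * b) - 9504 * (c * c) - 792 * (e * e) - 1584 * (f * f) = 0) (hC : C ∈ orders10) (hok : okVal 45 144 10 120 60 a b c e f C = true) :
    False := by
  have h := five_row15_check
  replace h := List.all_eq_true.1 h _ ha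
  replace h := List.all_eq_true.1 h _ hc
  replace h := List.all_eq_true.1 h _ he
  replace h := List.all_eq_true.1 h _ hf
  rw [show (-(1 + a - c - e - f)) = b by omega] at h
  simp only [hq, bne_self_eq_false, List.contains_iff_mem.2 hb, Bool.not_true, Bool.false_or] at h
  have h2 := List.all_eq_true.1 h C hC
  simp only [hok, Bool.not_true, Bool.false_or] at h2
  simp at h2

theorem five_row17_check :
    ((cand 45 4320 false true).all fun a => (cand 10 4320 false true).all fun b => (cand 10 4320 false true).all fun c => (cand 10 4320 false true).all fun e => 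
      (fun f : ℤ => (95040 + 2112 * (a * a) - 9504 * (b * b) - 9504 * (c * c) - 9504 * (e * e) - 5940 * (f * f) != 0) || !((cand 16 4320 false true).contains f) || orders10.all (fun C => !(okVal 45 10 10 10 16 a b c e f C) || ([] : List (ℤ × ℤ × ℤ × ℤ × ℤ × ℕ)).contains (a, b, c, e, f, C))) (1 + a - b - c - e)) = true := by
  decide +kernel

theorem five_row17 {a b c e f : ℤ} {C : ℕ} (ha : a ∈ cand 45 4320 false true) (hb : b ∈ cand 10 4320 false true)
    (hc : c ∈ cand 10 4320 false true) (he : e ∈ cand 10 4320 false true) (hf : f ∈ cand 16 4320 false true)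
    (hlin : 1 + a - b - c - e - f = 0)
    (hq : 95040 + 2112 * (a * a) - 9504 * (b * b) - 9504 * (c * c) - 9504 * (e * e) - 5940 * (f * f) = 0) (hC : C ∈ orders10) (hok : okVal 45 10 10 10 16 a b c e f C = true) :
    False := by
  have h := five_row17_check
  replace h := List.all_eq_true.1 h _ ha
  replace h := List.all_eq_true.1 h _ hb
  replace h := List.all_eq_true.1 h _ hc
  replace h := List.all_eq_true.1 h _ he
  rw [show (1 + a - b - c - e) = f by omega] at h
  simp only [hq, bne_self_eq_false, List.contains_iff_mem.2 hf, Bool.not_true, Bool.false_or] at h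
  have h2 := List.all_eq_true.1 h C hC
  simp only [hok, Bool.not_true, Bool.false_or] at h2
  simp at h2

end CfsgSimpleM12
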