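/-
The values of the shape at involutions.
-/
import Cfsg.Agent.Lib.SimpleM12.Facts
import Cfsg.Agent.Lib.SimpleM12.Sweeps

set_option autoImplicit false
set_option linter.style.haveILetI false
set_option linter.unusedSectionVars false

namespace CfsgSimpleM12

open Cfsg CfsgLib.CharTheory CfsgLib.Blocks CfsgSimpleM11

universe u
variable {G : Type u} [Group G] [Fintype G]

theorem rows_ok : ∀ k i, rows k i ∣ 95040 ∧ ¬ (11 : ℤ) ∣ rows k i := by decide +kernel

theorem mem_orders64 : ∀ {C : ℕ}, C ∈ Nat.divisors 8640 → 64 ∣ C → C ≠ 8640 → C ∈ orders64 := by decide +kernel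

theorem mem_orders10 : ∀ {C : ℕ}, C ∈ Nat.divisors 8640 → 10 ∣ C → C ≠ 8640 → C ∈ orders10 := by decide +kernel

theorem mem_cand {d cm : ℕ} {z2 z5 : Bool} {v : ℤ} (h1 : -(d : ℤ) < v) (h2 : v < (d : ℤ))
    (h4 : v % 4 = (d : ℤ) % 4) (hs : v * v ≤ (cm : ℤ)) (hz2 : z2 = true → 2 ^ 20 % d = 0 → v = 0)
    (hz5 : z5 = true → d % 5 = 0 → v % 5 = 0) : v ∈ cand d cm z2 z5 := by
  refine List.mem_filter.2 ⟨List.mem_map.2 ⟨(v + (d : ℤ) - 1).toNat, List.mem_range.2 (by omega), by omega⟩, ?_⟩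
  simp only [Bool.and_eq_true, decide_eq_true_eq, beq_iff_eq, Bool.or_eq_true, Bool.not_eq_true',
    Bool.and_eq_false_iff]
  refine ⟨⟨⟨by omega, hs⟩, ?_⟩, ?_⟩
  · rcases Bool.eq_false_or_eq_true z2 with h | h
    · by_cases e : 2 ^ 20 % d = 0
      · exact Or.inr (hz2 h e)
      · exact Or.inl (Or.inr (beq_eq_false_iff_ne.2 e))
    · exact Or.inl (Or.inl h)
  · rcases Bool.eq_false_or_eq_true z5 with h | h
    · by_cases e : d % 5 = 0
      · exact Or.inr (hz5 h e)
      · exact Or.inl (Or.inr (beq_eq_false_iff_ne.2 e))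
    · exact Or.inl (Or.inl h)

/-- A central involution. -/
theorem exists_central_involution (hG : IsM12 G) : ∃ t : G, orderOf t = 2 ∧ 64 ∣ cc t := by
  haveI : Fact (Nat.Prime 2) := ⟨Nat.prime_two⟩
  obtain ⟨S⟩ : Nonempty (Sylow 2 G) := inferInstance
  have hS := card_sylow2 hG S
  haveI : Nontrivial (S : Subgroup G) := Finite.one_lt_card_iff_nontrivial.mp (by rw [hS]; norm_num)
  haveI := S.isPGroup'.center_nontrivial
  obtain ⟨k, hk⟩ := (IsPGroup.iff_card.mp (S.isPGroup'.to_subgroup (Subgroup.center (S : Subgroup G))))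
  have hk0 : k ≠ 0 := fun e => by
    have := Finite.one_lt_card (α := Subgroup.center (S : Subgroup G))
    rw [hk, e, pow_zero] at this
    exact lt_irrefl _ this
  obtain ⟨t, ht, hto⟩ := exists_order Nat.prime_two
    (show 2 ∣ Nat.card (Subgroup.center (S : Subgroup G)) by rw [hk]; exact dvd_pow_self 2 hk0)
  refine ⟨t, by rw [Subgroup.orderOf_coe]; exact hto, ?_⟩
  rw [← hS]
  exact Subgroup.card_dvd_of_le fun s hs => Subgroup.mem_centralizer_singleton_iff.mpr
    (congrArg Subtype.val (Subgroup.mem_center_iff.mp ht ⟨s, hs⟩))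

namespace Shape

variable {a : G} {D : Fin 5 → ℤ} (Sh : Shape a D)

theorem invol_good (hG : IsM12 G) (ha : orderOf a = 11) (hD : ∀ i, D i ∣ 95040 ∧ ¬ (11 : ℤ) ∣ D i) {t : G}
    (ht : orderOf t = 2) :
    ∃ v : Fin 5 → ℤ, Sh.Vals t v ∧
      95040 + ∑ i, v i * v i * (95040 / D i) = 0 ∧
      cc t ∈ Nat.divisors 8640 ∧ cc t ≠ 8640 ∧
      okVal (D 0).natAbs (D 1).natAbs (D 2).natAbs (D 3).natAbs (D 4).natAbs (v 0) (v 1) (v 2) (v 3) (v 4)
        (cc t) = true ∧
      ∀ cm z2 z5, cc t ≤ cm → (z2 = true → 64 ∣ cc t) → (z5 = true → 5 ∣ cc t) →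
        ∀ i, v i ∈ cand (D i).natAbs cm z2 z5 := by
  obtain ⟨v, V, hv⟩ := Shape.vals_of_invol (Sh := Sh) hG ha ht
  have ht1 : t ≠ 1 := fun e => by rw [e, orderOf_one] at ht; norm_num at ht
  have hC := cc_dvd hG ht1 V.reg
  have h3 : ∀ i, 3 ∣ cc t → (27 : ℤ) ∣ D i → (3 : ℤ) ∣ v i := fun i h1 h2 => by
    haveI : Fact (Nat.Prime 3) := ⟨by norm_num⟩
    exact Vals.modp hG (p := 3) (k := 3) (by norm_num) (by norm_num) (by norm_num) V ht h1 i (by simpa using h2)
  have h5 : ∀ i, 5 ∣ cc t → (5 : ℤ) ∣ D i → (5 : ℤ) ∣ v i := fun i h1 h2 => by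
    haveI : Fact (Nat.Prime 5) := ⟨by norm_num⟩
    exact Vals.modp hG (p := 5) (k := 1) (by norm_num) (by norm_num) (by norm_num) V ht h1 i (by simpa using h2)
  have hn := V.norm
  have hb := fun i => V.burnside hG ht1 i
  refine ⟨v, V, ?_, Nat.mem_divisors.2 ⟨hC, by norm_num⟩, ?_, ?_, ?_⟩
  · have h := V.count hG ha V (fun i => (hD i).1)
    rw [pairCount_zero hG ha ht ht, Nat.cast_zero, zero_mul, zero_mul] at h
    exact h.symm
  · intro e
    have h0 : ∀ i, v i = 0 := fun i => by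
      by_contra h
      refine hb i h ?_
      rw [e]
      refine ((Nat.Prime.coprime_iff_not_dvd (by norm_num : Nat.Prime 11)).mpr fun h' => (hD i).2 ?_)
      exact Int.ofNat_dvd_left.mpr h'
    have hl := V.lin hG ha
    simp [h0] at hl
  · have hone : ∀ i, okOne (cc t) (D i).natAbs (v i) = true := by
      intro i
      simp only [okOne, Bool.and_eq_true, Bool.or_eq_true, beq_iff_eq, bne_iff_ne, ne_eq, Bool.not_eq_true',
        Bool.and_eq_false_iff, beq_eq_false_iff_ne]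
      refine ⟨⟨?_, ?_⟩, ?_⟩
      · by_cases h : v i = 0
        · exact Or.inl h
        · exact Or.inr (hb i h)
      · by_cases h : cc t % 3 = 0 ∧ (D i).natAbs % 27 = 0
        · exact Or.inr (Int.emod_eq_zero_of_dvd (h3 i (Nat.dvd_of_mod_eq_zero h.1)
            (Int.ofNat_dvd_left.mpr (Nat.dvd_of_mod_eq_zero h.2))))
        · exact Or.inl (not_and_or.mp h)
      · by_cases h : cc t % 5 = 0 ∧ (D i).natAbs % 5 = 0
        · exact Or.inr (Int.emod_eq_zero_of_dvd (h5 i (Nat.dvd_of_mod_eq_zero h.1)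
            (Int.ofNat_dvd_left.mpr (Nat.dvd_of_mod_eq_zero h.2))))
        · exact Or.inl (not_and_or.mp h)
    simp only [okVal, hone, Bool.and_true, decide_eq_true_eq]
    rw [Fin.sum_univ_five] at hn
    linarith
  · intro cm z2 z5 hcm hz2 hz5 i
    have hvi := hv i
    rw [← Int.natCast_natAbs] at hvi
    refine mem_cand hvi.2.1 hvi.2.2 hvi.1 ?_ ?_ ?_
    · have h1 : v i ^ 2 ≤ ∑ j, v j ^ 2 := Finset.single_le_sum (f := fun j => v j ^ 2) (fun _ _ => sq_nonneg _)
        (Finset.mem_univ i)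
      have h2 : (cc t : ℤ) ≤ (cm : ℤ) := by exact_mod_cast hcm
      nlinarith [sq_nonneg (v 4)]
    · intro h hd
      by_contra hne
      refine hb i hne ?_
      obtain ⟨k, hk⟩ := hz2 h
      have hodd : Nat.Coprime (95040 / cc t) 2 := by
        rw [Nat.coprime_two_right, Nat.odd_iff]
        have hdvd : cc t ∣ 95040 := hC.trans (by norm_num)
        have hm := Nat.div_mul_cancel hdvd
        by_contra hev
        have h2 : 2 ∣ 95040 / cc t := by omega
        obtain ⟨m, hm'⟩ := h2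
        rw [hm', hk] at hm
        have : 128 ∣ 95040 := ⟨m * k, by rw [← hm]; ring⟩
        norm_num at this
      exact Nat.Coprime.coprime_dvd_right (Nat.dvd_of_mod_eq_zero hd) (hodd.pow_right 20)
    · intro h hd
      exact Int.emod_eq_zero_of_dvd (h5 i (hz5 h) (Int.ofNat_dvd_left.mpr (Nat.dvd_of_mod_eq_zero hd)))

end Shape

end CfsgSimpleM12
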