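/-
Shapes without a central involution, and shapes without an involution centralising elements of order five.
-/
import Cfsg.Agent.Lib.SimpleM12.Invol

set_option autoImplicit false
set_option linter.style.haveILetI false
set_option linter.unusedSectionVars false

namespace CfsgSimpleM12

open Cfsg CfsgLib.CharTheory CfsgSimpleM11

universe u
variable {G : Type u} [Group G] [Fintype G]

theorem orders64_le : ∀ C ∈ orders64, C ≤ 2880 := by decide +kernel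

theorem orders10_le : ∀ C ∈ orders10, C ≤ 4320 := by decide +kernel


theorem not_row0 (hG : IsM12 G) {a : G} (ha : orderOf a = 11) (Sh : Shape a (rows 0)) : False := by
  obtain ⟨t, ht, h64⟩ := exists_central_involution hG
  obtain ⟨v, V, hq, hC, hC', hok, hc⟩ := Sh.invol_good hG ha (rows_ok 0) ht
  have hmem := mem_orders64 hC h64 hC'
  have hl := V.lin hG ha
  have hc' := hc 2880 true false (orders64_le _ hmem) (fun _ => h64) (by simp)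
  rw [Fin.sum_univ_five] at hq hl
  have hl' : (1 : ℤ) + ((1 : ℤ) * v 0 + (1 : ℤ) * v 1 + (1 : ℤ) * v 2 + (-1 : ℤ) * v 3 + (-1 : ℤ) * v 4) = 0 := hl
  have hq' : (95040 : ℤ) + (v 0 * v 0 * (7920 : ℤ) + v 1 * v 1 * (7920 : ℤ) + v 2 * v 2 * (7920 : ℤ) + v 3 * v 3 * (-9504 : ℤ) + v 4 * v 4 * (-3520 : ℤ)) = 0 := hq
  exact central_row0 (hc' 0) (hc' 1) (hc' 2) (hc' 3) (hc' 4) (by linarith)
    (by linarith) hmem hok

theorem not_row5 (hG : IsM12 G) {a : G} (ha : orderOf a = 11) (Sh : Shape a (rows 5)) : False := by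
  obtain ⟨t, ht, h64⟩ := exists_central_involution hG
  obtain ⟨v, V, hq, hC, hC', hok, hc⟩ := Sh.invol_good hG ha (rows_ok 5) ht
  have hmem := mem_orders64 hC h64 hC'
  have hl := V.lin hG ha
  have hc' := hc 2880 true false (orders64_le _ hmem) (fun _ => h64) (by simp)
  rw [Fin.sum_univ_five] at hq hl
  have hl' : (1 : ℤ) + ((1 : ℤ) * v 0 + (1 : ℤ) * v 1 + (-1 : ℤ) * v 2 + (-1 : ℤ) * v 3 + (-1 : ℤ) * v 4) = 0 := hl
  have hq' : (95040 : ℤ) + (v 0 * v 0 * (7920 : ℤ) + v 1 * v 1 * (2112 : ℤ) + v 2 * v 2 * (-9504 : ℤ) + v 3 * v 3 * (-2970 : ℤ) + v 4 * v 4 * (-5940 : ℤ)) = 0 := hq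
  exact central_row5 (hc' 0) (hc' 1) (hc' 2) (hc' 3) (hc' 4) (by linarith)
    (by linarith) hmem hok

theorem not_row6 (hG : IsM12 G) {a : G} (ha : orderOf a = 11) (Sh : Shape a (rows 6)) : False := by
  obtain ⟨t, ht, h64⟩ := exists_central_involution hG
  obtain ⟨v, V, hq, hC, hC', hok, hc⟩ := Sh.invol_good hG ha (rows_ok 6) ht
  have hmem := mem_orders64 hC h64 hC'
  have hl := V.lin hG ha
  have hc' := hc 2880 true false (orders64_le _ hmem) (fun _ => h64) (by simp)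
  rw [Fin.sum_univ_five] at hq hl
  have hl' : (1 : ℤ) + ((1 : ℤ) * v 0 + (1 : ℤ) * v 1 + (-1 : ℤ) * v 2 + (-1 : ℤ) * v 3 + (1 : ℤ) * v 4) = 0 := hl
  have hq' : (95040 : ℤ) + (v 0 * v 0 * (7920 : ℤ) + v 1 * v 1 * (2112 : ℤ) + v 2 * v 2 * (-9504 : ℤ) + v 3 * v 3 * (-1760 : ℤ) + v 4 * v 4 * (15840 : ℤ)) = 0 := hq
  exact central_row6 (hc' 0) (hc' 1) (hc' 2) (hc' 3) (hc' 4) (by linarith)
    (by linarith) hmem hok

theorem not_row8 (hG : IsM12 G) {a : G} (ha : orderOf a = 11) (Sh : Shape a (rows 8)) : False := by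
  obtain ⟨t, ht, h64⟩ := exists_central_involution hG
  obtain ⟨v, V, hq, hC, hC', hok, hc⟩ := Sh.invol_good hG ha (rows_ok 8) ht
  have hmem := mem_orders64 hC h64 hC'
  have hl := V.lin hG ha
  have hc' := hc 2880 true false (orders64_le _ hmem) (fun _ => h64) (by simp)
  rw [Fin.sum_univ_five] at hq hl
  have hl' : (1 : ℤ) + ((1 : ℤ) * v 0 + (1 : ℤ) * v 1 + (-1 : ℤ) * v 2 + (-1 : ℤ) * v 3 + (1 : ℤ) * v 4) = 0 := hl
  have hq' : (95040 : ℤ) + (v 0 * v 0 * (7920 : ℤ) + v 1 * v 1 * (2112 : ℤ) + v 2 * v 2 * (-2970 : ℤ) + v 3 * v 3 * (-2970 : ℤ) + v 4 * v 4 * (15840 : ℤ)) = 0 := hq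
  exact central_row8 (hc' 0) (hc' 1) (hc' 2) (hc' 3) (hc' 4) (by linarith)
    (by linarith) hmem hok

theorem not_row9 (hG : IsM12 G) {a : G} (ha : orderOf a = 11) (Sh : Shape a (rows 9)) : False := by
  obtain ⟨t, ht, h64⟩ := exists_central_involution hG
  obtain ⟨v, V, hq, hC, hC', hok, hc⟩ := Sh.invol_good hG ha (rows_ok 9) ht
  have hmem := mem_orders64 hC h64 hC'
  have hl := V.lin hG ha
  have hc' := hc 2880 true false (orders64_le _ hmem) (fun _ => h64) (by simp)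
  rw [Fin.sum_univ_five] at hq hl
  have hl' : (1 : ℤ) + ((1 : ℤ) * v 0 + (1 : ℤ) * v 1 + (-1 : ℤ) * v 2 + (-1 : ℤ) * v 3 + (-1 : ℤ) * v 4) = 0 := hl
  have hq' : (95040 : ℤ) + (v 0 * v 0 * (7920 : ℤ) + v 1 * v 1 * (660 : ℤ) + v 2 * v 2 * (-9504 : ℤ) + v 3 * v 3 * (-792 : ℤ) + v 4 * v 4 * (-3520 : ℤ)) = 0 := hq
  exact central_row9 (hc' 0) (hc' 1) (hc' 2) (hc' 3) (hc' 4) (by linarith)
    (by linarith) hmem hok

theorem not_row11 (hG : IsM12 G) {a : G} (ha : orderOf a = 11) (Sh : Shape a (rows 11)) : False := by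
  obtain ⟨t, ht, h64⟩ := exists_central_involution hG
  obtain ⟨v, V, hq, hC, hC', hok, hc⟩ := Sh.invol_good hG ha (rows_ok 11) ht
  have hmem := mem_orders64 hC h64 hC'
  have hl := V.lin hG ha
  have hc' := hc 2880 true false (orders64_le _ hmem) (fun _ => h64) (by simp)
  rw [Fin.sum_univ_five] at hq hl
  have hl' : (1 : ℤ) + ((1 : ℤ) * v 0 + (1 : ℤ) * v 1 + (1 : ℤ) * v 2 + (-1 : ℤ) * v 3 + (-1 : ℤ) * v 4) = 0 := hl
  have hq' : (95040 : ℤ) + (v 0 * v 0 * (2112 : ℤ) + v 1 * v 1 * (2112 : ℤ) + v 2 * v 2 * (2112 : ℤ) + v 3 * v 3 * (-792 : ℤ) + v 4 * v 4 * (-5940 : ℤ)) = 0 := hq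
  exact central_row11 (hc' 0) (hc' 1) (hc' 2) (hc' 3) (hc' 4) (by linarith)
    (by linarith) hmem hok

theorem not_row13 (hG : IsM12 G) {a : G} (ha : orderOf a = 11) (Sh : Shape a (rows 13)) : False := by
  obtain ⟨t, ht, h64⟩ := exists_central_involution hG
  obtain ⟨v, V, hq, hC, hC', hok, hc⟩ := Sh.invol_good hG ha (rows_ok 13) ht
  have hmem := mem_orders64 hC h64 hC'
  have hl := V.lin hG ha
  have hc' := hc 2880 true false (orders64_le _ hmem) (fun _ => h64) (by simp)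
  rw [Fin.sum_univ_five] at hq hl
  have hl' : (1 : ℤ) + ((1 : ℤ) * v 0 + (1 : ℤ) * v 1 + (-1 : ℤ) * v 2 + (-1 : ℤ) * v 3 + (-1 : ℤ) * v 4) = 0 := hl
  have hq' : (95040 : ℤ) + (v 0 * v 0 * (2112 : ℤ) + v 1 * v 1 * (2112 : ℤ) + v 2 * v 2 * (-2970 : ℤ) + v 3 * v 3 * (-2970 : ℤ) + v 4 * v 4 * (-3520 : ℤ)) = 0 := hq
  exact central_row13 (hc' 0) (hc' 1) (hc' 2) (hc' 3) (hc' 4) (by linarith)
    (by linarith) hmem hok

theorem not_row18 (hG : IsM12 G) {a : G} (ha : orderOf a = 11) (Sh : Shape a (rows 18)) : False := by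
  obtain ⟨t, ht, h64⟩ := exists_central_involution hG
  obtain ⟨v, V, hq, hC, hC', hok, hc⟩ := Sh.invol_good hG ha (rows_ok 18) ht
  have hmem := mem_orders64 hC h64 hC'
  have hl := V.lin hG ha
  have hc' := hc 2880 true false (orders64_le _ hmem) (fun _ => h64) (by simp)
  rw [Fin.sum_univ_five] at hq hl
  have hl' : (1 : ℤ) + ((1 : ℤ) * v 0 + (-1 : ℤ) * v 1 + (-1 : ℤ) * v 2 + (-1 : ℤ) * v 3 + (1 : ℤ) * v 4) = 0 := hl
  have hq' : (95040 : ℤ) + (v 0 * v 0 * (2112 : ℤ) + v 1 * v 1 * (-9504 : ℤ) + v 2 * v 2 * (-9504 : ℤ) + v 3 * v 3 * (-2970 : ℤ) + v 4 * v 4 * (15840 : ℤ)) = 0 := hq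
  exact central_row18 (hc' 0) (hc' 1) (hc' 2) (hc' 3) (hc' 4) (by linarith)
    (by linarith) hmem hok

theorem not_row19 (hG : IsM12 G) {a : G} (ha : orderOf a = 11) (Sh : Shape a (rows 19)) : False := by
  obtain ⟨t, ht, h64⟩ := exists_central_involution hG
  obtain ⟨v, V, hq, hC, hC', hok, hc⟩ := Sh.invol_good hG ha (rows_ok 19) ht
  have hmem := mem_orders64 hC h64 hC'
  have hl := V.lin hG ha
  have hc' := hc 2880 true false (orders64_le _ hmem) (fun _ => h64) (by simp)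
  rw [Fin.sum_univ_five] at hq hl
  have hl' : (1 : ℤ) + ((1 : ℤ) * v 0 + (-1 : ℤ) * v 1 + (-1 : ℤ) * v 2 + (-1 : ℤ) * v 3 + (1 : ℤ) * v 4) = 0 := hl
  have hq' : (95040 : ℤ) + (v 0 * v 0 * (2112 : ℤ) + v 1 * v 1 * (-9504 : ℤ) + v 2 * v 2 * (-1760 : ℤ) + v 3 * v 3 * (-1760 : ℤ) + v 4 * v 4 * (1320 : ℤ)) = 0 := hq
  exact central_row19 (hc' 0) (hc' 1) (hc' 2) (hc' 3) (hc' 4) (by linarith)
    (by linarith) hmem hok

theorem not_row20 (hG : IsM12 G) {a : G} (ha : orderOf a = 11) (Sh : Shape a (rows 20)) : False := by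
  obtain ⟨t, ht, h64⟩ := exists_central_involution hG
  obtain ⟨v, V, hq, hC, hC', hok, hc⟩ := Sh.invol_good hG ha (rows_ok 20) ht
  have hmem := mem_orders64 hC h64 hC'
  have hl := V.lin hG ha
  have hc' := hc 2880 true false (orders64_le _ hmem) (fun _ => h64) (by simp)
  rw [Fin.sum_univ_five] at hq hl
  have hl' : (1 : ℤ) + ((1 : ℤ) * v 0 + (-1 : ℤ) * v 1 + (-1 : ℤ) * v 2 + (-1 : ℤ) * v 3 + (1 : ℤ) * v 4) = 0 := hl
  have hq' : (95040 : ℤ) + (v 0 * v 0 * (2112 : ℤ) + v 1 * v 1 * (-2970 : ℤ) + v 2 * v 2 * (-2970 : ℤ) + v 3 * v 3 * (-1760 : ℤ) + v 4 * v 4 * (1320 : ℤ)) = 0 := hq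
  exact central_row20 (hc' 0) (hc' 1) (hc' 2) (hc' 3) (hc' 4) (by linarith)
    (by linarith) hmem hok

theorem not_row23 (hG : IsM12 G) {a : G} (ha : orderOf a = 11) (Sh : Shape a (rows 23)) : False := by
  obtain ⟨t, ht, h64⟩ := exists_central_involution hG
  obtain ⟨v, V, hq, hC, hC', hok, hc⟩ := Sh.invol_good hG ha (rows_ok 23) ht
  have hmem := mem_orders64 hC h64 hC'
  have hl := V.lin hG ha
  have hc' := hc 2880 true false (orders64_le _ hmem) (fun _ => h64) (by simp)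
  rw [Fin.sum_univ_five] at hq hl
  have hl' : (1 : ℤ) + ((1 : ℤ) * v 0 + (-1 : ℤ) * v 1 + (-1 : ℤ) * v 2 + (-1 : ℤ) * v 3 + (-1 : ℤ) * v 4) = 0 := hl
  have hq' : (95040 : ℤ) + (v 0 * v 0 * (660 : ℤ) + v 1 * v 1 * (-9504 : ℤ) + v 2 * v 2 * (-1760 : ℤ) + v 3 * v 3 * (-1760 : ℤ) + v 4 * v 4 * (-3520 : ℤ)) = 0 := hq
  exact central_row23 (hc' 0) (hc' 1) (hc' 2) (hc' 3) (hc' 4) (by linarith)
    (by linarith) hmem hok

theorem not_row24 (hG : IsM12 G) {a : G} (ha : orderOf a = 11) (Sh : Shape a (rows 24)) : False := by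
  obtain ⟨t, ht, h64⟩ := exists_central_involution hG
  obtain ⟨v, V, hq, hC, hC', hok, hc⟩ := Sh.invol_good hG ha (rows_ok 24) ht
  have hmem := mem_orders64 hC h64 hC'
  have hl := V.lin hG ha
  have hc' := hc 2880 true false (orders64_le _ hmem) (fun _ => h64) (by simp)
  rw [Fin.sum_univ_five] at hq hl
  have hl' : (1 : ℤ) + ((1 : ℤ) * v 0 + (-1 : ℤ) * v 1 + (-1 : ℤ) * v 2 + (-1 : ℤ) * v 3 + (-1 : ℤ) * v 4) = 0 := hl
  have hq' : (95040 : ℤ) + (v 0 * v 0 * (660 : ℤ) + v 1 * v 1 * (-2970 : ℤ) + v 2 * v 2 * (-2970 : ℤ) + v 3 * v 3 * (-1760 : ℤ) + v 4 * v 4 * (-3520 : ℤ)) = 0 := hq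
  exact central_row24 (hc' 0) (hc' 1) (hc' 2) (hc' 3) (hc' 4) (by linarith)
    (by linarith) hmem hok

theorem no_ten_row2 (hG : IsM12 G) {a : G} (ha : orderOf a = 11) (Sh : Shape a (rows 2)) {t : G}
    (ht : orderOf t = 2) (h10 : 10 ∣ cc t) : False := by
  obtain ⟨v, V, hq, hC, hC', hok, hc⟩ := Sh.invol_good hG ha (rows_ok 2) ht
  have hmem := mem_orders10 hC h10 hC'
  have hl := V.lin hG ha
  have hc' := hc 4320 false true (orders10_le _ hmem) (by simp) (fun _ => (by norm_num : 5 ∣ 10).trans h10)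
  rw [Fin.sum_univ_five] at hq hl
  have hl' : (1 : ℤ) + ((1 : ℤ) * v 0 + (1 : ℤ) * v 1 + (1 : ℤ) * v 2 + (-1 : ℤ) * v 3 + (-1 : ℤ) * v 4) = 0 := hl
  have hq' : (95040 : ℤ) + (v 0 * v 0 * (7920 : ℤ) + v 1 * v 1 * (7920 : ℤ) + v 2 * v 2 * (2112 : ℤ) + v 3 * v 3 * (-9504 : ℤ) + v 4 * v 4 * (-1584 : ℤ)) = 0 := hq
  exact five_row2 (hc' 0) (hc' 1) (hc' 2) (hc' 3) (hc' 4) (by linarith)
    (by linarith) hmem hok

theorem no_ten_row7 (hG : IsM12 G) {a : G} (ha : orderOf a = 11) (Sh : Shape a (rows 7)) {t : G}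
    (ht : orderOf t = 2) (h10 : 10 ∣ cc t) : False := by
  obtain ⟨v, V, hq, hC, hC', hok, hc⟩ := Sh.invol_good hG ha (rows_ok 7) ht
  have hmem := mem_orders10 hC h10 hC'
  have hl := V.lin hG ha
  have hc' := hc 4320 false true (orders10_le _ hmem) (by simp) (fun _ => (by norm_num : 5 ∣ 10).trans h10)
  rw [Fin.sum_univ_five] at hq hl
  have hl' : (1 : ℤ) + ((1 : ℤ) * v 0 + (1 : ℤ) * v 1 + (-1 : ℤ) * v 2 + (-1 : ℤ) * v 3 + (1 : ℤ) * v 4) = 0 := hl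
  have hq' : (95040 : ℤ) + (v 0 * v 0 * (7920 : ℤ) + v 1 * v 1 * (2112 : ℤ) + v 2 * v 2 * (-9504 : ℤ) + v 3 * v 3 * (-792 : ℤ) + v 4 * v 4 * (1320 : ℤ)) = 0 := hq
  exact five_row7 (hc' 0) (hc' 1) (hc' 2) (hc' 3) (hc' 4) (by linarith)
    (by linarith) hmem hok

theorem no_ten_row12 (hG : IsM12 G) {a : G} (ha : orderOf a = 11) (Sh : Shape a (rows 12)) {t : G}
    (ht : orderOf t = 2) (h10 : 10 ∣ cc t) : False := by
  obtain ⟨v, V, hq, hC, hC', hok, hc⟩ := Sh.invol_good hG ha (rows_ok 12) ht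
  have hmem := mem_orders10 hC h10 hC'
  have hl := V.lin hG ha
  have hc' := hc 4320 false true (orders10_le _ hmem) (by simp) (fun _ => (by norm_num : 5 ∣ 10).trans h10)
  rw [Fin.sum_univ_five] at hq hl
  have hl' : (1 : ℤ) + ((1 : ℤ) * v 0 + (1 : ℤ) * v 1 + (-1 : ℤ) * v 2 + (-1 : ℤ) * v 3 + (-1 : ℤ) * v 4) = 0 := hl
  have hq' : (95040 : ℤ) + (v 0 * v 0 * (2112 : ℤ) + v 1 * v 1 * (2112 : ℤ) + v 2 * v 2 * (-9504 : ℤ) + v 3 * v 3 * (-1760 : ℤ) + v 4 * v 4 * (-3520 : ℤ)) = 0 := hq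
  exact five_row12 (hc' 0) (hc' 1) (hc' 2) (hc' 3) (hc' 4) (by linarith)
    (by linarith) hmem hok

theorem no_ten_row15 (hG : IsM12 G) {a : G} (ha : orderOf a = 11) (Sh : Shape a (rows 15)) {t : G}
    (ht : orderOf t = 2) (h10 : 10 ∣ cc t) : False := by
  obtain ⟨v, V, hq, hC, hC', hok, hc⟩ := Sh.invol_good hG ha (rows_ok 15) ht
  have hmem := mem_orders10 hC h10 hC'
  have hl := V.lin hG ha
  have hc' := hc 4320 false true (orders10_le _ hmem) (by simp) (fun _ => (by norm_num : 5 ∣ 10).trans h10)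
  rw [Fin.sum_univ_five] at hq hl
  have hl' : (1 : ℤ) + ((1 : ℤ) * v 0 + (1 : ℤ) * v 1 + (-1 : ℤ) * v 2 + (-1 : ℤ) * v 3 + (-1 : ℤ) * v 4) = 0 := hl
  have hq' : (95040 : ℤ) + (v 0 * v 0 * (2112 : ℤ) + v 1 * v 1 * (660 : ℤ) + v 2 * v 2 * (-9504 : ℤ) + v 3 * v 3 * (-792 : ℤ) + v 4 * v 4 * (-1584 : ℤ)) = 0 := hq
  exact five_row15 (hc' 0) (hc' 1) (hc' 2) (hc' 3) (hc' 4) (by linarith)
    (by linarith) hmem hok

theorem no_ten_row17 (hG : IsM12 G) {a : G} (ha : orderOf a = 11) (Sh : Shape a (rows 17)) {t : G}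
    (ht : orderOf t = 2) (h10 : 10 ∣ cc t) : False := by
  obtain ⟨v, V, hq, hC, hC', hok, hc⟩ := Sh.invol_good hG ha (rows_ok 17) ht
  have hmem := mem_orders10 hC h10 hC'
  have hl := V.lin hG ha
  have hc' := hc 4320 false true (orders10_le _ hmem) (by simp) (fun _ => (by norm_num : 5 ∣ 10).trans h10)
  rw [Fin.sum_univ_five] at hq hl
  have hl' : (1 : ℤ) + ((1 : ℤ) * v 0 + (-1 : ℤ) * v 1 + (-1 : ℤ) * v 2 + (-1 : ℤ) * v 3 + (-1 : ℤ) * v 4) = 0 := hl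
  have hq' : (95040 : ℤ) + (v 0 * v 0 * (2112 : ℤ) + v 1 * v 1 * (-9504 : ℤ) + v 2 * v 2 * (-9504 : ℤ) + v 3 * v 3 * (-9504 : ℤ) + v 4 * v 4 * (-5940 : ℤ)) = 0 := hq
  exact five_row17 (hc' 0) (hc' 1) (hc' 2) (hc' 3) (hc' 4) (by linarith)
    (by linarith) hmem hok

end CfsgSimpleM12
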