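/-
The exceptional degree is not five.
-/
import Cfsg.Agent.Lib.SimpleM12.Facts

set_option autoImplicit false
set_option linter.style.haveILetI false
set_option linter.unusedSectionVars false

namespace CfsgSimpleM12

open Cfsg CfsgLib.CharTheory CfsgLib.Blocks CfsgSimpleM11

universe u
variable {G : Type u} [Group G] [Fintype G]

/-- The sum of a character over a subgroup is a multiple of its order. -/
theorem sum_subgroup {F : G → ℂ} (hF : IsCharacter G F) (H : Subgroup G) [Fintype H] :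
    ∃ m : ℕ, ∑ h : H, F h = (Nat.card H : ℂ) * m := by
  classical
  obtain ⟨n, ρ, rfl⟩ := hF
  let σ : Representation ℂ H (Fin n → ℂ) := ρ.comp H.subtype
  haveI : Invertible (Nat.card H : ℂ) := invertibleOfNonzero (Nat.cast_ne_zero.2 Nat.card_pos.ne')
  have h := σ.card_inv_mul_sum_char_eq_finrank
  rw [inv_mul_eq_iff_eq_mul₀ (Nat.cast_ne_zero.2 Nat.card_pos.ne')] at h
  exact ⟨Module.finrank ℂ σ.invariants, h⟩

namespace Shape

variable {a : G} {D : Fin 5 → ℤ} (Sh : Shape a D)

include Sh in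
theorem not_exc_five (hG : IsM12 G) (ha : orderOf a = 11) (h4 : D 4 = -5) : False := by
  classical
  haveI : Fact (Nat.Prime 3) := ⟨by norm_num⟩
  set e := Sh.ch 4 with he
  have hd : dg e = 5 := by
    have := Sh.deg 4
    rw [h4] at this
    rw [show |(-5 : ℤ)| = 5 from rfl, ← he] at this
    exact_mod_cast this
  have hne : e ≠ triv G := Sh.ne_triv 4
  have hone : (e : G → ℂ) 1 = 5 := by rw [irr_degree]; show (dg e : ℂ) = 5; rw [hd]; norm_num
  -- elements of order three
  have h3 : ∀ y : G, orderOf y = 3 → (e : G → ℂ) y = 2 ∨ (e : G → ℂ) y = -1 := by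
    intro y hy
    obtain ⟨f, hf, -⟩ := Sh.exc_int hG ha (g := y) (by omega)
    rw [← he] at hf
    have hf' : (e : G → ℂ) (y ^ 2) = f :=
      ((show (e : G → ℂ) (y ^ 29) = (e : G → ℂ) y from Sh.exc_galois hG ha (by omega) 29
        (by rw [card_eq hG]; norm_num)).trans hf) ▸ congrArg (e : G → ℂ) (pow_red hy (by norm_num))
    obtain ⟨z, hz, hsum⟩ : ∃ z : ℂ, z ^ 3 = 1 ∧ 1 + z + z ^ 2 = 0 := by
      obtain ⟨z, hz⟩ : ∃ z : ℂ, IsPrimitiveRoot z 3 := ⟨_, Complex.isPrimitiveRoot_exp 3 (by norm_num)⟩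
      refine ⟨z, hz.pow_eq_one, ?_⟩
      have := hz.geom_sum_eq_zero (by norm_num)
      simp only [Finset.sum_range_succ, Finset.sum_range_zero] at this
      linear_combination this
    obtain ⟨m1, h1⟩ := exists_mult_range e (hy ▸ pow_orderOf_eq_one y) (one_pow 3 : (1 : ℂ) ^ 3 = 1)
    obtain ⟨m2, h2⟩ := exists_mult_range e (hy ▸ pow_orderOf_eq_one y) hz
    simp only [Finset.sum_range_succ, Finset.sum_range_zero, pow_zero, pow_one, hone, hf, hf', one_mul, one_pow] at h1 h2
    have e1 : ((5 + 2 * f : ℤ) : ℂ) = ((3 * m1 : ℤ) : ℂ) := by push_cast; linear_combination h1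
    have e2 : ((5 - f : ℤ) : ℂ) = ((3 * m2 : ℤ) : ℂ) := by push_cast; linear_combination h2 - (f : ℂ) * hsum
    have e1' : 5 + 2 * f = 3 * (m1 : ℤ) := by exact_mod_cast e1
    have e2' : 5 - f = 3 * (m2 : ℤ) := by exact_mod_cast e2
    have hne5 : f ≠ 5 := fun h => by
      refine faithful_value hG hne (g := y) (fun h' => by rw [h', orderOf_one] at hy; norm_num at hy) ?_
      rw [hf, hd, h]; norm_num
    rw [hf]
    rcases (show f = 2 ∨ f = -1 by omega) with rfl | rfl
    · exact Or.inl (by norm_num)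
    · exact Or.inr (by norm_num)
  -- no elements of order nine
  have h9 : ∀ y : G, y ^ 9 = 1 → y ^ 3 = 1 := by
    intro y hy9
    by_contra hne3
    have ho : orderOf y = 9 := orderOf_eq_prime_pow (p := 3) (n := 1) (by simpa using hne3) (by simpa using hy9)
    obtain ⟨f, hf, -⟩ := Sh.exc_int hG ha (g := y) (by omega)
    rw [← he] at hf
    have hco : ∀ m, m.Coprime 95040 → ∀ j, m % 9 = j % 9 → (e : G → ℂ) (y ^ j) = f := fun m hm j hj => by
      rw [← pow_red ho hj, ← hf]
      exact Sh.exc_galois hG ha (by omega) m (by rwa [card_eq hG])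
    have f2 := hco 29 (by norm_num) 2 (by norm_num)
    have f4 := hco 13 (by norm_num) 4 (by norm_num)
    have f5 := hco 23 (by norm_num) 5 (by norm_num)
    have f7 := hco 7 (by norm_num) 7 (by norm_num)
    have f8 := hco 17 (by norm_num) 8 (by norm_num)
    have ho3 : orderOf (y ^ 3) = 3 := by rw [orderOf_pow, ho]; norm_num
    have ho6 : orderOf (y ^ 6) = 3 := by rw [orderOf_pow, ho]; norm_num
    obtain ⟨z, hz, hsum⟩ : ∃ z : ℂ, z ^ 9 = 1 ∧ 1 + z ^ 3 + z ^ 6 = 0 := by
      obtain ⟨z, hz⟩ : ∃ z : ℂ, IsPrimitiveRoot z 9 := ⟨_, Complex.isPrimitiveRoot_exp 9 (by norm_num)⟩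
      refine ⟨z, hz.pow_eq_one, ?_⟩
      have := (hz.pow (by norm_num) (show 9 = 3 * 3 by norm_num)).geom_sum_eq_zero (by norm_num)
      simp only [Finset.sum_range_succ, Finset.sum_range_zero, ← pow_mul] at this
      linear_combination this
    obtain ⟨m2, h2⟩ := exists_mult_range e hy9 hz
    simp only [Finset.sum_range_succ, Finset.sum_range_zero, pow_zero, pow_one, hone, hf, f2, f4, f5, f7, f8,
      one_mul] at h2
    have h36 : (e : G → ℂ) (y ^ 6) = (e : G → ℂ) (y ^ 3) := by
      have := Sh.exc_galois hG ha (g := y ^ 3) (by omega) 29 (by rw [card_eq hG]; norm_num)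
      rwa [← pow_mul, pow_red ho (show 3 * 29 % 9 = 6 % 9 by norm_num)] at this
    rw [h36] at h2
    rcases h3 _ ho3 with h | h <;> rw [h] at h2
    · have : ((3 : ℤ) : ℂ) = ((9 * m2 : ℤ) : ℂ) := by
        push_cast; linear_combination h2 - (2 + (f : ℂ) * (z + z ^ 2)) * hsum
      have : (3 : ℤ) = 9 * m2 := by exact_mod_cast this
      omega
    · have : ((6 : ℤ) : ℂ) = ((9 * m2 : ℤ) : ℂ) := by
        push_cast; linear_combination h2 - (-1 + (f : ℂ) * (z + z ^ 2)) * hsum
      have : (6 : ℤ) = 9 * m2 := by exact_mod_cast this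
      omega
  -- the moments over a Sylow subgroup
  obtain ⟨P⟩ : Nonempty (Sylow 3 G) := inferInstance
  have hP := card_sylow3 hG P
  haveI := Fintype.ofFinite (P : Subgroup G)
  have hval : ∀ y : (P : Subgroup G), y ≠ 1 → (e : G → ℂ) y = 2 ∨ (e : G → ℂ) y = -1 := by
    intro y hy
    have h27 : (y : G) ^ 27 = 1 := by
      have := pow_card_eq_one' (x := y)
      rw [hP] at this
      exact_mod_cast congrArg Subtype.val this
    have h9' := h9 ((y : G) ^ 3) (by rw [← pow_mul]; exact h27)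
    rw [← pow_mul] at h9'
    exact h3 _ (orderOf_eq_prime (h9 _ h9') (fun e => hy (Subtype.ext e)))
  set A := (Finset.univ.erase (1 : (P : Subgroup G))).filter (fun y : (P : Subgroup G) => (e : G → ℂ) (y : G) = 2) with hA
  have hsplit : ∀ φ : ℂ → ℂ, ∑ y : (P : Subgroup G), φ ((e : G → ℂ) (y : G)) =
      φ 5 + (A.card : ℂ) * φ 2 + ((26 : ℂ) - A.card) * φ (-1) := by
    intro φ
    rw [← Finset.add_sum_erase _ _ (Finset.mem_univ (1 : (P : Subgroup G))), OneMemClass.coe_one, hone,
      ← Finset.sum_filter_add_sum_filter_not _ (fun y : (P : Subgroup G) => (e : G → ℂ) (y : G) = 2), ← hA,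
      Finset.sum_congr (s₁ := A) rfl (g := fun _ => φ 2) fun y hy => by rw [(Finset.mem_filter.1 hy).2],
      Finset.sum_congr (s₁ := (Finset.univ.erase (1 : (P : Subgroup G))).filter
        fun y : (P : Subgroup G) => ¬ (e : G → ℂ) (y : G) = 2) rfl (g := fun _ => φ (-1)) fun y hy => by
        obtain ⟨h1, h2⟩ := Finset.mem_filter.1 hy
        rw [(hval y (Finset.mem_erase.1 h1).1).resolve_left h2]]
    have hc := Finset.card_filter_add_card_filter_not (s := Finset.univ.erase (1 : (P : Subgroup G)))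
      (fun y : (P : Subgroup G) => (e : G → ℂ) (y : G) = 2)
    rw [← hA, Finset.card_erase_of_mem (Finset.mem_univ _), Finset.card_univ, ← Nat.card_eq_fintype_card, hP] at hc
    have hc' : (((Finset.univ.erase (1 : (P : Subgroup G))).filter
        fun y : (P : Subgroup G) => ¬ (e : G → ℂ) (y : G) = 2).card : ℂ) = (26 : ℂ) - A.card := by
      have : ((A.card + ((Finset.univ.erase (1 : (P : Subgroup G))).filter
        fun y : (P : Subgroup G) => ¬ (e : G → ℂ) (y : G) = 2).card : ℕ) : ℂ) = 26 := by rw [hc]; norm_num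
      push_cast at this
      linear_combination this
    simp only [Finset.sum_const, nsmul_eq_mul, hc', add_assoc]
  obtain ⟨m1, hm1⟩ := sum_subgroup (isCharacter_of_irr e.2) (P : Subgroup G)
  obtain ⟨m2, hm2⟩ := sum_subgroup (isCharacter_mul (isCharacter_of_irr e.2) (isCharacter_of_irr e.2)) (P : Subgroup G)
  have s1 := hsplit id
  have s2 := hsplit fun x => x * x
  simp only [id] at s1
  rw [hm1, hP] at s1
  rw [show (∑ y : (P : Subgroup G), (e : G → ℂ) (y : G) * (e : G → ℂ) (y : G)) =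
    ∑ y : (P : Subgroup G), ((e : G → ℂ) * (e : G → ℂ)) (y : G) from rfl, hm2, hP] at s2
  have t1 : ((27 * m1 : ℤ) : ℂ) = ((3 * A.card - 21 : ℤ) : ℂ) := by push_cast; linear_combination s1
  have t2 : ((27 * m2 : ℤ) : ℂ) = ((51 + 3 * A.card : ℤ) : ℂ) := by push_cast; linear_combination s2
  have t1' : (27 * m1 : ℤ) = 3 * A.card - 21 := by exact_mod_cast t1
  have t2' : (27 * m2 : ℤ) = 51 + 3 * A.card := by exact_mod_cast t2
  omega

end Shape

end CfsgSimpleM12
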