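/-
Shapes in which no involution centralises an element of order five.
-/
import Cfsg.Agent.Lib.SimpleM12.ElimInvol
import Cfsg.Agent.Lib.SimpleM12.ExcFive

set_option autoImplicit false
set_option linter.style.haveILetI false
set_option linter.unusedSectionVars false

namespace CfsgSimpleM12

open Cfsg CfsgLib.CharTheory CfsgLib.Blocks CfsgSimpleM11
open Subgroup

universe u
variable {G : Type u} [Group G] [Fintype G]

theorem five_arith : ∀ e ∈ ([2, 4] : List ℕ), ∀ k ∈ ([1, 3, 9, 27] : List ℕ), k * e % 5 = 3 → 9 ∣ k := by decide +kernel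

/-- A subgroup of order nine centralising an element of order five. -/
theorem exists_nine (hG : IsM12 G) (hno : ∀ t : G, orderOf t = 2 → ¬ 10 ∣ cc t) :
    ∃ (x : G) (E : Subgroup G), orderOf x = 5 ∧ Nat.card E = 9 ∧ ∀ y ∈ E, Commute x y := by
  haveI : Fact (Nat.Prime 5) := ⟨by norm_num⟩
  haveI : Fact (Nat.Prime 3) := ⟨by norm_num⟩
  obtain ⟨P⟩ : Nonempty (Sylow 5 G) := inferInstance
  have hP := card_sylow5 hG P
  obtain ⟨x, hx, hxo⟩ := exists_order (show Nat.Prime 5 by norm_num)
    (show 5 ∣ Nat.card (P : Subgroup G) by rw [hP])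
  set C := centralizer ({x} : Set G) with hC
  have hz : zpowers x = (P : Subgroup G) :=
    eq_of_le_of_card_ge (zpowers_le.mpr hx) (by rw [hP, Nat.card_zpowers, hxo])
  have hCP : centralizer ((P : Subgroup G) : Set G) = C := by rw [← hz, cent_zpowers]
  haveI : IsCyclic (P : Subgroup G) := isCyclic_of_prime_card hP
  have hle : C ≤ normalizer ((P : Subgroup G) : Set G) := hCP ▸ centralizer_le_normalizer _
  obtain ⟨k, hk⟩ : 5 ∣ Nat.card C := hxo ▸ orderOf_dvd_cc x
  have hCdvd : Nat.card C ∣ 8640 := cc_dvd hG (fun e => by rw [e, orderOf_one] at hxo; norm_num at hxo) (by omega)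
  have hodd : ¬ 2 ∣ Nat.card C := fun h2 => by
    obtain ⟨t, ht, hto⟩ := exists_order Nat.prime_two h2
    refine hno t hto (show 2 * 5 ∣ _ from Nat.Coprime.mul_dvd_of_dvd_of_dvd (by norm_num) (hto ▸ orderOf_dvd_cc t) ?_)
    exact hxo ▸ Subgroup.orderOf_dvd_natCard _
      (mem_centralizer_singleton_iff.mpr (mem_centralizer_singleton_iff.mp ht).symm)
  have hkmem : k ∈ ([1, 3, 9, 27] : List ℕ) := by
    have key : ∀ m ∈ Nat.divisors 1728, ¬ 2 ∣ m → m ∈ ([1, 3, 9, 27] : List ℕ) := by decide +kernel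
    refine key k (Nat.mem_divisors.2 ⟨?_, by norm_num⟩) (fun h => hodd (hk ▸ h.mul_left 5))
    exact Nat.dvd_of_mul_dvd_mul_left (show 0 < 5 by norm_num) (show 5 * k ∣ 5 * 1728 from hk ▸ hCdvd)
  set N := normalizer ((P : Subgroup G) : Set G) with hN
  obtain ⟨e, he⟩ := card_dvd_of_le hle
  have he4 : e ∣ 4 := by
    have h1 := (normalizerMonoidHom (P : Subgroup G)).ker.card_mul_index
    have h2 : Nat.card (normalizerMonoidHom (P : Subgroup G)).range ∣ 4 := by
      refine (card_subgroup_dvd_card _).trans ?_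
      rw [IsCyclic.card_mulAut, hP]
      decide
    rw [index_ker, normalizerMonoidHom_ker, hCP, Nat.card_congr (subgroupOfEquivOfLe hle).toEquiv] at h1
    have h1' : Nat.card C * Nat.card (normalizerMonoidHom (P : Subgroup G)).range = Nat.card C * e := h1.trans he
    rwa [mul_left_cancel₀ Nat.card_pos.ne' h1'] at h2
  have he1 : e ≠ 1 := fun h => by
    rw [h, mul_one] at he
    refine no_transfer hG P (by rw [hP]; norm_num) (by rw [hP]; norm_num) ?_
    rw [hCP]
    exact (eq_of_le_of_card_ge hle he.le).ge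
  have hem : e ∈ ([2, 4] : List ℕ) := by
    have key : ∀ m ∈ Nat.divisors 4, m ≠ 1 → m ∈ ([2, 4] : List ℕ) := by decide +kernel
    exact key e (Nat.mem_divisors.2 ⟨he4, by norm_num⟩) he1
  have hmod : k * e % 5 = 3 := by
    have h1 := N.card_mul_index
    have h0 : N.index = Nat.card (Sylow 5 G) := P.card_eq_index_normalizer.symm
    rw [h0, he, hk, card_eq hG] at h1
    have h2 := card_sylow_modEq_one 5 G
    have h3 : k * e * Nat.card (Sylow 5 G) = 19008 :=
      Nat.eq_of_mul_eq_mul_left (show 0 < 5 by norm_num) (by rw [show 5 * 19008 = 95040 from rfl, ← h1]; ring)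
    have h4 := congrArg (· % 5) h3
    simp only [Nat.ModEq] at h2
    rw [Nat.mul_mod, h2] at h4
    norm_num at h4
    exact h4
  obtain ⟨E, hE⟩ := Sylow.exists_subgroup_card_pow_prime 3 (n := 2) (G := C)
    (show 3 ^ 2 ∣ Nat.card C by rw [hk]; exact (five_arith e hem k hkmem hmod).mul_left 5)
  refine ⟨x, E.map C.subtype, hxo, by rw [card_map_of_injective (subtype_injective _), hE]; norm_num, ?_⟩
  rintro _ ⟨c, -, rfl⟩
  exact (mem_centralizer_singleton_iff.mp c.2).symm

theorem pow_nine {E : Subgroup G} (hE : Nat.card E = 9) {y : G} (hy : y ∈ E) : y ^ 3 ^ 2 = 1 := by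
  have := orderOf_dvd_natCard E hy
  rw [hE] at this
  exact orderOf_dvd_iff_pow_eq_one.mp this

theorem reg_nine {E : Subgroup G} (hE : Nat.card E = 9) {y : G} (hy : y ∈ E) : orderOf y ≠ 11 := fun h => by
  have := orderOf_dvd_natCard E hy
  rw [hE, h] at this
  norm_num at this

theorem five_dvd_order {x y : G} (hx : orderOf x = 5) (hc : Commute x y) (hy : y ^ 3 ^ 2 = 1) :
    5 ∣ orderOf (x * y) := by
  rw [hc.orderOf_mul_eq_mul_orderOf_of_coprime (by
    rw [hx]
    exact Nat.Coprime.coprime_dvd_right (orderOf_dvd_of_pow_eq_one hy) (by norm_num))]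
  exact hx ▸ dvd_mul_right _ _

namespace Shape

variable {a : G} {D : Fin 5 → ℤ} (Sh : Shape a D)

include Sh in
/-- A single character of degree ten is impossible. -/
theorem not_single_ten (hG : IsM12 G) (ha : orderOf a = 11) (i : Fin 5) (hi : i ≠ 4) (hDi : D i = -10)
    (huniq : ∀ j, D j = D i → j = i) (hno : ∀ t : G, orderOf t = 2 → ¬ 10 ∣ cc t) : False := by
  classical
  haveI : Fact (Nat.Prime 5) := ⟨by norm_num⟩
  haveI : Fact (Nat.Prime 3) := ⟨by norm_num⟩
  obtain ⟨x, E, hx, hE, hc⟩ := exists_nine hG hno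
  set ψ := Sh.ch i with hψ
  have hd : dg ψ = 10 := by
    have := Sh.deg i
    rw [hDi, show |(-10 : ℤ)| = 10 from rfl, ← hψ] at this
    exact_mod_cast this
  have hint : ∀ g : G, orderOf g ≠ 11 → ∃ z : ℤ, (ψ : G → ℂ) g = z := fun g hg =>
    Sh.int_of_unique hG ha hg i huniq hi (by rw [hDi]; decide)
  have hval : ∀ y : E, y ≠ 1 → (ψ : G → ℂ) y = -5 := by
    intro y hy
    obtain ⟨z, hz⟩ := hint y (reg_nine hE y.2)
    have h0 := vanish_full hG ψ (p := 5) (k := 1) (by norm_num) (by norm_num) (by norm_num) (by rw [hd]; norm_num)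
      (five_dvd_order hx (hc y y.2) (pow_nine hE y.2))
    have h5 := modEq_mul ψ (p := 5) (a := 0) (by rw [← hx, pow_orderOf_eq_one]) (hc y y.2)
      (hint _ (reg_nine hE (pow_mem y.2 5))) (by rw [h0, Int.cast_zero]) hz
    have h3 := modEq_degree ψ (p := 3) (k := 2) (pow_nine hE y.2) hz
    have hn := norm_char_le (isCharacter_of_irr ψ.2) (y : G)
    rw [hz, irr_degree, Complex.norm_intCast, Complex.norm_natCast, show charDegree (ψ : G → ℂ) = 10 from hd] at hn
    have hz10 : |z| ≤ 10 := by exact_mod_cast hn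
    rw [abs_le] at hz10
    have hne : z ≠ 10 := fun e => by
      refine faithful_value hG (Sh.ne_triv i) (g := (y : G)) (fun e' => hy (Subtype.ext e')) ?_
      rw [hz, ← hψ, hd, e]; norm_num
    rw [hd] at h3
    rw [hz]
    have : z = -5 := by simp only [Int.ModEq] at h5 h3; omega
    rw [this]; norm_num
  haveI := Fintype.ofFinite E
  obtain ⟨m, hm⟩ := sum_subgroup (isCharacter_of_irr ψ.2) E
  rw [← Finset.add_sum_erase _ _ (Finset.mem_univ (1 : E)), OneMemClass.coe_one, irr_degree,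
    Finset.sum_congr rfl (fun y hy => hval y (Finset.mem_erase.1 hy).1), Finset.sum_const,
    Finset.card_erase_of_mem (Finset.mem_univ _), Finset.card_univ, ← Nat.card_eq_fintype_card, hE,
    show charDegree (ψ : G → ℂ) = 10 from hd] at hm
  have h2 : ((-30 : ℤ) : ℂ) = ((9 * m : ℤ) : ℂ) := by
    rw [nsmul_eq_mul] at hm
    norm_num at hm ⊢
    linear_combination hm
  have : (-30 : ℤ) = 9 * m := by exact_mod_cast h2
  omega

end Shape

theorem class_ten : (Finset.univ.filter fun i => rows 17 i = -10) = ({1, 2, 3} : Finset (Fin 5)) := by decide +kernel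

theorem not_row17 (hG : IsM12 G) {a : G} (ha : orderOf a = 11) (Sh : Shape a (rows 17)) : False := by
  classical
  haveI : Fact (Nat.Prime 5) := ⟨by norm_num⟩
  haveI : Fact (Nat.Prime 3) := ⟨by norm_num⟩
  obtain ⟨x, E, hx, hE, hc⟩ := exists_nine hG (fun t ht h => no_ten_row17 hG ha Sh ht h)
  set T : G → ℂ := fun g => ∑ i ∈ ({1, 2, 3} : Finset (Fin 5)), (Sh.ch i : G → ℂ) g with hT
  have hTint : ∀ g : G, orderOf g ≠ 11 → ∃ z : ℤ, T g = z := fun g hg =>
    by
    obtain ⟨z, hz⟩ := Sh.class_int hG ha hg (-10) (by decide +kernel) (by decide)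
    rw [class_ten] at hz
    exact ⟨z, hz⟩
  have hTgen : IsGeneralizedCharacter G T := isGenChar_of_char (by
    rw [show T = ∑ i ∈ ({1, 2, 3} : Finset (Fin 5)), (Sh.ch i : G → ℂ) from
      funext fun g => (Finset.sum_apply g _ _).symm]
    exact isCharacter_sum _ _ fun i _ => isCharacter_of_irr (Sh.ch i).2)
  have h45 : ∀ g : G, orderOf g ≠ 11 → ∃ z : ℤ, (Sh.ch 0 : G → ℂ) g = z := fun g hg =>
    Sh.int_of_unique hG ha hg 0 (by decide +kernel) (by decide) (by decide +kernel)
  have hd : ∀ i, (dg (Sh.ch i) : ℤ) = ![45, 10, 10, 10, 16] i := fun i => by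
    rw [Sh.deg i]; fin_cases i <;> rfl
  have hd4 : dg (Sh.ch 4) = 16 := by
    have h : (dg (Sh.ch 4) : ℤ) = ((16 : ℕ) : ℤ) := hd 4
    exact_mod_cast h
  have hval : ∀ y : E, y ≠ 1 → (Sh.ch 4 : G → ℂ) y = 1 ∨ (Sh.ch 4 : G → ℂ) y = -14 := by
    intro y hy
    have hr := reg_nine hE y.2
    have h9 := pow_nine hE y.2
    obtain ⟨f, hf, -⟩ := Sh.exc_int hG ha hr
    obtain ⟨v, hv⟩ := h45 y hr
    obtain ⟨s, hs⟩ := hTint y hr
    have ho := Sh.orth hG ha hr
    have hs' : (Sh.ch 1 : G → ℂ) y + (Sh.ch 2 : G → ℂ) y + (Sh.ch 3 : G → ℂ) y = s := by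
      rw [← hs, hT]
      simp only [Finset.sum_insert (show (1 : Fin 5) ∉ ({2, 3} : Finset (Fin 5)) by decide),
        Finset.sum_insert (show (2 : Fin 5) ∉ ({3} : Finset (Fin 5)) by decide), Finset.sum_singleton]
      ring
    rw [Fin.sum_univ_five, show (rows 17 0).sign = 1 from rfl, show (rows 17 1).sign = -1 from rfl,
      show (rows 17 2).sign = -1 from rfl, show (rows 17 3).sign = -1 from rfl,
      show (rows 17 4).sign = -1 from rfl, hv, hf] at ho
    have hlin : ((1 + v - s - f : ℤ) : ℂ) = ((0 : ℤ) : ℂ) := by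
      push_cast at ho ⊢
      linear_combination ho + hs'
    have hlin' : 1 + v - s - f = 0 := by exact_mod_cast hlin
    have h5ord := five_dvd_order hx (hc y y.2) h9
    have hv0 : (Sh.ch 0 : G → ℂ) (x * y) = 0 := vanish_full hG _ (p := 5) (k := 1) (by norm_num) (by norm_num)
      (by norm_num) (by have := hd 0; simp at this; rw [show dg (Sh.ch 0) = 45 by exact_mod_cast this]; norm_num) h5ord
    have hT0 : T (x * y) = 0 := Finset.sum_eq_zero fun i hi => vanish_full hG _ (p := 5) (k := 1) (by norm_num)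
      (by norm_num) (by norm_num) (by
        have := hd i
        fin_cases hi <;> simp at this <;> rw [show dg (Sh.ch _) = 10 by exact_mod_cast this] <;> norm_num) h5ord
    have v5 := modEq_mul (Sh.ch 0) (p := 5) (a := 0) (by rw [← hx, pow_orderOf_eq_one]) (hc y y.2)
      (h45 _ (reg_nine hE (pow_mem y.2 5))) (by rw [hv0, Int.cast_zero]) hv
    obtain ⟨c, hc5⟩ := hTint _ (reg_nine hE (pow_mem y.2 5))
    have s5 : (0 : ℤ) ≡ s [ZMOD 5] := genChar_modEq_mul hTgen (k := 1) (p := 5)
      (by rw [pow_one, ← hx, pow_orderOf_eq_one]) (hc y y.2) (by rw [hT0, Int.cast_zero]) hs (c := c)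
      (by rw [pow_one]; exact hc5)
    have v3 := modEq_degree (Sh.ch 0) (p := 3) (k := 2) h9 hv
    have f3 := modEq_degree (Sh.ch 4) (p := 3) (k := 2) h9 hf
    have hn := norm_char_le (isCharacter_of_irr (Sh.ch 4).2) (y : G)
    rw [hf, irr_degree, Complex.norm_intCast, Complex.norm_natCast,
      show charDegree (Sh.ch 4 : G → ℂ) = 16 from hd4] at hn
    have hf16 : |f| ≤ 16 := by exact_mod_cast hn
    rw [abs_le] at hf16
    have hne : f ≠ 16 := fun e => by
      refine faithful_value hG (Sh.ne_triv 4) (g := (y : G)) (fun e' => hy (Subtype.ext e')) ?_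
      rw [hf, hd4, e]; norm_num
    have h0 := hd 0
    rw [hd4] at f3
    simp only [Matrix.cons_val_zero] at h0
    rw [h0] at v3
    rw [hf]
    rcases (show f = 1 ∨ f = -14 by simp only [Int.ModEq] at v5 s5 v3 f3; omega) with rfl | rfl
    · exact Or.inl (by norm_num)
    · exact Or.inr (by norm_num)
  haveI := Fintype.ofFinite E
  set A := (Finset.univ.erase (1 : E)).filter (fun y : E => (Sh.ch 4 : G → ℂ) (y : G) = -14) with hA
  obtain ⟨m, hm⟩ := sum_subgroup (isCharacter_of_irr (Sh.ch 4).2) E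
  rw [← Finset.add_sum_erase _ _ (Finset.mem_univ (1 : E)), OneMemClass.coe_one, irr_degree,
    ← Finset.sum_filter_add_sum_filter_not _ (fun y : E => (Sh.ch 4 : G → ℂ) (y : G) = -14), ← hA,
    Finset.sum_congr (s₁ := A) rfl (g := fun _ => (-14 : ℂ)) fun y hy => by rw [(Finset.mem_filter.1 hy).2],
    Finset.sum_congr (s₁ := (Finset.univ.erase (1 : E)).filter fun y : E => ¬ (Sh.ch 4 : G → ℂ) (y : G) = -14) rfl
      (g := fun _ => (1 : ℂ)) fun y hy => by
      obtain ⟨h1, h2⟩ := Finset.mem_filter.1 hy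
      rw [(hval y (Finset.mem_erase.1 h1).1).resolve_right h2],
    Finset.sum_const, Finset.sum_const, show charDegree (Sh.ch 4 : G → ℂ) = 16 from hd4, hE] at hm
  have hcard := Finset.card_filter_add_card_filter_not (s := Finset.univ.erase (1 : E))
    (fun y : E => (Sh.ch 4 : G → ℂ) (y : G) = -14)
  rw [← hA, Finset.card_erase_of_mem (Finset.mem_univ _), Finset.card_univ, ← Nat.card_eq_fintype_card, hE] at hcard
  set q := ((Finset.univ.erase (1 : E)).filter fun y : E => ¬ (Sh.ch 4 : G → ℂ) (y : G) = -14).card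
  have h2 : ((16 - 14 * A.card + q : ℤ) : ℂ) = ((9 * m : ℤ) : ℂ) := by
    simp only [nsmul_eq_mul, mul_one] at hm
    push_cast at hm ⊢
    linear_combination hm
  have h2' : (16 - 14 * A.card + q : ℤ) = 9 * m := by exact_mod_cast h2
  obtain ⟨y, hy⟩ := Finset.card_eq_one.mp (show A.card = 1 by omega)
  obtain ⟨hy1, hy2⟩ := Finset.mem_filter.1 (hy ▸ Finset.mem_singleton_self y : y ∈ A)
  have hyne := (Finset.mem_erase.1 hy1).1
  have hinv : y⁻¹ ∈ A := by
    refine Finset.mem_filter.2 ⟨Finset.mem_erase.2 ⟨inv_ne_one.mpr hyne, Finset.mem_univ _⟩, ?_⟩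
    rw [InvMemClass.coe_inv, CfsgSimpleM11.irr_inv, hy2, show (-14 : ℂ) = ((-14 : ℤ) : ℂ) by norm_num, map_intCast]
  rw [hy, Finset.mem_singleton] at hinv
  apply hyne
  have h2y : (y : G) ^ 2 = 1 := by
    rw [pow_two]
    conv_lhs => arg 1; rw [← congrArg Subtype.val hinv]
    simp
  have ho1 := orderOf_dvd_of_pow_eq_one h2y
  have ho2 := orderOf_dvd_of_pow_eq_one (pow_nine hE y.2)
  exact Subtype.ext (orderOf_eq_one_iff.mp (Nat.dvd_one.mp (by simpa using Nat.dvd_gcd ho1 ho2)))

theorem not_row2 (hG : IsM12 G) {a : G} (ha : orderOf a = 11) (Sh : Shape a (rows 2)) : False :=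
  Sh.not_single_ten hG ha 3 (by decide) rfl (by decide +kernel) (fun _ ht h => no_ten_row2 hG ha Sh ht h)

theorem not_row7 (hG : IsM12 G) {a : G} (ha : orderOf a = 11) (Sh : Shape a (rows 7)) : False :=
  Sh.not_single_ten hG ha 2 (by decide) rfl (by decide +kernel) (fun _ ht h => no_ten_row7 hG ha Sh ht h)

theorem not_row12 (hG : IsM12 G) {a : G} (ha : orderOf a = 11) (Sh : Shape a (rows 12)) : False :=
  Sh.not_single_ten hG ha 2 (by decide) rfl (by decide +kernel) (fun _ ht h => no_ten_row12 hG ha Sh ht h)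

theorem not_row15 (hG : IsM12 G) {a : G} (ha : orderOf a = 11) (Sh : Shape a (rows 15)) : False :=
  Sh.not_single_ten hG ha 2 (by decide) rfl (by decide +kernel) (fun _ ht h => no_ten_row15 hG ha Sh ht h)

end CfsgSimpleM12
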