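/-
Finite searches for the values at elements of order divisible by three.
-/
import Mathlib.Tactic.IntervalCases
import Mathlib.NumberTheory.Divisors

set_option autoImplicit false

namespace CfsgSimpleM12

/-- The integers between `-d` and `d`. -/
def span (d : ℕ) : List ℤ := (List.range (2 * d + 1)).map fun k : ℕ => (k : ℤ) - (d : ℤ)

theorem mem_span {d : ℕ} {v : ℤ} (h1 : -(d : ℤ) ≤ v) (h2 : v ≤ (d : ℤ)) : v ∈ span d :=
  List.mem_map.2 ⟨(v + (d : ℤ)).toNat, List.mem_range.2 (by omega), by omega⟩

/-- The values congruent to `b` modulo three. -/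
def spanMod (d : ℕ) (b : ℤ) (cm : ℕ) : List ℤ :=
  (span d).filter fun v => ((v - b) % 3 == 0) && decide (v * v ≤ (cm : ℤ))

theorem mem_spanMod {d cm : ℕ} {b v : ℤ} (h1 : -(d : ℤ) ≤ v) (h2 : v ≤ (d : ℤ)) (h3 : v % 3 = b % 3)
    (h4 : v * v ≤ (cm : ℤ)) : v ∈ spanMod d b cm :=
  List.mem_filter.2 ⟨mem_span h1 h2, by
    simp only [Bool.and_eq_true, beq_iff_eq, decide_eq_true_eq]; exact ⟨by omega, h4⟩⟩

/-- Burnside's condition for a single value. -/
def burnOne (C d : ℕ) (v : ℤ) : Bool := v == 0 || Nat.gcd (95040 / C) d != 1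

/-- The centraliser orders divisible by 27. -/
abbrev orders27 : List ℕ := [27, 54, 108, 135, 216, 270, 432, 540, 864, 1080, 1728, 2160, 4320]

theorem mem_orders27 : ∀ {C : ℕ}, C ∈ Nat.divisors 8640 → 27 ∣ C → C ≠ 8640 → C ∈ orders27 := by decide +kernel

theorem three_row21_check :
    ((spanMod 44 45 4320).all fun a => (spanMod 31 32 4320).all fun b => (spanMod 119 120 4320).all fun e =>
      (fun f : ℤ => !((spanMod 159 160 4320).contains f) ||
        orders27.all (fun C => decide ((C : ℤ) < 1 + a * a + b * b + e * e + f * f + f * f) ||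
          !(burnOne C 45 a && burnOne C 32 b && burnOne C 120 e && burnOne C 160 f) ||
          decide (((95040 + 2112 * (a * a) - 2970 * (b * b) - 792 * (e * e) + 594 * (f * f)) : ℤ) %
            ((C : ℤ) * (C : ℤ)) ≠ 0) ||
          decide (((95040 + 2112 * (a * a) - 2970 * (b * b) - 792 * (e * e) + 594 * (f * f)) : ℤ) < 0)))
        (-(1 + a - b - e))) = true := by
  decide +kernel

theorem three_row21 {a b e f : ℤ} {C : ℕ} (ha : a ∈ spanMod 44 45 4320) (hb : b ∈ spanMod 31 32 4320)
    (he : e ∈ spanMod 119 120 4320) (hf : f ∈ spanMod 159 160 4320) (hl : 1 + a - b - e + f = 0)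
    (hC : C ∈ orders27) (hn : 1 + a * a + b * b + e * e + f * f + f * f ≤ (C : ℤ))
    (hd : ((C : ℤ) * (C : ℤ)) ∣ 95040 + 2112 * (a * a) - 2970 * (b * b) - 792 * (e * e) + 594 * (f * f))
    (hb' : (burnOne C 45 a && burnOne C 32 b && burnOne C 120 e && burnOne C 160 f) = true)
    (h0 : 0 ≤ 95040 + 2112 * (a * a) - 2970 * (b * b) - 792 * (e * e) + 594 * (f * f)) : False := by
  have h := three_row21_check
  replace h := List.all_eq_true.1 h _ ha
  replace h := List.all_eq_true.1 h _ hb
  replace h := List.all_eq_true.1 h _ he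
  rw [show -(1 + a - b - e) = f by omega] at h
  simp only [List.contains_iff_mem.2 hf, Bool.not_true, Bool.false_or] at h
  have h2 := List.all_eq_true.1 h C hC
  simp only [hb', Bool.not_true, Bool.or_false, Bool.or_eq_true, decide_eq_true_eq] at h2
  rcases h2 with (h2 | h2) | h2
  · omega
  · exact h2 (Int.emod_eq_zero_of_dvd hd)
  · omega

/-- The possible centraliser orders of a product of the central involution and an element of order three. -/
abbrev orders18 : List ℕ := [18, 36, 72, 90, 144, 180, 288, 360, 576, 720, 1440, 2880]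

theorem mem_orders18 : ∀ {C : ℕ}, C ∈ Nat.divisors 2880 → 18 ∣ C → C ∈ orders18 := by decide +kernel

theorem three_row3_check :
    ((spanMod 24 (-16) 5760).all fun s => (spanMod 45 (-15) 2880).all fun b =>
      (fun f : ℤ => !((spanMod 16 0 2880).contains f) ||
        orders18.all (fun C => decide (2 * (C : ℤ) < 2 + s * s + 2 * (b * b) + 4 * (f * f)) ||
          decide ((95040 - 63360 * s - 31680 * b : ℤ) % (2880 * (C : ℤ)) ≠ 0)))
        (1 + s + b)) = true := by
  decide +kernel

theorem three_row3 {s b f : ℤ} {C : ℕ} (hs : s ∈ spanMod 24 (-16) 5760) (hb : b ∈ spanMod 45 (-15) 2880)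
    (hf : f ∈ spanMod 16 0 2880) (hl : 1 + s + b - f = 0) (hC : C ∈ orders18)
    (hn : 2 + s * s + 2 * (b * b) + 4 * (f * f) ≤ 2 * (C : ℤ))
    (hd : (2880 * (C : ℤ)) ∣ 95040 - 63360 * s - 31680 * b) : False := by
  have h := three_row3_check
  replace h := List.all_eq_true.1 h _ hs
  replace h := List.all_eq_true.1 h _ hb
  rw [show 1 + s + b = f by omega] at h
  simp only [List.contains_iff_mem.2 hf, Bool.not_true, Bool.false_or] at h
  have h2 := List.all_eq_true.1 h C hC
  simp only [Bool.or_eq_true, decide_eq_true_eq] at h2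
  rcases h2 with h2 | h2
  · omega
  · exact h2 (Int.emod_eq_zero_of_dvd hd)

end CfsgSimpleM12
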