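/-
Elements of order three: general facts, and two impossible shapes.
-/
import Cfsg.Agent.Lib.SimpleM12.Invol
import Cfsg.Agent.Lib.SimpleM12.SweepsThree

set_option autoImplicit false
set_option linter.style.haveILetI false
set_option linter.unusedSectionVars false

namespace CfsgSimpleM12

open Cfsg CfsgLib.CharTheory CfsgLib.Blocks CfsgSimpleM11
open Subgroup

universe u
variable {G : Type u} [Group G] [Fintype G]

/-- An element of order `p` in the centre of a Sylow subgroup. -/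
theorem exists_central (hG : IsM12 G) {p n : ℕ} [Fact p.Prime] (hn : n ≠ 0)
    (hS : ∀ S : Sylow p G, Nat.card (S : Subgroup G) = p ^ n) : ∃ y : G, orderOf y = p ∧ p ^ n ∣ cc y := by
  have hp : p.Prime := Fact.out
  obtain ⟨S⟩ : Nonempty (Sylow p G) := inferInstance
  haveI : Nontrivial (S : Subgroup G) := Finite.one_lt_card_iff_nontrivial.mp (by
    rw [hS]; exact Nat.one_lt_pow hn hp.one_lt)
  haveI := S.isPGroup'.center_nontrivial
  obtain ⟨k, hk⟩ := (IsPGroup.iff_card.mp (S.isPGroup'.to_subgroup (Subgroup.center (S : Subgroup G))))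
  have hk0 : k ≠ 0 := fun e => by
    have := Finite.one_lt_card (α := Subgroup.center (S : Subgroup G))
    rw [hk, e, pow_zero] at this
    exact lt_irrefl _ this
  obtain ⟨t, ht, hto⟩ := exists_order hp
    (show p ∣ Nat.card (Subgroup.center (S : Subgroup G)) by rw [hk]; exact dvd_pow_self p hk0)
  refine ⟨t, by rw [Subgroup.orderOf_coe]; exact hto, ?_⟩
  rw [← hS S]
  exact Subgroup.card_dvd_of_le fun s hs => Subgroup.mem_centralizer_singleton_iff.mpr
    (congrArg Subtype.val (Subgroup.mem_center_iff.mp ht ⟨s, hs⟩))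

/-- A character of a degree divisible by 27 vanishes at the elements of order divisible by three. -/
theorem vanish_three (hG : IsM12 G) (χ : IrrCharacter G) (hd : 27 ∣ dg χ) {g : G} (hg : 3 ∣ orderOf g) :
    (χ : G → ℂ) g = 0 :=
  vanish_full hG χ (p := 3) (k := 3) (by norm_num) (by norm_num) (by norm_num) hd hg

theorem value_bound (χ : IrrCharacter G) {g : G} {z : ℤ} (hz : (χ : G → ℂ) g = z) :
    -(dg χ : ℤ) ≤ z ∧ z ≤ (dg χ : ℤ) := by
  have hn := norm_char_le (isCharacter_of_irr χ.2) g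
  rw [hz, irr_degree, Complex.norm_intCast, Complex.norm_natCast] at hn
  exact abs_le.mp (by exact_mod_cast hn)

theorem value_strict (hG : IsM12 G) {χ : IrrCharacter G} (hχ : χ ≠ triv G) {g : G} (hg : g ≠ 1) {z : ℤ}
    (hz : (χ : G → ℂ) g = z) : -(dg χ : ℤ) < z ∧ z < (dg χ : ℤ) := by
  obtain ⟨h1, h2⟩ := value_bound χ hz
  refine ⟨lt_of_le_of_ne h1 fun e => neg_degree_ne hG hχ hg ?_, lt_of_le_of_ne h2 fun e => faithful_value hG hχ hg ?_⟩
  · rw [hz, ← e]; push_cast; ring
  · rw [hz, e]; push_cast; ring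

namespace Shape

variable {a : G} {D : Fin 5 → ℤ} (Sh : Shape a D)

theorem dg_eq (i : Fin 5) : dg (Sh.ch i) = (D i).natAbs := by
  have := Sh.deg i
  rw [← Int.natCast_natAbs] at this
  exact_mod_cast this

/-- Integral values when the signed degrees are distinct. -/
theorem vals_of_reg (hG : IsM12 G) (ha : orderOf a = 11) (hinj : Function.Injective D)
    (h1 : ∀ i, |D i| ≠ 1) {g : G} (hg : orderOf g ≠ 11) : ∃ v : Fin 5 → ℤ, Sh.Vals g v := by
  obtain ⟨z, hz, hz'⟩ := Sh.exc_int hG ha hg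
  choose v hv using fun i : Fin 5 => show ∃ v : ℤ, (Sh.ch i : G → ℂ) g = v by
    by_cases hi : i = 4
    · exact ⟨z, hi ▸ hz⟩
    · exact Sh.int_of_unique hG ha hg i (fun j hj => hinj hj) hi (h1 i)
  exact ⟨v, hg, hv, by rw [hz', ← hz, hv]⟩

variable {Sh}

theorem Vals.strict (hG : IsM12 G) {g : G} {v : Fin 5 → ℤ} (V : Sh.Vals g v) (hg : g ≠ 1) (i : Fin 5) :
    -((D i).natAbs : ℤ) < v i ∧ v i < ((D i).natAbs : ℤ) := by
  rw [← Sh.dg_eq i]
  exact value_strict hG (Sh.ne_triv i) hg (V.val i)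

theorem Vals.sq_le {g : G} {v : Fin 5 → ℤ} (V : Sh.Vals g v) (i : Fin 5) {cm : ℕ} (h : cc g ≤ cm) :
    v i * v i ≤ (cm : ℤ) := by
  have hn := V.norm
  have h1 : v i ^ 2 ≤ ∑ j, v j ^ 2 := Finset.single_le_sum (f := fun j => v j ^ 2) (fun _ _ => sq_nonneg _)
    (Finset.mem_univ i)
  have h2 : (cc g : ℤ) ≤ (cm : ℤ) := by exact_mod_cast h
  nlinarith [sq_nonneg (v 4)]

theorem Vals.three_zero (hG : IsM12 G) {g : G} {v : Fin 5 → ℤ} (V : Sh.Vals g v) (hg : 3 ∣ orderOf g)
    (i : Fin 5) (hd : 27 ∣ (D i).natAbs) : v i = 0 := by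
  have := vanish_three hG (Sh.ch i) (Sh.dg_eq i ▸ hd) hg
  rw [V.val] at this
  exact_mod_cast this

/-- The values of multiplication by an element of order three. -/
theorem Vals.mod_three (hG : IsM12 G) (ha : orderOf a = 11) (hinj : Function.Injective D)
    (h1 : ∀ i, |D i| ≠ 1) {y z : G} (hy : orderOf y = 3) (hyz : Commute y z) {v w : Fin 5 → ℤ}
    (V : Sh.Vals z v) (W : Sh.Vals (y * z) w) (hz3 : orderOf (z ^ 3) ≠ 11) (i : Fin 5) : w i % 3 = v i % 3 := by
  haveI : Fact (Nat.Prime 3) := ⟨by norm_num⟩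
  obtain ⟨u, U⟩ := Sh.vals_of_reg hG ha hinj h1 hz3
  exact modEq_mul (Sh.ch i) (p := 3) (by rw [← hy, pow_orderOf_eq_one]) hyz ⟨u i, U.val i⟩ (W.val i) (V.val i)

theorem Vals.not_top (hG : IsM12 G) (ha : orderOf a = 11) {g : G} {v : Fin 5 → ℤ} (V : Sh.Vals g v)
    (hg : g ≠ 1) (h11 : ∀ i, ¬ (11 : ℤ) ∣ D i) : cc g ≠ 8640 := fun e => by
  have h0 : ∀ i, v i = 0 := fun i => by
    by_contra h
    refine V.burnside hG hg i h ?_
    rw [e]
    exact (Nat.Prime.coprime_iff_not_dvd (by norm_num : Nat.Prime 11)).mpr fun h' =>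
      h11 i (Int.ofNat_dvd_left.mpr h')
  have hl := V.lin hG ha
  simp [h0] at hl

end Shape

theorem orders27_le : ∀ C ∈ orders27, C ≤ 4320 := by decide +kernel

theorem orders18_le : ∀ C ∈ orders18, C ≤ 2880 := by decide +kernel

theorem not_row21 (hG : IsM12 G) {a : G} (ha : orderOf a = 11) (Sh : Shape a (rows 21)) : False := by
  haveI : Fact (Nat.Prime 3) := ⟨by norm_num⟩
  obtain ⟨y, hy, h27⟩ := exists_central hG (p := 3) (n := 3) (by norm_num) (fun S => by rw [card_sylow3 hG S]; norm_num)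
  have hreg : orderOf y ≠ 11 := by omega
  have hy1 : y ≠ 1 := fun e => by rw [e, orderOf_one] at hy; norm_num at hy
  obtain ⟨v, V⟩ := Sh.vals_of_reg hG ha (by decide +kernel) (by decide +kernel) hreg
  have hmem : cc y ∈ orders27 := mem_orders27 (Nat.mem_divisors.2 ⟨cc_dvd hG hy1 hreg, by norm_num⟩)
    (by simpa using h27) (V.not_top hG ha hy1 (fun i => (rows_ok 21 i).2))
  have h3 : ∀ i, v i % 3 = (((rows 21) i).natAbs : ℤ) % 3 := fun i => by
    rw [← Sh.dg_eq i]
    exact modEq_degree (Sh.ch i) (p := 3) (k := 1) (by rw [pow_one, ← hy, pow_orderOf_eq_one]) (V.val i)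
  have hs := fun i => V.strict hG hy1 i
  have hq := fun i => V.sq_le i (orders27_le _ hmem)
  have hc : v 2 = 0 := V.three_zero hG (by rw [hy]) 2 (by decide +kernel)
  have hl : (1 : ℤ) + (1 * v 0 + -1 * v 1 + -1 * v 2 + -1 * v 3 + 1 * v 4) = 0 := by
    have h := V.lin hG ha
    rw [Fin.sum_univ_five] at h
    exact h
  have hn := V.norm
  rw [Fin.sum_univ_five, hc] at hn
  have hA' := V.count hG ha V (fun i => (rows_ok 21 i).1)
  rw [Fin.sum_univ_five] at hA'
  have hA : (pairCount y y a : ℤ) * (cc y : ℤ) * (cc y : ℤ) = 95040 + (v 0 * v 0 * 2112 + v 1 * v 1 * -2970 +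
    v 2 * v 2 * -1760 + v 3 * v 3 * -792 + v 4 * v 4 * 594) := hA'
  rw [hc] at hA hl
  have hb : ∀ i (d : ℕ), (rows 21 i).natAbs = d → burnOne (cc y) d (v i) = true := fun i d hd => by
    simp only [burnOne, Bool.or_eq_true, beq_iff_eq, bne_iff_ne, ne_eq]
    by_cases h : v i = 0
    · exact Or.inl h
    · exact Or.inr (hd ▸ V.burnside hG hy1 i h)
  refine three_row21 (a := v 0) (b := v 1) (e := v 3) (f := v 4) (C := cc y) ?_ ?_ ?_ ?_ (by linarith) hmem (by linarith) ?_ ?_ ?_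
  · exact mem_spanMod (by have := (hs 0).1; change -(45 : ℤ) < _ at this; omega) (by have := (hs 0).2; change _ < (45 : ℤ) at this; omega) (h3 0) (hq 0)
  · exact mem_spanMod (by have := (hs 1).1; change -(32 : ℤ) < _ at this; omega) (by have := (hs 1).2; change _ < (32 : ℤ) at this; omega) (h3 1) (hq 1)
  · exact mem_spanMod (by have := (hs 3).1; change -(120 : ℤ) < _ at this; omega) (by have := (hs 3).2; change _ < (120 : ℤ) at this; omega) (h3 3) (hq 3)
  · exact mem_spanMod (by have := (hs 4).1; change -(160 : ℤ) < _ at this; omega) (by have := (hs 4).2; change _ < (160 : ℤ) at this; omega) (h3 4) (hq 4)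
  · exact ⟨pairCount y y a, by linear_combination -hA⟩
  · simp only [hb 0 45 rfl, hb 1 32 rfl, hb 3 120 rfl, hb 4 160 rfl, Bool.and_self]
  · have : 0 ≤ (pairCount y y a : ℤ) * (cc y : ℤ) * (cc y : ℤ) := by positivity
    linarith

theorem class_twelve : (Finset.univ.filter fun i => rows 3 i = 12) = ({0, 1} : Finset (Fin 5)) := by decide +kernel

theorem central_row3_values (hG : IsM12 G) {a : G} (ha : orderOf a = 11) (Sh : Shape a (rows 3)) :
    ∃ t : G, ∃ v : Fin 5 → ℤ, orderOf t = 2 ∧ Sh.Vals t v ∧ cc t = 2880 ∧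
      v 0 = -8 ∧ v 1 = -8 ∧ v 2 = -15 ∧ v 3 = -30 ∧ v 4 = 0 := by
  obtain ⟨t, ht, h64⟩ := exists_central_involution hG
  obtain ⟨v, V, hq, hC, hC', hok, hc⟩ := Sh.invol_good hG ha (rows_ok 3) ht
  have hmem := mem_orders64 hC h64 hC'
  have hl := V.lin hG ha
  have hc' := hc 2880 true false (by
    have key : ∀ C ∈ orders64, C ≤ 2880 := by decide +kernel
    exact key _ hmem) (fun _ => h64) (by simp)
  rw [Fin.sum_univ_five] at hq hl
  have hl' : (1 : ℤ) + (1 * v 0 + 1 * v 1 + 1 * v 2 + -1 * v 3 + -1 * v 4) = 0 := hl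
  have hq' : (95040 : ℤ) + (v 0 * v 0 * 7920 + v 1 * v 1 * 7920 + v 2 * v 2 * 2112 + v 3 * v 3 * -1760 +
    v 4 * v 4 * -5940) = 0 := hq
  have h := central_row3 (hc' 0) (hc' 1) (hc' 2) (hc' 3) (hc' 4) (by linarith) (by linarith) hmem hok
  simp only [List.mem_singleton, Prod.mk.injEq] at h
  exact ⟨t, v, ht, V, h.2.2.2.2.2, h.1, h.2.1, h.2.2.1, h.2.2.2.1, h.2.2.2.2.1⟩

theorem not_row3 (hG : IsM12 G) {a : G} (ha : orderOf a = 11) (Sh : Shape a (rows 3)) : False := by
  classical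
  haveI : Fact (Nat.Prime 3) := ⟨by norm_num⟩
  obtain ⟨t, v, ht, V, hC, v0, v1, v2, v3, v4⟩ := central_row3_values hG ha Sh
  obtain ⟨E, hE⟩ := Sylow.exists_subgroup_card_pow_prime 3 (n := 2) (G := centralizer ({t} : Set G))
    (show 3 ^ 2 ∣ Nat.card (centralizer ({t} : Set G)) by rw [show Nat.card (centralizer ({t} : Set G)) = 2880 from hC]; norm_num)
  set E' := E.map (centralizer ({t} : Set G)).subtype with hE'
  have hE9 : Nat.card E' = 9 := by rw [card_map_of_injective (subtype_injective _), hE]; norm_num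
  obtain ⟨y, hyE, hy⟩ := exists_order (show Nat.Prime 3 by norm_num) (show 3 ∣ Nat.card E' by rw [hE9]; norm_num)
  have hcE : ∀ e ∈ E', Commute e t := by
    rintro _ ⟨c, -, rfl⟩
    exact mem_centralizer_singleton_iff.mp c.2
  have hyt := hcE y hyE
  have ho : orderOf (y * t) = 6 := by
    rw [hyt.orderOf_mul_eq_mul_orderOf_of_coprime (by rw [hy, ht]; norm_num), hy, ht]
  have hw1 : y * t ≠ 1 := fun e => by rw [e, orderOf_one] at ho; norm_num at ho
  have hw : orderOf (y * t) ≠ 11 := by omega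
  have hcomm : ∀ e ∈ E', Commute e y := fun e he => by
    haveI : Fact (Nat.Prime 3) := ⟨by norm_num⟩
    exact congrArg Subtype.val ((IsPGroup.commGroupOfCardEqPrimeSq (G := E') (p := 3) (by rw [hE9]; norm_num)).mul_comm
      ⟨e, he⟩ ⟨y, hyE⟩)
  have h18 : 18 ∣ cc (y * t) := by
    refine show 2 * 9 ∣ _ from Nat.Coprime.mul_dvd_of_dvd_of_dvd (by norm_num) ?_ ?_
    · rw [← ht]
      exact Subgroup.orderOf_dvd_natCard _ (mem_centralizer_singleton_iff.mpr (hyt.symm.mul_right (Commute.refl t)))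
    · rw [← hE9]
      exact card_dvd_of_le fun e he => mem_centralizer_singleton_iff.mpr ((hcomm e he).mul_right (hcE e he))
  have ht3 : (y * t) ^ 3 = t := by
    rw [hyt.mul_pow, show y ^ 3 = 1 by rw [← hy, pow_orderOf_eq_one], one_mul, pow_succ, ← ht, pow_orderOf_eq_one,
      one_mul]
  have hdvd : cc (y * t) ∣ 2880 := by
    rw [← hC]
    refine card_dvd_of_le fun c hc => ?_
    have h : Commute c (y * t) := mem_centralizer_singleton_iff.mp hc
    have := h.pow_right 3
    rw [ht3] at this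
    exact mem_centralizer_singleton_iff.mpr this
  have hmem := mem_orders18 (Nat.mem_divisors.2 ⟨hdvd, by norm_num⟩) h18
  -- the values
  obtain ⟨f, hf, hf'⟩ := Sh.exc_int hG ha hw
  obtain ⟨b, hb⟩ := Sh.int_of_unique hG ha hw 2 (by decide +kernel) (by decide) (by decide +kernel)
  obtain ⟨s, hs⟩ := Sh.class_int hG ha hw 12 (by decide +kernel) (by decide)
  rw [class_twelve, Finset.sum_pair (by decide)] at hs
  have he : (Sh.ch 3 : G → ℂ) (y * t) = 0 := vanish_three hG _ (by rw [Sh.dg_eq]; decide +kernel) (by rw [ho]; norm_num)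
  have ht' : t ^ 3 = t := by rw [pow_succ, ← ht, pow_orderOf_eq_one, one_mul]
  have hy3 : y ^ 3 = 1 := by rw [← hy, pow_orderOf_eq_one]
  have b3 := modEq_mul (Sh.ch 2) (p := 3) hy3 hyt ⟨v 2, by rw [ht', V.val]⟩ hb (V.val 2)
  have f3 := modEq_mul (Sh.ch 4) (p := 3) hy3 hyt ⟨v 4, by rw [ht', V.val]⟩ hf (V.val 4)
  set T : G → ℂ := (Sh.ch 0 : G → ℂ) + (Sh.ch 1 : G → ℂ) with hT
  have hTt : T t = ((-16 : ℤ) : ℂ) := by rw [hT, Pi.add_apply, V.val, V.val, v0, v1]; norm_num
  have s3 : s ≡ -16 [ZMOD (3 : ℕ)] := genChar_modEq_mul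
    (isGenChar_of_char (isCharacter_add (isCharacter_of_irr (Sh.ch 0).2) (isCharacter_of_irr (Sh.ch 1).2)))
    (k := 1) (p := 3) (by rw [pow_one]; exact hy3) hyt hs hTt (c := -16) (by rw [pow_one, ht']; exact hTt)
  -- bounds
  have hd : ∀ i (d : ℕ), (rows 3 i).natAbs = d → dg (Sh.ch i) = d := fun i d h => (Sh.dg_eq i).trans h
  have bb := value_bound _ hb
  rw [hd 2 45 rfl] at bb
  have fb := value_bound _ hf
  rw [hd 4 16 rfl] at fb
  have hs24 : -24 ≤ s ∧ s ≤ 24 := by
    have hn : ‖(s : ℂ)‖ ≤ 24 := by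
      rw [← hs]
      refine (norm_add_le _ _).trans ?_
      have h0 := norm_char_le (isCharacter_of_irr (Sh.ch 0).2) (y * t)
      have h1 := norm_char_le (isCharacter_of_irr (Sh.ch 1).2) (y * t)
      rw [irr_degree, Complex.norm_natCast, show charDegree (Sh.ch 0 : G → ℂ) = 12 from hd 0 12 rfl] at h0
      rw [irr_degree, Complex.norm_natCast, show charDegree (Sh.ch 1 : G → ℂ) = 12 from hd 1 12 rfl] at h1
      norm_num at h0 h1
      linarith
    rw [Complex.norm_intCast] at hn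
    exact abs_le.mp (by exact_mod_cast hn)
  -- linear relation
  have hl := Sh.orth hG ha hw
  rw [Fin.sum_univ_five, show (rows 3 0).sign = 1 from rfl, show (rows 3 1).sign = 1 from rfl,
    show (rows 3 2).sign = 1 from rfl, show (rows 3 3).sign = -1 from rfl, show (rows 3 4).sign = -1 from rfl,
    hb, hf, he] at hl
  have hl' : ((1 + s + b - f : ℤ) : ℂ) = ((0 : ℤ) : ℂ) := by push_cast at hl ⊢; linear_combination hl - hs
  -- the norm
  have hns : s * s + 2 * (b * b) + 4 * (f * f) + 2 ≤ 2 * (cc (y * t) : ℤ) := by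
    have h := cc_eq_sum (y * t)
    set S : Finset (IrrCharacter G) := insert (triv G) (insert (invIrr (Sh.ch 4))
      (({0, 1, 2, 4} : Finset (Fin 5)).image Sh.ch)) with hS
    have hle : ∑ χ ∈ S, ‖(χ : G → ℂ) (y * t)‖ ^ 2 ≤ (cc (y * t) : ℝ) :=
      h ▸ Finset.sum_le_sum_of_subset_of_nonneg (Finset.subset_univ _) fun _ _ _ => sq_nonneg _
    have hn1 : invIrr (Sh.ch 4) ∉ ({0, 1, 2, 4} : Finset (Fin 5)).image Sh.ch := fun hm => by
      obtain ⟨i, -, hi⟩ := Finset.mem_image.1 hm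
      exact Sh.ne_inv i hi
    have hn0 : triv G ∉ insert (invIrr (Sh.ch 4)) (({0, 1, 2, 4} : Finset (Fin 5)).image Sh.ch) := fun hm => by
      rcases Finset.mem_insert.1 hm with h | h
      · refine Sh.ne_triv 4 (Subtype.ext (funext fun x => ?_))
        have := congrArg (fun ψ : IrrCharacter G => (ψ : G → ℂ) x⁻¹) h.symm
        simpa [invIrr_apply, triv_apply] using this
      · obtain ⟨i, -, hi⟩ := Finset.mem_image.1 h
        exact Sh.ne_triv i hi
    rw [Finset.sum_insert hn0, Finset.sum_insert hn1, Finset.sum_image (fun x _ y _ hxy => Sh.inj hxy),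
      Finset.sum_insert (by decide), Finset.sum_insert (by decide), Finset.sum_pair (by decide), triv_apply,
      hf', hb, hf] at hle
    simp only [norm_one, one_pow, Complex.norm_intCast, sq_abs] at hle
    have htri : |(s : ℝ)| ≤ ‖(Sh.ch 0 : G → ℂ) (y * t)‖ + ‖(Sh.ch 1 : G → ℂ) (y * t)‖ := by
      rw [← Complex.norm_intCast, ← hs]; exact norm_add_le _ _
    have hsq := pow_le_pow_left₀ (abs_nonneg _) htri 2
    rw [sq_abs] at hsq
    have : ((s * s + 2 * (b * b) + 4 * (f * f) + 2 : ℤ) : ℝ) ≤ ((2 * (cc (y * t) : ℤ) : ℤ) : ℝ) := by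
      push_cast
      nlinarith [sq_nonneg (‖(Sh.ch 0 : G → ℂ) (y * t)‖ - ‖(Sh.ch 1 : G → ℂ) (y * t)‖)]
    exact_mod_cast this
  -- the number of products
  have hA := Sh.count_eq hG ha (g := t) (h := y * t) (by omega) hw
  rw [Fin.sum_univ_five, V.val, V.val, V.val, V.val, V.val, v0, v1, v2, v3, v4, he, hb, hC,
    show rows 3 0 = 12 from rfl, show rows 3 1 = 12 from rfl, show rows 3 2 = 45 from rfl] at hA
  have hA' : ((((pairCount t (y * t) a : ℤ)) * 2880 * (cc (y * t) : ℤ) : ℤ) : ℂ) =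
      ((95040 - 63360 * s - 31680 * b : ℤ) : ℂ) := by
    push_cast at hA ⊢
    linear_combination hA - 63360 * hs
  have hA'' : (pairCount t (y * t) a : ℤ) * 2880 * (cc (y * t) : ℤ) = 95040 - 63360 * s - 31680 * b := by
    exact_mod_cast hA'
  have hcm := orders18_le _ hmem
  have hl0 : 1 + s + b - f = 0 := by exact_mod_cast hl'
  rw [v2] at b3
  rw [v4] at f3
  simp only [Int.ModEq] at b3 f3 s3
  exact three_row3 (mem_spanMod (by omega) (by omega) (by omega) (by push_cast; nlinarith))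
    (mem_spanMod (by omega) (by omega) (by omega) (by push_cast; nlinarith))
    (mem_spanMod (by omega) (by omega) (by omega) (by push_cast; nlinarith))
    hl0 hmem (by linarith) ⟨pairCount t (y * t) a, by linear_combination -hA''⟩

end CfsgSimpleM12
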