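/-
Only one shape survives.
-/
import Cfsg.Agent.Lib.SimpleM12.Five
import Cfsg.Agent.Lib.SimpleM12.Three

set_option autoImplicit false
set_option linter.style.haveILetI false
set_option linter.unusedSectionVars false

namespace CfsgSimpleM12

open Cfsg CfsgLib.CharTheory CfsgSimpleM11

universe u
variable {G : Type u} [Group G] [Fintype G]

theorem row_cases : ∀ k : Fin 26, k = 16 ∨ rows k 4 = -5 ∨
    k ∈ ([0, 5, 6, 8, 9, 11, 13, 18, 19, 20, 23, 24, 2, 7, 12, 15, 17, 3, 21] : List (Fin 26)) := by decide +kernel

/-- The shape of a simple group of order 95040. -/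
theorem exists_shape_sixteen (hG : IsM12 G) {a : G} (ha : orderOf a = 11) : Nonempty (Shape a (rows 16)) := by
  obtain ⟨k, ⟨Sh⟩⟩ := exists_shape hG ha
  rcases row_cases k with rfl | h | h
  · exact ⟨Sh⟩
  · exact (Sh.not_exc_five hG ha h).elim
  · simp only [List.mem_cons, List.not_mem_nil, or_false] at h
    exfalso
    rcases h with rfl | rfl | rfl | rfl | rfl | rfl | rfl | rfl | rfl | rfl | rfl | rfl | rfl | rfl | rfl | rfl |
      rfl | rfl | rfl
    · exact not_row0 hG ha Sh
    · exact not_row5 hG ha Sh
    · exact not_row6 hG ha Sh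
    · exact not_row8 hG ha Sh
    · exact not_row9 hG ha Sh
    · exact not_row11 hG ha Sh
    · exact not_row13 hG ha Sh
    · exact not_row18 hG ha Sh
    · exact not_row19 hG ha Sh
    · exact not_row20 hG ha Sh
    · exact not_row23 hG ha Sh
    · exact not_row24 hG ha Sh
    · exact not_row2 hG ha Sh
    · exact not_row7 hG ha Sh
    · exact not_row12 hG ha Sh
    · exact not_row15 hG ha Sh
    · exact not_row17 hG ha Sh
    · exact not_row3 hG ha Sh
    · exact not_row21 hG ha Sh

end CfsgSimpleM12
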