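/-
Finite searches for the surviving shape.
-/
import Cfsg.Agent.Lib.SimpleM12.SweepsThree
import Cfsg.Agent.Lib.SimpleM12.Sweeps

set_option autoImplicit false

namespace CfsgSimpleM12

/-- The bilinear form counting products for the shape with exceptional degree sixteen. -/
def form16 (v0 v1 v2 v3 v4 w0 w1 w2 w3 w4 : ℤ) : ℤ :=
  95040 + 2112 * (v0 * w0) + 660 * (v1 * w1) - 1760 * (v2 * w2) - 792 * (v3 * w3) - 5940 * (v4 * w4)

/-- The conditions on a product of an involution and an element of order three. -/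
def wOk (C cw : ℕ) (v0 v1 v3 v4 a b e f : ℤ) : Bool :=
  decide (1 + a * a + b * b + e * e + f * f + f * f ≤ (cw : ℤ)) &&
    (form16 v0 v1 0 v3 v4 a b 0 e f % ((C : ℤ) * (cw : ℤ)) == 0) && decide (0 ≤ form16 v0 v1 0 v3 v4 a b 0 e f) &&
    (burnOne cw 45 a && burnOne cw 144 b && burnOne cw 120 e && burnOne cw 16 f) &&
    (form16 a b 0 e f a b 0 e f % ((cw : ℤ) * (cw : ℤ)) == 0) && decide (0 ≤ form16 a b 0 e f a b 0 e f)

theorem six0_orders : ∀ {cw : ℕ}, cw ∈ Nat.divisors 192 → 6 ∣ cw → cw ∈ ([6, 12, 24, 48, 96, 192] : List ℕ) := by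
  decide +kernel

theorem six0_check :
    ((spanMod 44 (-3) 192).all fun a => (spanMod 143 0 192).all fun b => (spanMod 15 0 192).all fun f =>
      (fun e : ℤ => !((spanMod 119 (-8) 192).contains e) || ([6, 12, 24, 48, 96, 192] : List ℕ).all fun cw =>
        !(wOk 192 cw (-3) 0 (-8) 0 a b e f) || ([(0, 0, 1, 0, 6), (3, 0, 4, 0, 48)] : List (ℤ × ℤ × ℤ × ℤ × ℕ)).contains (a, b, e, f, cw))
        (1 + a + b - f)) = true := by
  decide +kernel

theorem six0 {a b e f : ℤ} {cw : ℕ} (ha : a ∈ spanMod 44 (-3) 192) (hb : b ∈ spanMod 143 0 192) (hf : f ∈ spanMod 15 0 192)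
    (he : e ∈ spanMod 119 (-8) 192) (hl : 1 + a + b - e - f = 0) (hcw : cw ∈ Nat.divisors 192) (hm : 6 ∣ cw)
    (hok : wOk 192 cw (-3) 0 (-8) 0 a b e f = true) :
    (a, b, e, f, cw) ∈ ([(0, 0, 1, 0, 6), (3, 0, 4, 0, 48)] : List (ℤ × ℤ × ℤ × ℤ × ℕ)) := by
  have h := six0_check
  replace h := List.all_eq_true.1 h _ ha
  replace h := List.all_eq_true.1 h _ hb
  replace h := List.all_eq_true.1 h _ hf
  rw [show 1 + a + b - f = e by omega] at h
  simp only [List.contains_iff_mem.2 he, Bool.not_true, Bool.false_or] at h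
  have h2 := List.all_eq_true.1 h cw (six0_orders hcw hm)
  simp only [hok, Bool.not_true, Bool.false_or] at h2
  exact List.contains_iff_mem.1 h2

theorem six1_orders : ∀ {cw : ℕ}, cw ∈ Nat.divisors 288 → 18 ∣ cw → cw ∈ ([18, 36, 72, 144, 288] : List ℕ) := by
  decide +kernel

theorem six1_check :
    ((spanMod 44 (-3) 288).all fun a => (spanMod 143 0 288).all fun b => (spanMod 15 0 288).all fun f =>
      (fun e : ℤ => !((spanMod 119 (-8) 288).contains e) || ([18, 36, 72, 144, 288] : List ℕ).all fun cw =>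
        !(wOk 288 cw (-3) 0 (-8) 0 a b e f) || ([] : List (ℤ × ℤ × ℤ × ℤ × ℕ)).contains (a, b, e, f, cw))
        (1 + a + b - f)) = true := by
  decide +kernel

theorem six1 {a b e f : ℤ} {cw : ℕ} (ha : a ∈ spanMod 44 (-3) 288) (hb : b ∈ spanMod 143 0 288) (hf : f ∈ spanMod 15 0 288)
    (he : e ∈ spanMod 119 (-8) 288) (hl : 1 + a + b - e - f = 0) (hcw : cw ∈ Nat.divisors 288) (hm : 18 ∣ cw)
    (hok : wOk 288 cw (-3) 0 (-8) 0 a b e f = true) :
    False := by
  have h := six1_check
  replace h := List.all_eq_true.1 h _ ha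
  replace h := List.all_eq_true.1 h _ hb
  replace h := List.all_eq_true.1 h _ hf
  rw [show 1 + a + b - f = e by omega] at h
  simp only [List.contains_iff_mem.2 he, Bool.not_true, Bool.false_or] at h
  have h2 := List.all_eq_true.1 h cw (six1_orders hcw hm)
  simp only [hok, Bool.not_true, Bool.false_or] at h2
  simp at h2

theorem six2_orders : ∀ {cw : ℕ}, cw ∈ Nat.divisors 432 → 18 ∣ cw → cw ∈ ([18, 36, 54, 72, 108, 144, 216, 432] : List ℕ) := by
  decide +kernel

theorem six2_check :
    ((spanMod 44 (-3) 432).all fun a => (spanMod 143 0 432).all fun b => (spanMod 15 0 432).all fun f =>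
      (fun e : ℤ => !((spanMod 119 (-8) 432).contains e) || ([18, 36, 54, 72, 108, 144, 216, 432] : List ℕ).all fun cw =>
        !(wOk 432 cw (-3) 0 (-8) 0 a b e f) || ([] : List (ℤ × ℤ × ℤ × ℤ × ℕ)).contains (a, b, e, f, cw))
        (1 + a + b - f)) = true := by
  decide +kernel

theorem six2 {a b e f : ℤ} {cw : ℕ} (ha : a ∈ spanMod 44 (-3) 432) (hb : b ∈ spanMod 143 0 432) (hf : f ∈ spanMod 15 0 432)
    (he : e ∈ spanMod 119 (-8) 432) (hl : 1 + a + b - e - f = 0) (hcw : cw ∈ Nat.divisors 432) (hm : 18 ∣ cw)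
    (hok : wOk 432 cw (-3) 0 (-8) 0 a b e f = true) :
    False := by
  have h := six2_check
  replace h := List.all_eq_true.1 h _ ha
  replace h := List.all_eq_true.1 h _ hb
  replace h := List.all_eq_true.1 h _ hf
  rw [show 1 + a + b - f = e by omega] at h
  simp only [List.contains_iff_mem.2 he, Bool.not_true, Bool.false_or] at h
  have h2 := List.all_eq_true.1 h cw (six2_orders hcw hm)
  simp only [hok, Bool.not_true, Bool.false_or] at h2
  simp at h2

theorem six3_orders : ∀ {cw : ℕ}, cw ∈ Nat.divisors 576 → 18 ∣ cw → cw ∈ ([18, 36, 72, 144, 288, 576] : List ℕ) := by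
  decide +kernel

theorem six3_check :
    ((spanMod 44 (-3) 576).all fun a => (spanMod 143 0 576).all fun b => (spanMod 15 0 576).all fun f =>
      (fun e : ℤ => !((spanMod 119 (-8) 576).contains e) || ([18, 36, 72, 144, 288, 576] : List ℕ).all fun cw =>
        !(wOk 576 cw (-3) 0 (-8) 0 a b e f) || ([] : List (ℤ × ℤ × ℤ × ℤ × ℕ)).contains (a, b, e, f, cw))
        (1 + a + b - f)) = true := by
  decide +kernel

theorem six3 {a b e f : ℤ} {cw : ℕ} (ha : a ∈ spanMod 44 (-3) 576) (hb : b ∈ spanMod 143 0 576) (hf : f ∈ spanMod 15 0 576)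
    (he : e ∈ spanMod 119 (-8) 576) (hl : 1 + a + b - e - f = 0) (hcw : cw ∈ Nat.divisors 576) (hm : 18 ∣ cw)
    (hok : wOk 576 cw (-3) 0 (-8) 0 a b e f = true) :
    False := by
  have h := six3_check
  replace h := List.all_eq_true.1 h _ ha
  replace h := List.all_eq_true.1 h _ hb
  replace h := List.all_eq_true.1 h _ hf
  rw [show 1 + a + b - f = e by omega] at h
  simp only [List.contains_iff_mem.2 he, Bool.not_true, Bool.false_or] at h
  have h2 := List.all_eq_true.1 h cw (six3_orders hcw hm)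
  simp only [hok, Bool.not_true, Bool.false_or] at h2
  simp at h2

theorem six4_orders : ∀ {cw : ℕ}, cw ∈ Nat.divisors 864 → 18 ∣ cw → cw ∈ ([18, 36, 54, 72, 108, 144, 216, 288, 432, 864] : List ℕ) := by
  decide +kernel

theorem six4_check :
    ((spanMod 44 (-3) 864).all fun a => (spanMod 143 0 864).all fun b => (spanMod 15 0 864).all fun f =>
      (fun e : ℤ => !((spanMod 119 (-8) 864).contains e) || ([18, 36, 54, 72, 108, 144, 216, 288, 432, 864] : List ℕ).all fun cw =>
        !(wOk 864 cw (-3) 0 (-8) 0 a b e f) || ([] : List (ℤ × ℤ × ℤ × ℤ × ℕ)).contains (a, b, e, f, cw))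
        (1 + a + b - f)) = true := by
  decide +kernel

theorem six4 {a b e f : ℤ} {cw : ℕ} (ha : a ∈ spanMod 44 (-3) 864) (hb : b ∈ spanMod 143 0 864) (hf : f ∈ spanMod 15 0 864)
    (he : e ∈ spanMod 119 (-8) 864) (hl : 1 + a + b - e - f = 0) (hcw : cw ∈ Nat.divisors 864) (hm : 18 ∣ cw)
    (hok : wOk 864 cw (-3) 0 (-8) 0 a b e f = true) :
    False := by
  have h := six4_check
  replace h := List.all_eq_true.1 h _ ha
  replace h := List.all_eq_true.1 h _ hb
  replace h := List.all_eq_true.1 h _ hf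
  rw [show 1 + a + b - f = e by omega] at h
  simp only [List.contains_iff_mem.2 he, Bool.not_true, Bool.false_or] at h
  have h2 := List.all_eq_true.1 h cw (six4_orders hcw hm)
  simp only [hok, Bool.not_true, Bool.false_or] at h2
  simp at h2

theorem six5_orders : ∀ {cw : ℕ}, cw ∈ Nat.divisors 576 → 18 ∣ cw → cw ∈ ([18, 36, 72, 144, 288, 576] : List ℕ) := by
  decide +kernel

theorem six5_check :
    ((spanMod 44 9 576).all fun a => (spanMod 143 0 576).all fun b => (spanMod 15 0 576).all fun f =>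
      (fun e : ℤ => !((spanMod 119 16 576).contains e) || ([18, 36, 72, 144, 288, 576] : List ℕ).all fun cw =>
        !(wOk 576 cw 9 0 16 0 a b e f) || ([] : List (ℤ × ℤ × ℤ × ℤ × ℕ)).contains (a, b, e, f, cw))
        (1 + a + b - f)) = true := by
  decide +kernel

theorem six5 {a b e f : ℤ} {cw : ℕ} (ha : a ∈ spanMod 44 9 576) (hb : b ∈ spanMod 143 0 576) (hf : f ∈ spanMod 15 0 576)
    (he : e ∈ spanMod 119 16 576) (hl : 1 + a + b - e - f = 0) (hcw : cw ∈ Nat.divisors 576) (hm : 18 ∣ cw)
    (hok : wOk 576 cw 9 0 16 0 a b e f = true) :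
    False := by
  have h := six5_check
  replace h := List.all_eq_true.1 h _ ha
  replace h := List.all_eq_true.1 h _ hb
  replace h := List.all_eq_true.1 h _ hf
  rw [show 1 + a + b - f = e by omega] at h
  simp only [List.contains_iff_mem.2 he, Bool.not_true, Bool.false_or] at h
  have h2 := List.all_eq_true.1 h cw (six5_orders hcw hm)
  simp only [hok, Bool.not_true, Bool.false_or] at h2
  simp at h2

theorem six6_orders : ∀ {cw : ℕ}, cw ∈ Nat.divisors 864 → 18 ∣ cw → cw ∈ ([18, 36, 54, 72, 108, 144, 216, 288, 432, 864] : List ℕ) := by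
  decide +kernel

theorem six6_check :
    ((spanMod 44 13 864).all fun a => (spanMod 143 8 864).all fun b => (spanMod 15 8 864).all fun f =>
      (fun e : ℤ => !((spanMod 119 8 864).contains e) || ([18, 36, 54, 72, 108, 144, 216, 288, 432, 864] : List ℕ).all fun cw =>
        !(wOk 864 cw 13 8 8 8 a b e f) || ([] : List (ℤ × ℤ × ℤ × ℤ × ℕ)).contains (a, b, e, f, cw))
        (1 + a + b - f)) = true := by
  decide +kernel

theorem six6 {a b e f : ℤ} {cw : ℕ} (ha : a ∈ spanMod 44 13 864) (hb : b ∈ spanMod 143 8 864) (hf : f ∈ spanMod 15 8 864)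
    (he : e ∈ spanMod 119 8 864) (hl : 1 + a + b - e - f = 0) (hcw : cw ∈ Nat.divisors 864) (hm : 18 ∣ cw)
    (hok : wOk 864 cw 13 8 8 8 a b e f = true) :
    False := by
  have h := six6_check
  replace h := List.all_eq_true.1 h _ ha
  replace h := List.all_eq_true.1 h _ hb
  replace h := List.all_eq_true.1 h _ hf
  rw [show 1 + a + b - f = e by omega] at h
  simp only [List.contains_iff_mem.2 he, Bool.not_true, Bool.false_or] at h
  have h2 := List.all_eq_true.1 h cw (six6_orders hcw hm)
  simp only [hok, Bool.not_true, Bool.false_or] at h2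
  simp at h2

theorem six7_orders : ∀ {cw : ℕ}, cw ∈ Nat.divisors 864 → 18 ∣ cw → cw ∈ ([18, 36, 54, 72, 108, 144, 216, 288, 432, 864] : List ℕ) := by
  decide +kernel

theorem six7_check :
    ((spanMod 44 13 864).all fun a => (spanMod 143 (-8) 864).all fun b => (spanMod 15 (-8) 864).all fun f =>
      (fun e : ℤ => !((spanMod 119 8 864).contains e) || ([18, 36, 54, 72, 108, 144, 216, 288, 432, 864] : List ℕ).all fun cw =>
        !(wOk 864 cw 13 (-8) 8 (-8) a b e f) || ([] : List (ℤ × ℤ × ℤ × ℤ × ℕ)).contains (a, b, e, f, cw))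
        (1 + a + b - f)) = true := by
  decide +kernel

theorem six7 {a b e f : ℤ} {cw : ℕ} (ha : a ∈ spanMod 44 13 864) (hb : b ∈ spanMod 143 (-8) 864) (hf : f ∈ spanMod 15 (-8) 864)
    (he : e ∈ spanMod 119 8 864) (hl : 1 + a + b - e - f = 0) (hcw : cw ∈ Nat.divisors 864) (hm : 18 ∣ cw)
    (hok : wOk 864 cw 13 (-8) 8 (-8) a b e f = true) :
    False := by
  have h := six7_check
  replace h := List.all_eq_true.1 h _ ha
  replace h := List.all_eq_true.1 h _ hb
  replace h := List.all_eq_true.1 h _ hf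
  rw [show 1 + a + b - f = e by omega] at h
  simp only [List.contains_iff_mem.2 he, Bool.not_true, Bool.false_or] at h
  have h2 := List.all_eq_true.1 h cw (six7_orders hcw hm)
  simp only [hok, Bool.not_true, Bool.false_or] at h2
  simp at h2

/-- The centraliser orders divisible by 144. -/
abbrev orders144 : List ℕ := [144, 288, 432, 576, 720, 864, 1440, 1728, 2160, 2880, 4320]

theorem mem_orders144 : ∀ {C : ℕ}, C ∈ Nat.divisors 8640 → 144 ∣ C → C ≠ 8640 → C ∈ orders144 := by decide +kernel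

/-- The centraliser orders divisible by 16. -/
abbrev orders16 : List ℕ := [16, 32, 48, 64, 80, 96, 144, 160, 192, 240, 288, 320, 432, 480, 576, 720, 864, 960, 1440, 1728, 2160, 2880, 4320]

theorem mem_orders16 : ∀ {C : ℕ}, C ∈ Nat.divisors 8640 → 16 ∣ C → C ≠ 8640 → C ∈ orders16 := by decide +kernel

/-- The values congruent to `b` modulo three and to `c` modulo two. -/
def spanPar (d : ℕ) (b c : ℤ) : List ℤ := (spanMod d b 4320).filter fun v => (v - c) % 2 == 0

theorem mem_spanPar {d : ℕ} {b c v : ℤ} (h : v ∈ spanMod d b 4320) (h2 : v % 2 = c % 2) : v ∈ spanPar d b c :=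
  List.mem_filter.2 ⟨h, by simp only [beq_iff_eq]; omega⟩

theorem fortyeight_check :
    ((spanPar 44 0 1).all fun a => (spanPar 143 0 0).all fun b => (spanPar 15 1 0).all fun f =>
      (fun e : ℤ => !((spanPar 119 0 0).contains e) || orders144.all fun C =>
        decide ((C : ℤ) < 1 + a * a + b * b + e * e + f * f + f * f) ||
          decide (form16 (-3) 0 0 (-8) 0 a b 0 e f % (192 * (C : ℤ)) ≠ 0) ||
          decide (form16 3 0 0 4 0 a b 0 e f % (48 * (C : ℤ)) ≠ 0) ||
          decide (form16 3 0 0 4 0 a b 0 e f < 0) || decide (form16 (-3) 0 0 (-8) 0 a b 0 e f < 0))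
        (1 + a + b - f)) = true := by
  decide +kernel

theorem fortyeight {a b e f : ℤ} {C : ℕ} (ha : a ∈ spanPar 44 0 1) (hb : b ∈ spanPar 143 0 0)
    (hf : f ∈ spanPar 15 1 0) (he : e ∈ spanPar 119 0 0) (hl : 1 + a + b - e - f = 0) (hC : C ∈ orders144)
    (hn : 1 + a * a + b * b + e * e + f * f + f * f ≤ (C : ℤ))
    (hz : (192 * (C : ℤ)) ∣ form16 (-3) 0 0 (-8) 0 a b 0 e f) (hz0 : 0 ≤ form16 (-3) 0 0 (-8) 0 a b 0 e f)
    (hw : (48 * (C : ℤ)) ∣ form16 3 0 0 4 0 a b 0 e f) (hw0 : 0 ≤ form16 3 0 0 4 0 a b 0 e f) : False := by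
  have h := fortyeight_check
  replace h := List.all_eq_true.1 h _ ha
  replace h := List.all_eq_true.1 h _ hb
  replace h := List.all_eq_true.1 h _ hf
  rw [show 1 + a + b - f = e by omega] at h
  simp only [List.contains_iff_mem.2 he, Bool.not_true, Bool.false_or] at h
  have h2 := List.all_eq_true.1 h C hC
  simp only [Bool.or_eq_true, decide_eq_true_eq] at h2
  rcases h2 with (((h2 | h2) | h2) | h2) | h2
  · omega
  · exact h2 (Int.emod_eq_zero_of_dvd hz)
  · exact h2 (Int.emod_eq_zero_of_dvd hw)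
  · omega
  · omega

/-- The possible values at an involution outside the central class. -/
abbrev outerList : List (ℤ × ℤ × ℤ × ℤ × ℤ × ℕ) :=
  [(-3, 0, 6, -8, 0, 288), (-3, 0, 6, -8, 0, 432), (-3, 0, 6, -8, 0, 576), (-3, 0, 6, -8, 0, 864),
    (13, 8, 6, 8, 8, 864), (13, -8, 6, 8, -8, 864)]

theorem outer_check :
    ((cand 45 4320 false false).all fun a => (cand 54 4320 false false).all fun c =>
      (cand 16 4320 false false).all fun f => !((5 * c - 45) % 3 == 0) ||
        (fun e : ℤ => (fun b : ℤ => !((cand 120 4320 false false).contains e) ||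
          !((cand 144 4320 false false).contains b) || (form16 a b c e f a b c e f != 0) ||
          orders16.all fun C => !(okVal 45 144 54 120 16 a b c e f C) ||
            decide (82 * ((C : ℤ) - (1 + a * a + b * b + c * c + e * e + f * f + f * f)) <
              (1 - 3 * a + 6 * c - 8 * e) * (1 - 3 * a + 6 * c - 8 * e)) ||
            ((a == 5) && (b == 4 || b == -4) && (c == 6) && (e == 0) && (f == b)) ||
            outerList.contains (a, b, c, e, f, C))
          (-1 - a + c + e + f))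
        (a + (5 * c - 45) / 3)) = true := by
  decide +kernel

theorem outer {a b c e f : ℤ} {C : ℕ} (ha : a ∈ cand 45 4320 false false) (hb : b ∈ cand 144 4320 false false)
    (hc : c ∈ cand 54 4320 false false) (he : e ∈ cand 120 4320 false false) (hf : f ∈ cand 16 4320 false false)
    (hl : 1 + a + b - c - e - f = 0) (hq : form16 a b c e f a b c e f = 0)
    (hz : form16 (-3) 0 6 (-8) 0 a b c e f = 0) (hC : C ∈ orders16) (hok : okVal 45 144 54 120 16 a b c e f C = true)
    (hg : (1 - 3 * a + 6 * c - 8 * e) * (1 - 3 * a + 6 * c - 8 * e) ≤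
      82 * ((C : ℤ) - (1 + a * a + b * b + c * c + e * e + f * f + f * f))) :
    (a = 5 ∧ (b = 4 ∨ b = -4) ∧ c = 6 ∧ e = 0 ∧ f = b) ∨ (a, b, c, e, f, C) ∈ outerList := by
  have hz' : -3 * a - 5 * c + 3 * e + 45 = 0 := by simp only [form16] at hz; omega
  have h := outer_check
  replace h := List.all_eq_true.1 h _ ha
  replace h := List.all_eq_true.1 h _ hc
  replace h := List.all_eq_true.1 h _ hf
  rw [show a + (5 * c - 45) / 3 = e by omega] at h
  beta_reduce at h
  rw [show -1 - a + c + e + f = b by omega,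
    show ((5 * c - 45) % 3 == 0) = true by simp only [beq_iff_eq]; omega] at h
  simp only [List.contains_iff_mem.2 he, List.contains_iff_mem.2 hb, hq, bne_self_eq_false, Bool.not_true,
    Bool.false_or] at h
  have h2 := List.all_eq_true.1 h C hC
  simp only [hok, Bool.not_true, Bool.false_or, Bool.or_eq_true, Bool.and_eq_true, beq_iff_eq, decide_eq_true_eq,
    List.contains_iff_mem] at h2
  rcases h2 with (h2 | h2) | h2
  · omega
  · exact Or.inl ⟨h2.1.1.1.1, h2.1.1.1.2, h2.1.1.2, h2.1.2, h2.2⟩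
  · exact Or.inr h2

end CfsgSimpleM12
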