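/-
The values at the involutions for the surviving shape.
-/
import Cfsg.Agent.Lib.SimpleM12.Reduce
import Cfsg.Agent.Lib.SimpleM12.SweepsSixteen

set_option autoImplicit false
set_option linter.style.haveILetI false
set_option linter.unusedSectionVars false

namespace CfsgSimpleM12

open Cfsg CfsgLib.CharTheory CfsgLib.Blocks CfsgSimpleM11
open Subgroup

universe u
variable {G : Type u} [Group G] [Fintype G]

/-- The shape of a simple group of order 95040. -/
abbrev Shape16 (a : G) := Shape a (rows 16)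

/-- Bessel's inequality for two elements. -/
theorem Shape.Vals.gram {a : G} {D : Fin 5 → ℤ} {Sh : Shape a D} {g h : G} {v w : Fin 5 → ℤ} (V : Sh.Vals g v)
    (W : Sh.Vals h w) (hne : ¬ IsConj g h) :
    (1 + ∑ i, v i * w i + v 4 * w 4) ^ 2 ≤
      ((cc g : ℤ) - (1 + ∑ i, v i ^ 2 + v 4 ^ 2)) * ((cc h : ℤ) - (1 + ∑ i, w i ^ 2 + w 4 ^ 2)) := by
  classical
  let ext : (Fin 5 → ℤ) → IrrCharacter G → ℤ := fun u χ =>
    if χ = triv G then 1 else if χ = invIrr (Sh.ch 4) then u 4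
    else ∑ i, if χ = Sh.ch i then u i else 0
  have hn1 : invIrr (Sh.ch 4) ∉ Finset.univ.image Sh.ch := fun hm => by
    obtain ⟨i, -, hi⟩ := Finset.mem_image.1 hm
    exact Sh.ne_inv i hi
  have ht : invIrr (Sh.ch 4) ≠ triv G := fun h' => by
    refine Sh.ne_triv 4 (Subtype.ext (funext fun x => ?_))
    have := congrArg (fun ψ : IrrCharacter G => (ψ : G → ℂ) x⁻¹) h'
    simpa [invIrr_apply, triv_apply] using this
  have hn0 : triv G ∉ insert (invIrr (Sh.ch 4)) (Finset.univ.image Sh.ch) := fun hm => by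
    rcases Finset.mem_insert.1 hm with h' | h'
    · exact ht h'.symm
    · obtain ⟨i, -, hi⟩ := Finset.mem_image.1 h'
      exact Sh.ne_triv i hi
  set T : Finset (IrrCharacter G) := insert (triv G) (insert (invIrr (Sh.ch 4)) (Finset.univ.image Sh.ch))
  have hev : ∀ u i, ext u (Sh.ch i) = u i := fun u i => by
    simp only [ext, if_neg (Sh.ne_triv i), if_neg (Sh.ne_inv i)]
    rw [Finset.sum_eq_single i]
    · rw [if_pos rfl]
    · intro j _ hj; rw [if_neg fun e => hj (Sh.inj e).symm]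
    · intro h'; exact absurd (Finset.mem_univ i) h'
  have he4 : ∀ u, ext u (invIrr (Sh.ch 4)) = u 4 := fun u => by simp only [ext, if_neg ht, if_pos]
  have he0 : ∀ u, ext u (triv G) = 1 := fun u => by simp only [ext, if_pos]
  have hval : ∀ (x : G) (u : Fin 5 → ℤ), Sh.Vals x u → ∀ χ ∈ T, (χ : G → ℂ) x = (ext u χ : ℂ) := by
    intro x u U χ hχ
    rcases Finset.mem_insert.1 hχ with rfl | hχ
    · rw [he0, triv_apply, Int.cast_one]
    rcases Finset.mem_insert.1 hχ with rfl | hχ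
    · rw [he4, U.inv]
    · obtain ⟨i, -, rfl⟩ := Finset.mem_image.1 hχ
      rw [hev, U.val]
  have H := gram_le T hne (ext v) (ext w) (hval g v V) (hval h w W)
  rw [Finset.sum_insert hn0, Finset.sum_insert hn1, Finset.sum_image (fun x _ y _ hxy => Sh.inj hxy),
    Finset.sum_insert hn0, Finset.sum_insert hn1, Finset.sum_image (fun x _ y _ hxy => Sh.inj hxy),
    Finset.sum_insert hn0, Finset.sum_insert hn1, Finset.sum_image (fun x _ y _ hxy => Sh.inj hxy)] at H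
  simp only [hev, he4, he0] at H
  calc _ = (1 * 1 + (v 4 * w 4 + ∑ i, v i * w i)) ^ 2 := by ring
    _ ≤ _ := H
    _ = _ := by ring

variable {a : G} (Sh : Shape16 a)

theorem vals16 (hG : IsM12 G) (ha : orderOf a = 11) {g : G} (hg : orderOf g ≠ 11) : ∃ v, Sh.Vals g v :=
  Sh.vals_of_reg hG ha (by decide +kernel) (by decide +kernel) hg

variable {Sh}

theorem lin16 (hG : IsM12 G) (ha : orderOf a = 11) {g : G} {v : Fin 5 → ℤ} (V : Sh.Vals g v) :
    1 + v 0 + v 1 - v 2 - v 3 - v 4 = 0 := by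
  have h := V.lin hG ha
  rw [Fin.sum_univ_five] at h
  have h' : (1 : ℤ) + (1 * v 0 + 1 * v 1 + -1 * v 2 + -1 * v 3 + -1 * v 4) = 0 := h
  linarith

theorem count16 (hG : IsM12 G) (ha : orderOf a = 11) {g h : G} {v w : Fin 5 → ℤ} (V : Sh.Vals g v)
    (W : Sh.Vals h w) : (pairCount g h a : ℤ) * (cc g : ℤ) * (cc h : ℤ) =
      form16 (v 0) (v 1) (v 2) (v 3) (v 4) (w 0) (w 1) (w 2) (w 3) (w 4) := by
  have h1 := V.count hG ha W (fun i => (rows_ok 16 i).1)
  rw [Fin.sum_univ_five] at h1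
  have h' : (pairCount g h a : ℤ) * (cc g : ℤ) * (cc h : ℤ) = 95040 + (v 0 * w 0 * 2112 + v 1 * w 1 * 660 +
    v 2 * w 2 * -1760 + v 3 * w 3 * -792 + v 4 * w 4 * -5940) := h1
  rw [h', form16]
  ring

theorem form16_nonneg (hG : IsM12 G) (ha : orderOf a = 11) {g h : G} {v w : Fin 5 → ℤ} (V : Sh.Vals g v)
    (W : Sh.Vals h w) : 0 ≤ form16 (v 0) (v 1) (v 2) (v 3) (v 4) (w 0) (w 1) (w 2) (w 3) (w 4) := by
  rw [← count16 hG ha V W]; positivity

theorem strict16 (hG : IsM12 G) {g : G} {v : Fin 5 → ℤ} (V : Sh.Vals g v) (hg : g ≠ 1) :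
    (-45 < v 0 ∧ v 0 < 45) ∧ (-144 < v 1 ∧ v 1 < 144) ∧ (-54 < v 2 ∧ v 2 < 54) ∧ (-120 < v 3 ∧ v 3 < 120) ∧
      (-16 < v 4 ∧ v 4 < 16) :=
  ⟨V.strict hG hg 0, V.strict hG hg 1, V.strict hG hg 2, V.strict hG hg 3, V.strict hG hg 4⟩

/-- A product of an involution and a commuting element of order three. -/
theorem prod_good (hG : IsM12 G) (ha : orderOf a = 11) {t y : G} {v : Fin 5 → ℤ} (V : Sh.Vals t v)
    (ht : orderOf t = 2) (hy : orderOf y = 3) (hyt : Commute y t) :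
    ∃ w, Sh.Vals (y * t) w ∧ w 2 = 0 ∧ w 0 ∈ spanMod 44 (v 0) (cc t) ∧ w 1 ∈ spanMod 143 (v 1) (cc t) ∧
      w 3 ∈ spanMod 119 (v 3) (cc t) ∧ w 4 ∈ spanMod 15 (v 4) (cc t) ∧ 1 + w 0 + w 1 - w 3 - w 4 = 0 ∧
      cc (y * t) ∈ Nat.divisors (cc t) ∧ 6 ∣ cc (y * t) ∧
      wOk (cc t) (cc (y * t)) (v 0) (v 1) (v 3) (v 4) (w 0) (w 1) (w 3) (w 4) = true := by
  haveI : Fact (Nat.Prime 3) := ⟨by norm_num⟩
  have ho : orderOf (y * t) = 6 := by
    rw [hyt.orderOf_mul_eq_mul_orderOf_of_coprime (by rw [hy, ht]; norm_num), hy, ht]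
  have hw1 : y * t ≠ 1 := fun e => by rw [e, orderOf_one] at ho; norm_num at ho
  have hreg : orderOf (y * t) ≠ 11 := by omega
  obtain ⟨w, W⟩ := vals16 Sh hG ha hreg
  have ht3 : t ^ 3 = t := by rw [pow_succ, ← ht, pow_orderOf_eq_one, one_mul]
  have hm : ∀ i, w i % 3 = v i % 3 := fun i =>
    Shape.Vals.mod_three hG ha (by decide +kernel) (by decide +kernel) hy hyt V W (by rw [ht3]; omega) i
  have hw2 : w 2 = 0 := W.three_zero hG (by rw [ho]; norm_num) 2 (by decide +kernel)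
  have hcube : (y * t) ^ 3 = t := by
    rw [hyt.mul_pow, show y ^ 3 = 1 by rw [← hy, pow_orderOf_eq_one], one_mul, ht3]
  have hdvd : cc (y * t) ∣ cc t := card_dvd_of_le fun c hc => by
    have h : Commute c (y * t) := mem_centralizer_singleton_iff.mp hc
    have := h.pow_right 3
    rw [hcube] at this
    exact mem_centralizer_singleton_iff.mpr this
  have hle : cc (y * t) ≤ cc t := Nat.le_of_dvd Nat.card_pos hdvd
  obtain ⟨s0, s1, -, s3, s4⟩ := strict16 hG W hw1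
  have hl := lin16 hG ha W
  rw [hw2] at hl
  refine ⟨w, W, hw2, mem_spanMod (by omega) (by omega) (hm 0) (W.sq_le 0 hle),
    mem_spanMod (by omega) (by omega) (hm 1) (W.sq_le 1 hle),
    mem_spanMod (by omega) (by omega) (hm 3) (W.sq_le 3 hle),
    mem_spanMod (by omega) (by omega) (hm 4) (W.sq_le 4 hle), by linarith,
    Nat.mem_divisors.2 ⟨hdvd, Nat.card_pos.ne'⟩, ho ▸ orderOf_dvd_cc _, ?_⟩
  have hn := W.norm
  rw [Fin.sum_univ_five, hw2] at hn
  have hb : ∀ i (d : ℕ), (rows 16 i).natAbs = d → burnOne (cc (y * t)) d (w i) = true := fun i d hd => by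
    simp only [burnOne, Bool.or_eq_true, beq_iff_eq, bne_iff_ne, ne_eq]
    by_cases h : w i = 0
    · exact Or.inl h
    · exact Or.inr (hd ▸ W.burnside hG hw1 i h)
  have hA := count16 hG ha V W
  have hB := count16 hG ha W W
  have hA0 := form16_nonneg hG ha V W
  have hB0 := form16_nonneg hG ha W W
  rw [hw2] at hA hA0 hB hB0
  have hf : ∀ x0 x1 x3 x4 : ℤ, form16 (v 0) (v 1) 0 (v 3) (v 4) x0 x1 0 x3 x4 =
      form16 (v 0) (v 1) (v 2) (v 3) (v 4) x0 x1 0 x3 x4 := fun _ _ _ _ => by simp [form16]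
  simp only [wOk, hb 0 45 rfl, hb 1 144 rfl, hb 3 120 rfl, hb 4 16 rfl, Bool.and_self, Bool.and_true,
    Bool.and_eq_true, decide_eq_true_eq, beq_iff_eq, hf]
  refine ⟨⟨⟨⟨by linarith, ?_⟩, hA0⟩, ?_⟩, hB0⟩
  · exact Int.emod_eq_zero_of_dvd ⟨pairCount t (y * t) a, by rw [← hA]; ring⟩
  · exact Int.emod_eq_zero_of_dvd ⟨pairCount (y * t) (y * t) a, by rw [← hB]; ring⟩

/-- An element of order three with a large centraliser in that of an involution. -/
theorem exists_eighteen {t : G} (ht : orderOf t = 2) (h9 : 9 ∣ cc t) :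
    ∃ y : G, orderOf y = 3 ∧ Commute y t ∧ 18 ∣ cc (y * t) := by
  classical
  haveI : Fact (Nat.Prime 3) := ⟨by norm_num⟩
  obtain ⟨E, hE⟩ := Sylow.exists_subgroup_card_pow_prime 3 (n := 2) (G := centralizer ({t} : Set G))
    (show 3 ^ 2 ∣ Nat.card (centralizer ({t} : Set G)) from h9)
  set E' := E.map (centralizer ({t} : Set G)).subtype with hE'
  have hE9 : Nat.card E' = 9 := by rw [card_map_of_injective (subtype_injective _), hE]; norm_num
  obtain ⟨y, hyE, hy⟩ := exists_order (show Nat.Prime 3 by norm_num) (show 3 ∣ Nat.card E' by rw [hE9]; norm_num)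
  have hcE : ∀ e ∈ E', Commute e t := by
    rintro _ ⟨c, -, rfl⟩
    exact mem_centralizer_singleton_iff.mp c.2
  have hyt := hcE y hyE
  have hcomm : ∀ e ∈ E', Commute e y := fun e he => congrArg Subtype.val
    ((IsPGroup.commGroupOfCardEqPrimeSq (G := E') (p := 3) (by rw [hE9]; norm_num)).mul_comm ⟨e, he⟩ ⟨y, hyE⟩)
  refine ⟨y, hy, hyt, show 2 * 9 ∣ _ from Nat.Coprime.mul_dvd_of_dvd_of_dvd (by norm_num) ?_ ?_⟩
  · rw [← ht]
    exact Subgroup.orderOf_dvd_natCard _ (mem_centralizer_singleton_iff.mpr (hyt.symm.mul_right (Commute.refl t)))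
  · rw [← hE9]
    exact card_dvd_of_le fun e he => mem_centralizer_singleton_iff.mpr ((hcomm e he).mul_right (hcE e he))

theorem kill_large (hG : IsM12 G) (ha : orderOf a = 11) {t : G} {v : Fin 5 → ℤ} (V : Sh.Vals t v)
    (ht : orderOf t = 2)
    (h : (v 0, v 1, v 2, v 3, v 4, cc t) ∈ (-3, 0, 6, -8, 0, 576) :: (9, 0, -6, 16, 0, 576) :: outerList) :
    False := by
  simp only [outerList, List.mem_cons, List.not_mem_nil, or_false, Prod.mk.injEq] at h
  have h9 : 9 ∣ cc t := by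
    rcases h with h | h | h | h | h | h | h | h <;> rw [h.2.2.2.2.2] <;> norm_num
  obtain ⟨y, hy, hyt, h18⟩ := exists_eighteen ht h9
  obtain ⟨w, W, -, m0, m1, m3, m4, hl, hd, -, hok⟩ := prod_good hG ha V ht hy hyt
  rcases h with h | h | h | h | h | h | h | h <;>
    obtain ⟨e0, e1, e2, e3, e4, eC⟩ := h <;> rw [e0, eC] at m0 <;> rw [e1, eC] at m1 <;>
      rw [e3, eC] at m3 <;> rw [e4, eC] at m4 <;> rw [e0, e1, e3, e4, eC] at hok <;> rw [eC] at hd
  · exact six3 m0 m1 m4 m3 hl hd h18 hok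
  · exact six5 m0 m1 m4 m3 hl hd h18 hok
  · exact six1 m0 m1 m4 m3 hl hd h18 hok
  · exact six2 m0 m1 m4 m3 hl hd h18 hok
  · exact six3 m0 m1 m4 m3 hl hd h18 hok
  · exact six4 m0 m1 m4 m3 hl hd h18 hok
  · exact six6 m0 m1 m4 m3 hl hd h18 hok
  · exact six7 m0 m1 m4 m3 hl hd h18 hok

theorem orders144_le : ∀ C ∈ orders144, C ≤ 4320 := by decide +kernel

theorem kill_fortyeight (hG : IsM12 G) (ha : orderOf a = 11) {t y : G} {v w : Fin 5 → ℤ} (V : Sh.Vals t v)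
    (ht : orderOf t = 2) (hy : orderOf y = 3) (hyt : Commute y t) (W : Sh.Vals (y * t) w)
    (hv : v 0 = -3 ∧ v 1 = 0 ∧ v 2 = 6 ∧ v 3 = -8 ∧ v 4 = 0) (hC : cc t = 192)
    (hw : w 0 = 3 ∧ w 1 = 0 ∧ w 3 = 4 ∧ w 4 = 0) (hw2 : w 2 = 0) (h48 : cc (y * t) = 48) : False := by
  haveI : Fact (Nat.Prime 2) := ⟨Nat.prime_two⟩
  haveI : Fact (Nat.Prime 3) := ⟨by norm_num⟩
  have hy1 : y ≠ 1 := fun e => by rw [e, orderOf_one] at hy; norm_num at hy
  have hreg : orderOf y ≠ 11 := by omega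
  obtain ⟨u, U⟩ := vals16 Sh hG ha hreg
  have h9 : 9 ∣ cc y := by
    obtain ⟨R, hR⟩ := IsPGroup.exists_le_sylow
      (IsPGroup.of_card (show Nat.card (zpowers y) = 3 ^ 1 by rw [Nat.card_zpowers, hy, pow_one]))
    exact sq_dvd_cent (n := 3) (by norm_num) R (card_sylow3 hG R) (hR (mem_zpowers y))
  have h48' : 48 ∣ cc y := by
    rw [← h48]
    have hy4 : (y * t) ^ 4 = y := by
      rw [hyt.mul_pow, show y ^ 4 = y by rw [pow_succ, ← hy, pow_orderOf_eq_one, one_mul],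
        show t ^ 4 = 1 by rw [show (4 : ℕ) = 2 * 2 from rfl, pow_mul, ← ht, pow_orderOf_eq_one, one_pow], mul_one]
    exact card_dvd_of_le fun c hc => by
      have h : Commute c (y * t) := mem_centralizer_singleton_iff.mp hc
      have := h.pow_right 4
      rw [hy4] at this
      exact mem_centralizer_singleton_iff.mpr this
  have h144 : 144 ∣ cc y := Nat.dvd_trans (by decide : 144 ∣ Nat.lcm 48 9) (Nat.lcm_dvd h48' h9)
  have hmem := mem_orders144 (Nat.mem_divisors.2 ⟨cc_dvd hG hy1 hreg, by norm_num⟩) h144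
    (U.not_top hG ha hy1 (fun i => (rows_ok 16 i).2))
  have hle := orders144_le _ hmem
  have hd3 : ∀ i, u i % 3 = (((rows 16) i).natAbs : ℤ) % 3 := fun i => by
    rw [← Sh.dg_eq i]
    exact modEq_degree (Sh.ch i) (p := 3) (k := 1) (by rw [pow_one, ← hy, pow_orderOf_eq_one]) (U.val i)
  have hd2 : ∀ i, u i % 2 = w i % 2 := fun i => by
    obtain ⟨z, Z⟩ := vals16 Sh hG ha (g := y ^ 2) (by rw [orderOf_pow, hy]; norm_num)
    have h := modEq_mul (Sh.ch i) (p := 2) (a := w i) (b := u i) (y := t) (z := y)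
      (by rw [← ht, pow_orderOf_eq_one]) hyt.symm ⟨z i, Z.val i⟩ (by rw [← hyt.eq]; exact W.val i) (U.val i)
    exact h.symm
  have hu2 : u 2 = 0 := U.three_zero hG (by rw [hy]) 2 (by decide +kernel)
  obtain ⟨s0, s1, -, s3, s4⟩ := strict16 hG U hy1
  have hl := lin16 hG ha U
  have hn := U.norm
  have hz := count16 hG ha V U
  have hz0 := form16_nonneg hG ha V U
  have hW := count16 hG ha W U
  have hW0 := form16_nonneg hG ha W U
  rw [Fin.sum_univ_five, hu2] at hn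
  rw [hu2] at hl hz hz0 hW hW0
  rw [hv.1, hv.2.1, hv.2.2.1, hv.2.2.2.1, hv.2.2.2.2] at hz hz0
  rw [hw.1, hw.2.1, hw2, hw.2.2.1, hw.2.2.2] at hW hW0
  have hf : ∀ x0 x1 x3 x4 : ℤ, form16 (-3) 0 6 (-8) 0 x0 x1 0 x3 x4 = form16 (-3) 0 0 (-8) 0 x0 x1 0 x3 x4 :=
    fun _ _ _ _ => by simp [form16]
  rw [hf] at hz hz0
  rw [hC] at hz
  rw [h48] at hW
  have b3 : ∀ i, (rows 16 i).natAbs % 3 = 0 → u i % 3 = 0 := fun i hi => by rw [hd3 i]; omega
  have e4 : u 4 % 3 = 1 := by rw [hd3 4]; decide +kernel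
  refine fortyeight (a := u 0) (b := u 1) (e := u 3) (f := u 4) (C := cc y)
    (mem_spanPar (mem_spanMod (by omega) (by omega) (b3 0 (by decide +kernel)) (U.sq_le 0 hle)) (by rw [hd2, hw.1]; norm_num))
    (mem_spanPar (mem_spanMod (by omega) (by omega) (b3 1 (by decide +kernel)) (U.sq_le 1 hle)) (by rw [hd2, hw.2.1]))
    (mem_spanPar (mem_spanMod (by omega) (by omega) (by omega) (U.sq_le 4 hle)) (by rw [hd2, hw.2.2.2]))
    (mem_spanPar (mem_spanMod (by omega) (by omega) (b3 3 (by decide +kernel)) (U.sq_le 3 hle)) (by rw [hd2, hw.2.2.1]; norm_num))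
    (by linarith) hmem (by linarith) ⟨pairCount t y a, ?_⟩ hz0 ⟨pairCount (y * t) y a, ?_⟩ hW0
  · rw [← hz]; push_cast; ring
  · rw [← hW]; push_cast; ring

variable (Sh)

/-- The central involutions. -/
theorem central_values (hG : IsM12 G) (ha : orderOf a = 11) {t : G} (ht : orderOf t = 2) (h64 : 64 ∣ cc t) :
    cc t = 192 ∧ Sh.Vals t ![-3, 0, 6, -8, 0] ∧ ∀ y, orderOf y = 3 → Commute y t → cc (y * t) = 6 := by
  obtain ⟨v, V, hq, hC, hC', hok, hc⟩ := Sh.invol_good hG ha (rows_ok 16) ht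
  have hmem := mem_orders64 hC h64 hC'
  have hl := lin16 hG ha V
  have hc' := hc 2880 true false (by
    have key : ∀ C ∈ orders64, C ≤ 2880 := by decide +kernel
    exact key _ hmem) (fun _ => h64) (by simp)
  rw [Fin.sum_univ_five] at hq
  have hq' : (95040 : ℤ) + (v 0 * v 0 * 2112 + v 1 * v 1 * 660 + v 2 * v 2 * -1760 + v 3 * v 3 * -792 +
    v 4 * v 4 * -5940) = 0 := hq
  have h := central_row16 (hc' 0) (hc' 1) (hc' 2) (hc' 3) (hc' 4) hl (by linarith) hmem hok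
  simp only [List.mem_cons, List.not_mem_nil, or_false, Prod.mk.injEq] at h
  rcases h with h | h | h
  · obtain ⟨e0, e1, e2, e3, e4, eC⟩ := h
    refine ⟨eC, ?_, fun y hy hyt => ?_⟩
    · have : v = ![-3, 0, 6, -8, 0] := funext fun i => by fin_cases i <;> assumption
      rw [← this]; exact V
    · obtain ⟨w, W, hw2, m0, m1, m3, m4, hlw, hd, h6, hokw⟩ := prod_good hG ha V ht hy hyt
      rw [e0, eC] at m0; rw [e1, eC] at m1; rw [e3, eC] at m3; rw [e4, eC] at m4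
      rw [e0, e1, e3, e4, eC] at hokw; rw [eC] at hd
      have h' := six0 m0 m1 m4 m3 hlw hd h6 hokw
      simp only [List.mem_cons, List.not_mem_nil, or_false, Prod.mk.injEq] at h'
      rcases h' with h' | h'
      · exact h'.2.2.2.2
      · exact (kill_fortyeight hG ha V ht hy hyt W ⟨e0, e1, e2, e3, e4⟩ eC
          ⟨h'.1, h'.2.1, h'.2.2.1, h'.2.2.2.1⟩ hw2 h'.2.2.2.2).elim
  · obtain ⟨e0, e1, e2, e3, e4, eC⟩ := h
    exact (kill_large hG ha V ht (by rw [e0, e1, e2, e3, e4, eC]; exact List.mem_cons_self ..)).elim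
  · obtain ⟨e0, e1, e2, e3, e4, eC⟩ := h
    exact (kill_large hG ha V ht (by
      rw [e0, e1, e2, e3, e4, eC]; exact List.mem_cons_of_mem _ (List.mem_cons_self ..))).elim

include Sh in
/-- The central involutions are conjugate. -/
theorem central_conj (hG : IsM12 G) (ha : orderOf a = 11) {t s : G} (ht : orderOf t = 2) (h64 : 64 ∣ cc t)
    (hs : orderOf s = 2) (h64' : 64 ∣ cc s) : IsConj t s := by
  by_contra hne
  obtain ⟨c1, V, -⟩ := central_values Sh hG ha ht h64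
  obtain ⟨c2, W, -⟩ := central_values Sh hG ha hs h64'
  have h := V.gram W hne
  rw [c1, c2, Fin.sum_univ_five, Fin.sum_univ_five] at h
  have h' : ((1 : ℤ) + (-3 * -3 + 0 * 0 + 6 * 6 + -8 * -8 + 0 * 0) + 0 * 0) ^ 2 ≤
      ((192 : ℤ) - (1 + ((-3) ^ 2 + 0 ^ 2 + 6 ^ 2 + (-8) ^ 2 + 0 ^ 2) + 0 ^ 2)) *
        ((192 : ℤ) - (1 + ((-3) ^ 2 + 0 ^ 2 + 6 ^ 2 + (-8) ^ 2 + 0 ^ 2) + 0 ^ 2)) := h
  norm_num at h'

/-- The involutions outside the central class. -/
theorem outer_values (hG : IsM12 G) (ha : orderOf a = 11) {z t : G} (hz : orderOf z = 2) (hz64 : 64 ∣ cc z)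
    (ht : orderOf t = 2) (h16 : 16 ∣ cc t) (hne : ¬ IsConj z t) :
    Sh.Vals t ![5, 4, 6, 0, 4] ∨ Sh.Vals t ![5, -4, 6, 0, -4] := by
  obtain ⟨c1, U, -⟩ := central_values Sh hG ha hz hz64
  obtain ⟨v, V, hq, hC, hC', hok, hc⟩ := Sh.invol_good hG ha (rows_ok 16) ht
  have hmem := mem_orders16 hC h16 hC'
  have hc' := hc 4320 false false (by
    have key : ∀ C ∈ orders16, C ≤ 4320 := by decide +kernel
    exact key _ hmem) (by simp) (by simp)
  have hl := lin16 hG ha V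
  have hqq := count16 hG ha V V
  rw [pairCount_zero hG ha ht ht, Nat.cast_zero, zero_mul, zero_mul] at hqq
  have hzv := count16 hG ha U V
  rw [pairCount_zero hG ha hz ht, Nat.cast_zero, zero_mul, zero_mul] at hzv
  have hzv' : form16 (-3) 0 6 (-8) 0 (v 0) (v 1) (v 2) (v 3) (v 4) = 0 := hzv.symm
  have hg := U.gram V hne
  rw [c1, Fin.sum_univ_five, Fin.sum_univ_five, Fin.sum_univ_five] at hg
  have hg' : (1 + (-3 * v 0 + 0 * v 1 + 6 * v 2 + -8 * v 3 + 0 * v 4) + 0 * v 4) ^ 2 ≤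
      ((192 : ℤ) - (1 + ((-3) ^ 2 + 0 ^ 2 + 6 ^ 2 + (-8) ^ 2 + 0 ^ 2) + 0 ^ 2)) *
        ((cc t : ℤ) - (1 + (v 0 ^ 2 + v 1 ^ 2 + v 2 ^ 2 + v 3 ^ 2 + v 4 ^ 2) + v 4 ^ 2)) := hg
  have h := outer (hc' 0) (hc' 1) (hc' 2) (hc' 3) (hc' 4) (by linarith) hqq.symm hzv' hmem hok (by linarith)
  rcases h with ⟨e0, e1, e2, e3, e4⟩ | h
  · rcases e1 with e1 | e1
    · rw [e1] at e4
      have : v = ![5, 4, 6, 0, 4] := funext fun i => by fin_cases i <;> assumption
      exact Or.inl (this ▸ V)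
    · rw [e1] at e4
      have : v = ![5, -4, 6, 0, -4] := funext fun i => by fin_cases i <;> assumption
      exact Or.inr (this ▸ V)
  · exact (kill_large hG ha V ht (List.mem_cons_of_mem _ (List.mem_cons_of_mem _ h))).elim

end CfsgSimpleM12
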