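/-
The centraliser of a central involution.
-/
import Cfsg.Agent.Lib.SimpleM12.Sixteen

set_option autoImplicit false
set_option linter.style.haveILetI false
set_option linter.unusedSectionVars false

namespace CfsgSimpleM12

open Cfsg Subgroup CfsgSimpleM11

universe u

/-- The subgroups and elements attached to a central involution. -/
structure CentData {G : Type u} [Group G] (z x j : G) (Q S : Subgroup G) : Prop where
  oz : orderOf z = 2
  cardC : Nat.card (centralizer ({z} : Set G)) = 192
  leC : ∀ q ∈ Q, q * z = z * q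
  cardQ : Nat.card Q = 32
  zQ : z ∈ Q
  normQ : ∀ c : G, c * z = z * c → ∀ q ∈ Q, c * q * c⁻¹ ∈ Q
  ox : orderOf x = 3
  xz : x * z = z * x
  xQ : x ∉ Q
  fix : ∀ h : G, orderOf h = 3 → h * z = z * h → ∀ q ∈ Q, h * q = q * h → q = 1 ∨ q = z
  jz : j * z = z * j
  jx : j * x * j⁻¹ = x⁻¹
  jj : j * j = 1 ∨ j * j = z
  cardS : Nat.card S = 64
  QS : Q ≤ S
  SC : ∀ g ∈ S, g * z = z * g
  comm3 : ∀ e ∈ S, e ∉ Q → (e * x * e⁻¹ * x⁻¹) ^ 96 = 1 ∧ (e * x * e⁻¹ * x⁻¹) ^ 32 ∉ Q

theorem perm_comm : ∀ b : Equiv.Perm (Fin 3), b * b * b = 1 → b ≠ 1 → ∀ a : Equiv.Perm (Fin 3),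
    a * a * a * a = 1 → a ≠ 1 →
      (a * b * a⁻¹ * b⁻¹) * (a * b * a⁻¹ * b⁻¹) ≠ 1 := by decide +kernel

theorem perm_cube : ∀ b : Equiv.Perm (Fin 3), b * b * b = 1 → ∀ a : Equiv.Perm (Fin 3),
    (a * b * a⁻¹ * b⁻¹) * (a * b * a⁻¹ * b⁻¹) * (a * b * a⁻¹ * b⁻¹) = 1 := by decide +kernel

variable {G : Type u} [Group G] [Fintype G] {a : G}

theorem exists_centData (hG : IsM12 G) (Sh : Shape16 a) (ha : orderOf a = 11) :
    ∃ (z x j : G) (Q S : Subgroup G), CentData z x j Q S := by
  classical
  haveI : Fact (Nat.Prime 2) := ⟨Nat.prime_two⟩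
  haveI : Fact (Nat.Prime 3) := ⟨by norm_num⟩
  obtain ⟨z, hz, h64⟩ := exists_central_involution hG
  obtain ⟨hC, -, h6⟩ := central_values Sh hG ha hz h64
  set C := centralizer ({z} : Set G) with hCdef
  have hC' : Nat.card C = 192 := hC
  have hzC : z ∈ C := mem_centralizer_singleton_iff.mpr rfl
  obtain ⟨x, hxC, hx⟩ := exists_order (show Nat.Prime 3 by norm_num) (show 3 ∣ Nat.card C by rw [hC']; norm_num)
  have hxz : x * z = z * x := mem_centralizer_singleton_iff.mp hxC
  have hfix : ∀ h : G, orderOf h = 3 → h * z = z * h → centralizer ({h} : Set G) ⊓ C = zpowers (h * z) := by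
    intro h ho hc
    have ho6 : orderOf (h * z) = 6 := by
      rw [(show Commute h z from hc).orderOf_mul_eq_mul_orderOf_of_coprime (by rw [ho, hz]; norm_num), ho, hz]
    symm
    refine eq_of_le_of_card_ge (zpowers_le.mpr ⟨mem_centralizer_singleton_iff.mpr
      ((Commute.refl h).mul_left (show Commute z h from hc.symm)), mem_centralizer_singleton_iff.mpr
      ((show Commute h z from hc).mul_left (Commute.refl z))⟩) ?_
    rw [Nat.card_zpowers, ho6]
    refine (Nat.le_of_dvd Nat.card_pos (card_dvd_of_le (K := centralizer ({h * z} : Set G)) fun c hc' => ?_)).trans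
      (h6 h ho hc).le
    exact mem_centralizer_singleton_iff.mpr
      ((show Commute c h from mem_centralizer_singleton_iff.mp hc'.1).mul_right
        (show Commute c z from mem_centralizer_singleton_iff.mp hc'.2))
  -- an element inverting `x`
  let x' : C := ⟨x, hxC⟩
  have hx' : orderOf x' = 3 := by rw [← Subgroup.orderOf_coe]; exact hx
  obtain ⟨j, hjC, hj⟩ : ∃ j ∈ C, j * x * j⁻¹ = x⁻¹ := by
    by_contra hno
    push Not at hno
    set N := normalizer ((zpowers x' : Subgroup C) : Set C) with hN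
    have hle : N ≤ centralizer ({x'} : Set C) := by
      intro n hn
      obtain ⟨k, hk, hk'⟩ := conj_pow_of_mem_norm hn
      rw [hx'] at hk
      interval_cases k
      · exfalso
        rw [pow_zero] at hk'
        have : x' = 1 := (MulAut.conj n).injective (by rw [map_one]; exact hk')
        rw [this, orderOf_one] at hx'
        norm_num at hx'
      · rw [pow_one] at hk'
        exact mem_centralizer_singleton_iff.mpr (mul_inv_eq_iff_eq_mul.mp hk')
      · exfalso
        refine hno n n.2 ?_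
        have h3 : x' ^ 3 = 1 := hx' ▸ pow_orderOf_eq_one x'
        have e : n * x' * n⁻¹ = x'⁻¹ := hk'.trans (eq_inv_of_mul_eq_one_left (by rw [← pow_succ]; exact h3))
        exact congrArg Subtype.val e
    have hcN : Nat.card N = 6 := by
      rw [le_antisymm hle (cent_le_norm x')]
      have e : (centralizer ({x'} : Set C)).map C.subtype = centralizer ({x} : Set G) ⊓ C := by
        ext c
        constructor
        · rintro ⟨c', hc', rfl⟩
          exact ⟨mem_centralizer_singleton_iff.mpr (congrArg Subtype.val (mem_centralizer_singleton_iff.mp hc')), c'.2⟩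
        · rintro ⟨h1, h2⟩
          exact ⟨⟨c, h2⟩, mem_centralizer_singleton_iff.mpr (Subtype.ext (mem_centralizer_singleton_iff.mp h1)), rfl⟩
      have hcm : Nat.card ((centralizer ({x'} : Set C)).map C.subtype) = Nat.card (centralizer ({x'} : Set C)) :=
        card_map_of_injective C.subtype_injective
      rw [← hcm, e, hfix x hx hxz,
        Nat.card_zpowers, (show Commute x z from hxz).orderOf_mul_eq_mul_orderOf_of_coprime (by rw [hx, hz]; norm_num),
        hx, hz]
    let P : Sylow 3 C := Sylow.ofCard (zpowers x') (by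
      rw [Nat.card_zpowers, hx', hC', CfsgLib.Order7920.fac_eq (show Nat.Prime 3 by norm_num) (k := 1) (by norm_num)
        (by norm_num) (by norm_num), pow_one])
    have h1 := card_sylow_modEq_one 3 C
    rw [P.card_eq_index_normalizer] at h1
    have hm : Nat.card N * N.index = 192 := N.card_mul_index.trans hC'
    have : (normalizer (P : Set C)).index = N.index := rfl
    rw [this] at h1
    rw [hcN] at hm
    rw [show N.index = 32 by omega] at h1
    exact absurd h1 (by decide)
  have hjj : j * j = 1 ∨ j * j = z := by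
    have hcj : j * j ∈ centralizer ({x} : Set G) ⊓ C := ⟨mem_centralizer_singleton_iff.mpr (by
      have : (j * j) * x * (j * j)⁻¹ = x := by
        calc j * j * x * (j * j)⁻¹ = j * (j * x * j⁻¹) * j⁻¹ := by group
          _ = j * x⁻¹ * j⁻¹ := by rw [hj]
          _ = (j * x * j⁻¹)⁻¹ := by group
          _ = x := by rw [hj, inv_inv]
      exact mul_inv_eq_iff_eq_mul.mp this), mul_mem hjC hjC⟩
    rw [hfix x hx hxz, mem_zpowers_iff_mem_range_orderOf, Finset.mem_image] at hcj
    obtain ⟨k, hk, hk'⟩ := hcj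
    rw [(show Commute x z from hxz).orderOf_mul_eq_mul_orderOf_of_coprime (by rw [hx, hz]; norm_num), hx, hz,
      Finset.mem_range] at hk
    have hjz : Commute j z := mem_centralizer_singleton_iff.mp hjC
    rw [(show Commute x z from hxz).mul_pow] at hk'
    have hfixj : j * (j * j) * j⁻¹ = j * j := by group
    rw [← hk', show j * (x ^ k * z ^ k) * j⁻¹ = (j * x * j⁻¹) ^ k * (j * z * j⁻¹) ^ k by
      rw [conj_pow, conj_pow]; group, hj, hjz.eq, mul_inv_cancel_right] at hfixj
    have hinv : (x⁻¹) ^ k = x ^ k := mul_right_cancel hfixj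
    rw [inv_pow] at hinv
    have h3 : 3 ∣ k * 2 := by
      rw [← hx]
      apply orderOf_dvd_of_pow_eq_one
      rw [pow_mul, pow_two]
      exact mul_eq_one_iff_eq_inv.mpr hinv.symm
    have hk3 : 3 ∣ k := by omega
    have hz2 : z ^ 2 = 1 := hz ▸ pow_orderOf_eq_one z
    have hx3 : x ^ 3 = 1 := hx ▸ pow_orderOf_eq_one x
    rw [← hk']
    rcases (show k = 0 ∨ k = 3 by omega) with rfl | rfl
    · exact Or.inl (by simp)
    · exact Or.inr (by rw [hx3, one_mul, pow_succ, hz2, one_mul])
  have hz2 : z ^ 2 = 1 := hz ▸ pow_orderOf_eq_one z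
  have hj4 : j ^ 4 = 1 := by
    rw [show (4 : ℕ) = 2 * 2 from rfl, pow_mul, pow_two j]
    rcases hjj with e | e <;> rw [e]
    · rw [one_pow]
    · exact hz2
  -- the Sylow 2-subgroups of the centraliser
  let j' : C := ⟨j, hjC⟩
  obtain ⟨T, hT⟩ := IsPGroup.exists_le_sylow (p := 2) (G := C) (P := zpowers j') (by
    intro g
    obtain ⟨k, hk⟩ := mem_zpowers_iff.mp g.2
    refine ⟨2, Subtype.ext ?_⟩
    have e : j' ^ 4 = 1 := Subtype.ext hj4
    rw [SubgroupClass.coe_pow, ← hk, OneMemClass.coe_one, ← zpow_natCast, ← zpow_mul, mul_comm, zpow_mul,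
      show ((2 ^ 2 : ℕ) : ℤ) = ((4 : ℕ) : ℤ) by norm_num, zpow_natCast, e, one_zpow])
  have hjT : j' ∈ (T : Subgroup C) := hT (mem_zpowers j')
  have hT64 : Nat.card (T : Subgroup C) = 64 := by
    rw [T.card_eq_multiplicity, hC', CfsgLib.Order7920.fac_eq Nat.prime_two (k := 6) (by norm_num) (by norm_num) (by norm_num)]
    norm_num
  have hn : Nat.card (Sylow 2 C) = 3 := by
    have hi := T.card_dvd_index
    have hm := (T : Subgroup C).card_mul_index
    rw [hT64, hC'] at hm
    rw [show (T : Subgroup C).index = 3 by omega] at hi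
    rcases (Nat.dvd_prime (by norm_num)).mp hi with e | e
    · exfalso
      rw [T.card_eq_index_normalizer, index_eq_one] at e
      haveI : (T : Subgroup C).Normal := normalizer_eq_top_iff.mp e
      have h1 : j' * x' * j'⁻¹ * x'⁻¹ ∈ (T : Subgroup C) := by
        rw [show j' * x' * j'⁻¹ * x'⁻¹ = j' * (x' * j'⁻¹ * x'⁻¹) by group]
        exact mul_mem hjT (Subgroup.Normal.conj_mem inferInstance _ (inv_mem hjT) x')
      have e2 : j' * x' * j'⁻¹ * x'⁻¹ = x' := by
        refine Subtype.ext ?_
        show j * x * j⁻¹ * x⁻¹ = x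
        rw [hj]
        have h3 : x ^ 3 = 1 := hx ▸ pow_orderOf_eq_one x
        calc x⁻¹ * x⁻¹ = x ^ 3 * (x⁻¹ * x⁻¹) := by rw [h3, one_mul]
          _ = x := by group
      rw [e2] at h1
      have h2 := Subgroup.orderOf_dvd_natCard _ h1
      rw [hx', hT64] at h2
      norm_num at h2
    · exact e
  -- the kernel of the action
  haveI := Fintype.ofFinite (Sylow 2 C)
  have ev : Sylow 2 C ≃ Fin 3 := Fintype.equivFinOfCardEq (by rw [← Nat.card_eq_fintype_card]; exact hn)
  let π : C →* Equiv.Perm (Fin 3) := ev.permCongrHom.toMonoidHom.comp (MulAction.toPermHom C (Sylow 2 C))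
  set K := π.ker with hK
  have hKnot : ¬ (T : Subgroup C) ≤ K := fun hle => by
    have h1 : Nat.card (Sylow 2 C) ≤ 1 := by
      rw [Finite.card_le_one_iff_subsingleton]
      refine ⟨fun P R => ?_⟩
      have hfix : ∀ P : Sylow 2 C, P = T := fun P => by
        have hTP : (T : Subgroup C) ≤ normalizer (P : Set C) := fun t ht => by
          refine Sylow.smul_eq_iff_mem_normalizer.mp ?_
          have := Equiv.ext_iff.mp (MonoidHom.mem_ker.mp (hle ht)) (ev P)
          simpa [π, Equiv.permCongrHom] using this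
        have := T.isPGroup'.inf_normalizer_sylow P
        rw [inf_eq_left.mpr hTP] at this
        exact (Sylow.ext (T.is_maximal' P.isPGroup' (this.le.trans inf_le_right)))
      rw [hfix P, hfix R]
    omega
  have himg : Nat.card π.range = 6 := by
    have h1 : Nat.card π.range ∣ 6 := by
      refine (card_subgroup_dvd_card _).trans ?_
      rw [Nat.card_perm, Nat.card_fin]
      decide
    have h3 : 3 ∣ Nat.card π.range := by
      have hxim : π x' ≠ 1 := fun h => by
        have hTx : x' ∈ normalizer (T : Set C) := Sylow.smul_eq_iff_mem_normalizer.mp (by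
          have := Equiv.ext_iff.mp h (ev T)
          simpa [π, Equiv.permCongrHom] using this)
        have hj' : j' ∈ normalizer (T : Set C) := le_normalizer hjT
        have hm := (normalizer (T : Set C)).card_mul_index
        rw [← T.card_eq_index_normalizer, hn, hC'] at hm
        have hd := Subgroup.orderOf_dvd_natCard _ hTx
        rw [hx', show Nat.card (normalizer (T : Set C)) = 64 by omega] at hd
        norm_num at hd
      have : orderOf (π x') = 3 := orderOf_eq_prime (by rw [← map_pow, show x' ^ 3 = 1 from hx' ▸ pow_orderOf_eq_one x', map_one]) hxim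
      exact (dvd_of_eq this.symm).trans (Subgroup.orderOf_dvd_natCard _ (MonoidHom.mem_range.mpr ⟨x', rfl⟩))
    have hne : Nat.card π.range ≠ 3 := fun h => by
      have hTr : (T : Subgroup C) ≤ K := fun t ht => by
        have h1 : orderOf (π t) ∣ Nat.gcd 64 3 :=
          Nat.dvd_gcd ((orderOf_map_dvd π t).trans (hT64 ▸ Subgroup.orderOf_dvd_natCard _ ht))
            ((Subgroup.orderOf_dvd_natCard _ (MonoidHom.mem_range.mpr ⟨t, rfl⟩)).trans (dvd_of_eq h))
        exact MonoidHom.mem_ker.mpr (orderOf_eq_one_iff.mp (Nat.dvd_one.mp h1))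
      exact hKnot hTr
    obtain ⟨m, hm⟩ := h3
    rw [hm] at h1 hne ⊢
    have : 3 * m ≤ 6 := Nat.le_of_dvd (by norm_num) h1
    have : m ≠ 0 := fun e => by rw [e] at hm; exact Nat.card_pos.ne' hm
    omega
  have hKcard : Nat.card K = 32 := by
    have h := K.card_mul_index
    have hi : K.index = 6 := (index_ker π).trans himg
    rw [hC', hi] at h
    omega
  haveI : K.Normal := MonoidHom.normal_ker π
  have hK2 : IsPGroup 2 K := IsPGroup.of_card (show Nat.card K = 2 ^ 5 by rw [hKcard]; norm_num)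
  have hKT : K ≤ (T : Subgroup C) := by
    obtain ⟨R, hR⟩ := hK2.exists_le_sylow
    obtain ⟨c, hc⟩ := MulAction.exists_smul_eq C R T
    intro k hk
    rw [← hc]
    exact ⟨c⁻¹ * k * c, hR (by simpa using Subgroup.Normal.conj_mem inferInstance k hk c⁻¹),
      by show c * (c⁻¹ * k * c) * c⁻¹ = k; group⟩
  have hxK : x' ∉ K := fun h => by
    have := Subgroup.orderOf_dvd_natCard _ h
    rw [hx', hKcard] at this
    norm_num at this
  refine ⟨z, x, j, K.map C.subtype, (T : Subgroup C).map C.subtype, ?_⟩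
  refine { oz := hz, cardC := hC', leC := ?_, cardQ := by rw [card_map_of_injective C.subtype_injective, hKcard],
           zQ := ?_, normQ := ?_, ox := hx, xz := hxz, xQ := ?_, fix := ?_,
           jz := mem_centralizer_singleton_iff.mp hjC, jx := hj, jj := hjj,
           cardS := by rw [card_map_of_injective C.subtype_injective, hT64], QS := map_mono hKT, SC := ?_, comm3 := ?_ }
  · rintro _ ⟨q, -, rfl⟩
    exact mem_centralizer_singleton_iff.mp q.2
  · refine ⟨⟨z, hzC⟩, MonoidHom.mem_ker.mpr ?_, rfl⟩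
    have hzc : ∀ c : C, c * ⟨z, hzC⟩ = ⟨z, hzC⟩ * c := fun c => Subtype.ext (mem_centralizer_singleton_iff.mp c.2)
    refine Equiv.ext fun i => ?_
    have hz' : (⟨z, hzC⟩ : C) • ev.symm i = ev.symm i := by
      refine Sylow.smul_eq_iff_mem_normalizer.mpr (mem_normalizer_iff.mpr fun h => ?_)
      rw [show (⟨z, hzC⟩ : C) * h * (⟨z, hzC⟩ : C)⁻¹ = h by rw [← hzc h, mul_inv_cancel_right]]
    simpa [π, Equiv.permCongrHom] using congrArg ev hz'
  · rintro c hc _ ⟨q, hq, rfl⟩
    exact ⟨(⟨c, mem_centralizer_singleton_iff.mpr hc⟩ : C) * q * (⟨c, mem_centralizer_singleton_iff.mpr hc⟩ : C)⁻¹,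
      Subgroup.Normal.conj_mem inferInstance q hq _, rfl⟩
  · rintro ⟨q, hq, e⟩
    exact hxK (by rwa [show q = x' from Subtype.ext e] at hq)
  · rintro h ho hhz _ ⟨q, hq, rfl⟩ hcomm
    have hq' : (q : G) ∈ centralizer ({h} : Set G) ⊓ C := ⟨mem_centralizer_singleton_iff.mpr hcomm.symm, q.2⟩
    rw [hfix h ho hhz, mem_zpowers_iff_mem_range_orderOf, Finset.mem_image] at hq'
    obtain ⟨k, hk, hk'⟩ := hq'
    have h32 : (q : G) ^ 32 = 1 := by
      have := Subgroup.orderOf_dvd_natCard _ hq
      rw [hKcard] at this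
      exact congrArg Subtype.val (orderOf_dvd_iff_pow_eq_one.mp this)
    have ho6 : orderOf (h * z) = 6 := by
      rw [(show Commute h z from hhz).orderOf_mul_eq_mul_orderOf_of_coprime (by rw [ho, hz]; norm_num), ho, hz]
    rw [ho6, Finset.mem_range] at hk
    rw [← hk', ← pow_mul] at h32
    have h6' := orderOf_dvd_of_pow_eq_one h32
    rw [ho6] at h6'
    show (q : G) = 1 ∨ (q : G) = z
    rw [← hk']
    rcases (show k = 0 ∨ k = 3 by omega) with rfl | rfl
    · exact Or.inl (pow_zero _)
    · right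
      rw [(show Commute h z from hhz).mul_pow, show h ^ 3 = 1 from ho ▸ pow_orderOf_eq_one h, one_mul, pow_succ, hz2, one_mul]
  · rintro _ ⟨g, -, rfl⟩
    exact mem_centralizer_singleton_iff.mp g.2
  · rintro _ ⟨e, he, rfl⟩ hnot
    have heK : π e ≠ 1 := fun h => hnot ⟨e, MonoidHom.mem_ker.mpr h, rfl⟩
    have hb : π x' * π x' * π x' = 1 := by
      rw [← map_mul, ← map_mul, show x' * x' * x' = 1 by rw [← pow_two, ← pow_succ]; exact (hx' ▸ pow_orderOf_eq_one x' : x' ^ 3 = 1), map_one]
    have hbne : π x' ≠ 1 := fun h => hxK (MonoidHom.mem_ker.mpr h)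
    have h4 : π e * π e * π e * π e = 1 := by
      have h1 : orderOf (π e) ∣ Nat.gcd 64 6 :=
        Nat.dvd_gcd ((orderOf_map_dvd π e).trans (hT64 ▸ Subgroup.orderOf_dvd_natCard _ he))
          ((Subgroup.orderOf_dvd_natCard _ (MonoidHom.mem_range.mpr ⟨e, rfl⟩)).trans (dvd_of_eq himg))
      have h2 : π e ^ 4 = 1 := orderOf_dvd_iff_pow_eq_one.mp (h1.trans (by norm_num))
      simpa [pow_succ, mul_assoc] using h2
    have p1 := perm_comm _ hb hbne _ h4 heK
    have p2 := perm_cube _ hb (π e)
    set g := e * x' * e⁻¹ * x'⁻¹ with hg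
    have hπg : π g = π e * π x' * (π e)⁻¹ * (π x')⁻¹ := by rw [hg, map_mul, map_mul, map_mul, map_inv, map_inv]
    rw [← hπg] at p1 p2
    have hg3 : π g ^ 3 = 1 := by rw [pow_succ, pow_two]; exact p2
    have h32 : π (g ^ 32) ≠ 1 := by
      rw [map_pow, show (32 : ℕ) = 3 * 10 + 2 from rfl, pow_add, pow_mul, hg3, one_pow, one_mul, pow_two]
      exact p1
    refine ⟨?_, fun hm => ?_⟩
    · have h1 : g ^ 3 ∈ K := MonoidHom.mem_ker.mpr (by rw [map_pow]; exact hg3)
      have h2 := Subgroup.orderOf_dvd_natCard _ h1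
      rw [hKcard] at h2
      have h3 : g ^ 96 = 1 := by
        rw [show (96 : ℕ) = 3 * 32 from rfl, pow_mul]; exact orderOf_dvd_iff_pow_eq_one.mp h2
      exact congrArg Subtype.val h3
    · obtain ⟨q, hq, e'⟩ := hm
      have : q = g ^ 32 := Subtype.ext e'
      exact h32 (MonoidHom.mem_ker.mp (this ▸ hq))

end CfsgSimpleM12
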