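/-
The 2-core of the centraliser of a central involution is extraspecial.
-/
import Cfsg.Agent.Lib.SimpleM12.Central
import Cfsg.Agent.Lib.SimpleM12.ExcFive

set_option autoImplicit false
set_option linter.style.haveILetI false
set_option linter.unusedSectionVars false

namespace CfsgSimpleM12

open Cfsg Subgroup CfsgSimpleM11

universe u

section
variable {M : Type u} [Group M] [Finite M]

/-- A permutation of order dividing three fixes a number of points congruent to the total. -/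
theorem fixed_mod_three {α : Type*} [Fintype α] [DecidableEq α] (σ : Equiv.Perm α) (h3 : ∀ a, σ (σ (σ a)) = a) :
    (Finset.univ.filter fun a => σ a = a).card % 3 = Fintype.card α % 3 := by
  haveI : Fact (Nat.Prime 3) := ⟨by norm_num⟩
  have hσ : σ ^ 3 ^ 1 = 1 := Equiv.ext fun a => by
    rw [pow_one, pow_succ, pow_two, Equiv.Perm.mul_apply, Equiv.Perm.mul_apply, h3, Equiv.Perm.one_apply]
  have h := Equiv.Perm.card_compl_support_modEq hσ
  have e : σ.supportᶜ = Finset.univ.filter fun a => σ a = a := by ext a; simp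
  rw [e] at h
  exact h

/-- A group of order sixteen with a fixed-point-free automorphism of order three is commutative. -/
theorem comm_of_fpf (hM : Nat.card M = 16) (φ : M ≃* M) (h3 : ∀ a, φ (φ (φ a)) = a) (hfpf : ∀ a, φ a = a → a = 1) :
    ∀ a b : M, a * b = b * a := by
  classical
  haveI := Fintype.ofFinite M
  haveI : Fact (Nat.Prime 2) := ⟨Nat.prime_two⟩
  set Z := Subgroup.center M with hZ
  by_contra hno
  push Not at hno
  obtain ⟨a0, b0, hab⟩ := hno
  have hne : Z ≠ ⊤ := fun h => hab ((mem_center_iff.mp (h ▸ mem_top b0 : b0 ∈ Z)) a0)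
  have hmem : ∀ c, c ∈ Z → φ c ∈ Z := fun c hc => mem_center_iff.mpr fun g => by
    obtain ⟨g', rfl⟩ := φ.surjective g
    rw [← map_mul, ← map_mul, mem_center_iff.mp hc g']
  let σ : Equiv.Perm Z :=
    { toFun := fun c => ⟨φ c, hmem c c.2⟩
      invFun := fun c => ⟨φ (φ c), hmem _ (hmem c c.2)⟩
      left_inv := fun c => Subtype.ext (h3 c)
      right_inv := fun c => Subtype.ext (h3 c) }
  haveI := Fintype.ofFinite Z
  have hfix := fixed_mod_three σ fun c => Subtype.ext (h3 c)
  have h1 : (Finset.univ.filter fun c : Z => σ c = c) = {1} := by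
    ext c
    simp only [Finset.mem_filter, Finset.mem_univ, true_and, Finset.mem_singleton]
    exact ⟨fun h => Subtype.ext (hfpf c (congrArg Subtype.val h)), fun h => by
      subst h; exact Subtype.ext φ.map_one⟩
  rw [h1, Finset.card_singleton, ← Nat.card_eq_fintype_card] at hfix
  have hP : IsPGroup 2 M := IsPGroup.of_card (show Nat.card M = 2 ^ 4 by rw [hM]; norm_num)
  haveI : Nontrivial M := Finite.one_lt_card_iff_nontrivial.mp (by rw [hM]; norm_num)
  haveI := hP.center_nontrivial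
  have hgt : 1 < Nat.card Z := Finite.one_lt_card
  have hdvd : Nat.card Z ∈ Nat.divisors 16 := Nat.mem_divisors.2 ⟨hM ▸ card_subgroup_dvd_card Z, by norm_num⟩
  have hne16 : Nat.card Z ≠ 16 := fun h => hne (card_eq_iff_eq_top Z |>.mp (by rw [h, hM]))
  have key : ∀ m ∈ Nat.divisors 16, 1 < m → m % 3 = 1 % 3 → m ≠ 16 → m = 4 := by decide +kernel
  have hZ4 : Nat.card Z = 4 := key _ hdvd hgt (by omega) hne16
  obtain ⟨a, -, ha⟩ := SetLike.exists_of_lt (lt_top_iff_ne_top.mpr hne)
  set C := centralizer ({a} : Set M) with hC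
  have haC : a ∈ C := mem_centralizer_singleton_iff.mpr rfl
  have hZC : Z ≤ C := fun c hc => mem_centralizer_singleton_iff.mpr (mem_center_iff.mp hc a).symm
  have hC8 : Nat.card C = 8 := by
    have hd : Nat.card C ∈ Nat.divisors 16 := Nat.mem_divisors.2 ⟨hM ▸ card_subgroup_dvd_card C, by norm_num⟩
    have hne' : Nat.card C ≠ 16 := fun h => ha (mem_center_iff.mpr fun g =>
      mem_centralizer_singleton_iff.mp (show g ∈ C by
        rw [card_eq_iff_eq_top C |>.mp (by rw [h, hM])]; exact mem_top g))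
    have hlt : Nat.card Z < Nat.card C := by
      refine lt_of_le_of_ne (Nat.le_of_dvd Nat.card_pos (card_dvd_of_le hZC)) fun h => ha ?_
      rw [show Z = C from eq_of_le_of_card_ge hZC h.ge]; exact haC
    have k8 : ∀ m ∈ Nat.divisors 16, 4 < m → m ≠ 16 → m = 8 := by decide +kernel
    exact k8 _ hd (hZ4 ▸ hlt) hne'
  have hidx : (Z.subgroupOf C).index = 2 := by
    have h := (Z.subgroupOf C).card_mul_index
    rw [Nat.card_congr (subgroupOfEquivOfLe hZC).toEquiv, hZ4, hC8] at h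
    omega
  have hsq : a * a ∈ Z := mem_subgroupOf.mp (mul_self_mem_of_index_two hidx ⟨a, haC⟩)
  have hprod : ∀ b : M, b * φ b * φ (φ b) = 1 := by
    have hinj : Function.Injective fun g : M => g⁻¹ * φ g := fun g g' h => by
      have h' : φ (g' * g⁻¹) = g' * g⁻¹ := by
        rw [map_mul, map_inv]
        calc φ g' * (φ g)⁻¹ = g' * (g'⁻¹ * φ g') * (φ g)⁻¹ := by group
          _ = g' * (g⁻¹ * φ g) * (φ g)⁻¹ := by rw [show g⁻¹ * φ g = g'⁻¹ * φ g' from h]
          _ = _ := by group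
      exact (mul_inv_eq_one.mp (hfpf _ h')).symm
    intro b
    obtain ⟨g, rfl⟩ := Finite.surjective_of_injective hinj b
    simp only [map_mul, map_inv, h3]
    group
  have hcomm : a * φ a = φ a * a := by
    have e1 := hprod a
    have e2 := hprod a⁻¹
    simp only [map_inv] at e2
    have e3 : φ (φ a) * φ a * a = 1 := by
      have := congrArg (fun w => w⁻¹) e2
      simpa [mul_inv_rev, mul_assoc] using this
    have : φ (φ a) = (φ a * a)⁻¹ := eq_inv_of_mul_eq_one_left (by rw [← mul_assoc]; exact e3)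
    rw [this] at e1
    exact mul_inv_eq_one.mp e1
  have hφC : φ a ∈ C := mem_centralizer_singleton_iff.mpr hcomm.symm
  have hφZ : φ a ∉ Z := fun h => ha (by have := hmem _ (hmem _ h); rwa [h3] at this)
  have hζ : a⁻¹ * φ a ∈ Z := by
    have h := (mul_mem_iff_of_index_two hidx (a := (⟨a, haC⟩ : C)⁻¹) (b := ⟨φ a, hφC⟩)).mpr
      ⟨fun h => absurd (by simpa [mem_subgroupOf] using h) ha, fun h => absurd (mem_subgroupOf.mp h) hφZ⟩
    exact mem_subgroupOf.mp h
  have hcube : a * a * a ∈ Z := by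
    have e := hprod a
    set ζ := a⁻¹ * φ a with hζdef
    have hφa : φ a = a * ζ := by rw [hζdef, mul_inv_cancel_left]
    rw [hφa, map_mul, hφa] at e
    have hc : ζ * a = a * ζ := ((mem_center_iff.mp hζ) a).symm
    have e' : a * a * a * (ζ * ζ * φ ζ) = 1 := by
      rw [← e]
      calc a * a * a * (ζ * ζ * φ ζ) = a * a * (a * ζ) * ζ * φ ζ := by group
        _ = a * a * (ζ * a) * ζ * φ ζ := by rw [hc]
        _ = a * (a * ζ) * (a * ζ * φ ζ) := by group
    rw [eq_inv_of_mul_eq_one_left e']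
    exact inv_mem (mul_mem (mul_mem hζ hζ) (hmem _ hζ))
  exact ha ((Subgroup.mul_mem_cancel_left _ hsq).mp hcube)

end

namespace CentData

variable {G : Type u} [Group G] [Fintype G] {z x j : G} {Q S : Subgroup G} (D : CentData z x j Q S)
include D

theorem z_ne : z ≠ 1 := fun e => by have := D.oz; rw [e, orderOf_one] at this; norm_num at this

theorem zz : z * z = 1 := by rw [← pow_two, ← D.oz, pow_orderOf_eq_one]

theorem x3 : x * x * x = 1 := by
  rw [← pow_two, ← pow_succ]
  exact (D.ox ▸ pow_orderOf_eq_one x : x ^ 3 = 1)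

theorem conjx_mem {q : G} (hq : q ∈ Q) : x * q * x⁻¹ ∈ Q := D.normQ x D.xz q hq

theorem conjx_inv_mem {q : G} (hq : q ∈ Q) : x⁻¹ * q * x ∈ Q := by
  have h : x⁻¹ * z = z * x⁻¹ := ((show Commute x z from D.xz).inv_left).eq
  simpa using D.normQ x⁻¹ h q hq

/-- The only elements of the core fixed by `x`. -/
theorem fix_x {q : G} (hq : q ∈ Q) (h : x * q = q * x) : q = 1 ∨ q = z := D.fix x D.ox D.xz q hq h

/-- Commutators in the core are central of order at most two. -/
theorem comm_mem {p q : G} (hp : p ∈ Q) (hq : q ∈ Q) : p * q * p⁻¹ * q⁻¹ = 1 ∨ p * q * p⁻¹ * q⁻¹ = z := by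
  classical
  set Z' : Subgroup Q := zpowers ⟨z, D.zQ⟩ with hZ'
  have hzc : ∀ w : Q, w * ⟨z, D.zQ⟩ = ⟨z, D.zQ⟩ * w := fun w => Subtype.ext (D.leC w w.2)
  have hZmem : ∀ w : Q, w ∈ Z' ↔ (w : G) = 1 ∨ (w : G) = z := by
    intro w
    rw [hZ', mem_zpowers_iff_mem_range_orderOf, Finset.mem_image]
    have ho : orderOf (⟨z, D.zQ⟩ : Q) = 2 := by rw [← Subgroup.orderOf_coe]; exact D.oz
    simp only [ho, Finset.mem_range]
    constructor
    · rintro ⟨k, hk, rfl⟩
      interval_cases k <;> simp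
    · rintro (h | h)
      · exact ⟨0, by norm_num, Subtype.ext (by simp [h])⟩
      · exact ⟨1, by norm_num, Subtype.ext (by simp [h])⟩
  haveI : Z'.Normal := ⟨fun n hn g => by
    rcases (hZmem n).1 hn with h | h
    · rw [show n = 1 from Subtype.ext h]; simp
    · rw [show n = ⟨z, D.zQ⟩ from Subtype.ext h, hzc g, mul_inv_cancel_right]; exact mem_zpowers _⟩
  let φ : Q ≃* Q :=
    { toFun := fun w => ⟨x * w * x⁻¹, D.conjx_mem w.2⟩
      invFun := fun w => ⟨x⁻¹ * w * x, D.conjx_inv_mem w.2⟩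
      left_inv := fun w => Subtype.ext (by show x⁻¹ * (x * (w : G) * x⁻¹) * x = w; group)
      right_inv := fun w => Subtype.ext (by show x * (x⁻¹ * (w : G) * x) * x⁻¹ = w; group)
      map_mul' := fun v w => Subtype.ext (by
        show x * ((v : G) * (w : G)) * x⁻¹ = x * (v : G) * x⁻¹ * (x * (w : G) * x⁻¹); group) }
  have hmap : Z'.map φ.toMonoidHom = Z' := by
    rw [hZ', MonoidHom.map_zpowers]
    congr 1
    exact Subtype.ext (show x * z * x⁻¹ = z by rw [D.xz, mul_inv_cancel_right])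
  let ψ : Q ⧸ Z' ≃* Q ⧸ Z' := QuotientGroup.congr Z' Z' φ hmap
  have hψ : ∀ w : Q, ψ (w : Q ⧸ Z') = ((φ w : Q) : Q ⧸ Z') := fun w => rfl
  have hcard : Nat.card (Q ⧸ Z') = 16 := by
    have h := Z'.card_mul_index
    have h2 : Nat.card Z' = 2 := by rw [hZ', Nat.card_zpowers, ← Subgroup.orderOf_coe]; exact D.oz
    rw [h2, D.cardQ, index_eq_card] at h
    omega
  have h3 : ∀ w : Q ⧸ Z', ψ (ψ (ψ w)) = w := by
    intro w
    induction w using QuotientGroup.induction_on with
    | H w =>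
      rw [hψ, hψ, hψ]
      congr 1
      refine Subtype.ext ?_
      show x * (x * (x * (w : G) * x⁻¹) * x⁻¹) * x⁻¹ = w
      calc _ = (x * x * x) * (w : G) * (x * x * x)⁻¹ := by group
        _ = w := by rw [D.x3]; group
  have hfpf : ∀ w : Q ⧸ Z', ψ w = w → w = 1 := by
    intro w
    induction w using QuotientGroup.induction_on with
    | H w =>
      intro h
      rw [hψ, QuotientGroup.eq] at h
      rw [QuotientGroup.eq_one_iff]
      rcases (hZmem _).1 h with e | e
      · rcases D.fix_x w.2 (by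
          have e' : (x * (w : G) * x⁻¹)⁻¹ * w = 1 := e
          exact mul_inv_eq_iff_eq_mul.mp (inv_mul_eq_one.mp e')) with h1 | h1
        · exact (hZmem w).2 (Or.inl h1)
        · exact (hZmem w).2 (Or.inr h1)
      · exfalso
        have e' : (x * (w : G) * x⁻¹)⁻¹ * w = z := e
        have e1 : x * (w : G) * x⁻¹ = w * z := by
          have := inv_mul_eq_iff_eq_mul.mp e'
          calc x * (w : G) * x⁻¹ = x * (w : G) * x⁻¹ * (z * z) := by rw [D.zz, mul_one]
            _ = (x * (w : G) * x⁻¹ * z) * z := by group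
            _ = w * z := by rw [← this]
        have hxc : x * z * x⁻¹ = z := by rw [D.xz, mul_inv_cancel_right]
        have e3 : (w : G) = w * z * z * z := by
          calc (w : G) = (x * x * x) * (w : G) * (x * x * x)⁻¹ := by rw [D.x3]; group
            _ = x * (x * (x * (w : G) * x⁻¹) * x⁻¹) * x⁻¹ := by group
            _ = x * (x * ((w : G) * z) * x⁻¹) * x⁻¹ := by rw [e1]
            _ = x * ((x * (w : G) * x⁻¹) * (x * z * x⁻¹)) * x⁻¹ := by group
            _ = x * ((w : G) * z * z) * x⁻¹ := by rw [e1, hxc]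
            _ = (x * (w : G) * x⁻¹) * (x * z * x⁻¹) * (x * z * x⁻¹) := by group
            _ = _ := by rw [e1, hxc]
        rw [mul_assoc (w : G), D.zz, mul_one] at e3
        exact D.z_ne (mul_eq_left.mp e3.symm)
  have hc := comm_of_fpf hcard ψ h3 hfpf ((⟨p, hp⟩ : Q) : Q ⧸ Z') ((⟨q, hq⟩ : Q) : Q ⧸ Z')
  have : (⟨p, hp⟩ : Q) * ⟨q, hq⟩ * (⟨p, hp⟩ : Q)⁻¹ * (⟨q, hq⟩ : Q)⁻¹ ∈ Z' := by
    rw [← QuotientGroup.eq_one_iff]
    simp only [QuotientGroup.mk_mul, QuotientGroup.mk_inv]
    rw [hc]; group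
  exact (hZmem _).1 this

theorem sq_central {p q : G} (hp : p ∈ Q) (hq : q ∈ Q) : p * (q * q) = q * q * p := by
  have hc := D.comm_mem hp hq
  set c := p * q * p⁻¹ * q⁻¹ with hcdef
  have e : p * q * p⁻¹ = c * q := by rw [hcdef]; group
  have hcq : c * q = q * c := by
    rcases hc with h | h <;> rw [h]
    · simp
    · exact (D.leC q hq).symm
  have hc2 : c * c = 1 := by
    rcases hc with h | h <;> rw [h]
    · simp
    · exact D.zz
  calc p * (q * q) = (p * q * p⁻¹) * (p * q * p⁻¹) * p := by group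
    _ = c * (q * c) * q * p := by rw [e]; group
    _ = c * (c * q) * q * p := by rw [← hcq]
    _ = c * c * (q * q) * p := by group
    _ = q * q * p := by rw [hc2, one_mul]

/-- An element outside the core centralises few pairs of conjugate elements. -/
theorem key {e u : G} (he : e ∈ S) (heQ : e ∉ Q) (hu : u ∈ Q) (h1 : e * u = u * e)
    (h2 : e * (x⁻¹ * u * x) = x⁻¹ * u * x * e) : u = 1 ∨ u = z := by
  obtain ⟨g96, g32⟩ := D.comm3 e he heQ
  set g := e * x * e⁻¹ * x⁻¹ with hg
  have hg1 : Commute (x * e⁻¹ * x⁻¹) u := by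
    have h : Commute e⁻¹ (x⁻¹ * u * x) := Commute.inv_left h2
    show x * e⁻¹ * x⁻¹ * u = u * (x * e⁻¹ * x⁻¹)
    calc x * e⁻¹ * x⁻¹ * u = x * (e⁻¹ * (x⁻¹ * u * x)) * x⁻¹ := by group
      _ = x * (x⁻¹ * u * x * e⁻¹) * x⁻¹ := by rw [h.eq]
      _ = _ := by group
  have hgu : Commute g u := by
    have : g = e * (x * e⁻¹ * x⁻¹) := by rw [hg]; group
    rw [this]
    exact Commute.mul_left h1 hg1
  have hgz : Commute g z := by
    have hxz : Commute x z := D.xz
    have hez : Commute e z := D.SC e he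
    exact ((hez.mul_left hxz).mul_left hez.inv_left).mul_left hxz.inv_left
  refine D.fix (g ^ 32) (orderOf_eq_prime ?_ fun h => g32 (by rw [h]; exact Q.one_mem)) (hgz.pow_left 32).eq u hu
    (hgu.pow_left 32).eq
  rw [← pow_mul]; exact g96

theorem z_not_sq {u : G} (hu : u ∈ Q) (hc : u * (x * u * x⁻¹) = x * u * x⁻¹ * u) : u * u ≠ z := by
  intro hsq
  set v := x * u * x⁻¹ with hv
  set w := x * v * x⁻¹ with hw
  have hxw : x * w * x⁻¹ = u := by
    rw [hw, hv]
    calc _ = (x * x * x) * u * (x * x * x)⁻¹ := by group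
      _ = u := by rw [D.x3]; group
  have c1 : Commute u v := hc
  have hx : ∀ {p q : G}, Commute p q → Commute (x * p * x⁻¹) (x * q * x⁻¹) := fun {p q} h =>
    show _ = _ by
      calc x * p * x⁻¹ * (x * q * x⁻¹) = x * (p * q) * x⁻¹ := by group
        _ = x * (q * p) * x⁻¹ := by rw [h.eq]
        _ = _ := by group
  have c2 : Commute v w := hx c1
  have c3 : Commute w u := hxw ▸ hx c2
  have hfix : x * (u * v * w) = u * v * w * x := by
    apply mul_inv_eq_iff_eq_mul.mp
    calc x * (u * v * w) * x⁻¹ = (x * u * x⁻¹) * (x * v * x⁻¹) * (x * w * x⁻¹) := by group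
      _ = v * w * u := by rw [hxw, ← hv, ← hw]
      _ = u * v * w := (c1.mul_right c3.symm).eq.symm.trans (mul_assoc u v w).symm
  have hvz : v * v = z := by
    calc v * v = x * (u * u) * x⁻¹ := by rw [hv]; group
      _ = z := by rw [hsq, D.xz, mul_inv_cancel_right]
  have hwz : w * w = z := by
    calc w * w = x * (v * v) * x⁻¹ := by rw [hw]; group
      _ = z := by rw [hvz, D.xz, mul_inv_cancel_right]
  have hprod : (u * v * w) * (u * v * w) = z := by
    rw [← pow_two, (c3.symm.mul_left c2).mul_pow, c1.mul_pow, pow_two, pow_two, pow_two, hsq, hvz, hwz, D.zz, one_mul]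
  rcases D.fix_x (mul_mem (mul_mem hu (D.conjx_mem hu)) (D.conjx_mem (D.conjx_mem hu))) hfix with h | h <;>
    rw [h] at hprod
  · rw [one_mul] at hprod; exact D.z_ne hprod.symm
  · rw [D.zz] at hprod; exact D.z_ne hprod.symm

theorem cc_S {v : G} (hv : ∀ s ∈ S, s * v = v * s) : 64 ∣ cc v := by
  rw [← D.cardS]
  exact card_dvd_of_le fun s hs => mem_centralizer_singleton_iff.mpr (hv s hs)

theorem cc_Q {v : G} (hv : ∀ s ∈ Q, s * v = v * s) : 32 ∣ cc v := by
  rw [← D.cardQ]
  exact card_dvd_of_le fun s hs => mem_centralizer_singleton_iff.mpr (hv s hs)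

/-- An involution central in the Sylow subgroup is the image of `z` under its normaliser. -/
theorem exists_tau (hG : IsM12 G) {a : G} (Sh : Shape16 a) (ha : orderOf a = 11) {v : G} (hv : orderOf v = 2)
    (hvS : ∀ s ∈ S, s * v = v * s) :
    ∃ τ : G, τ * z * τ⁻¹ = v ∧ ∀ s, s ∈ S ↔ τ * s * τ⁻¹ ∈ S := by
  haveI : Fact (Nat.Prime 2) := ⟨Nat.prime_two⟩
  obtain ⟨g, hg⟩ := isConj_iff.mp (central_conj Sh hG ha D.oz (D.cc_S fun s hs => D.SC s hs) hv (D.cc_S hvS))
  set C := centralizer ({v} : Set G) with hC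
  have hS : S ≤ C := fun s hs => mem_centralizer_singleton_iff.mpr (hvS s hs)
  set S' := S.map (MulAut.conj g).toMonoidHom with hS'
  have hS'C : S' ≤ C := by
    rintro _ ⟨s, hs, rfl⟩
    refine mem_centralizer_singleton_iff.mpr ?_
    show g * s * g⁻¹ * v = v * (g * s * g⁻¹)
    rw [← hg]
    calc g * s * g⁻¹ * (g * z * g⁻¹) = g * (s * z) * g⁻¹ := by group
      _ = g * (z * s) * g⁻¹ := by rw [D.SC s hs]
      _ = _ := by group
  have hC192 : Nat.card C = 192 := (central_values Sh hG ha hv (D.cc_S hvS)).1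
  have hf : Nat.factorization 192 2 = 6 :=
    CfsgLib.Order7920.fac_eq Nat.prime_two (by norm_num) (by norm_num) (by norm_num)
  have h1 : Nat.card (S.subgroupOf C) = 2 ^ (Nat.card C).factorization 2 := by
    rw [Nat.card_congr (subgroupOfEquivOfLe hS).toEquiv, hC192, hf, D.cardS]; norm_num
  have h2 : Nat.card (S'.subgroupOf C) = 2 ^ (Nat.card C).factorization 2 := by
    rw [Nat.card_congr (subgroupOfEquivOfLe hS'C).toEquiv, hC192, hf,
      card_map_of_injective (MulAut.conj g).injective, D.cardS]; norm_num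
  obtain ⟨c, hc⟩ := MulAction.exists_smul_eq C (Sylow.ofCard _ h2) (Sylow.ofCard _ h1)
  have hc' : ∀ s : G, s ∈ S' → (c : G) * s * (c : G)⁻¹ ∈ S := by
    intro s hs
    have hm : c * ⟨s, hS'C hs⟩ * c⁻¹ ∈ ((Sylow.ofCard _ h1 : Sylow 2 C) : Subgroup C) := by
      rw [← hc]
      exact ⟨⟨s, hS'C hs⟩, hs, rfl⟩
    exact hm
  have hfwd : ∀ s ∈ S, (c : G) * g * s * ((c : G) * g)⁻¹ ∈ S := fun s hs => by
    have := hc' _ ⟨s, hs, rfl⟩
    rwa [show (c : G) * g * s * ((c : G) * g)⁻¹ = (c : G) * (g * s * g⁻¹) * (c : G)⁻¹ by group]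
  have hmap : S.map (MulAut.conj ((c : G) * g)).toMonoidHom = S := by
    refine eq_of_le_of_card_ge ?_ (le_of_eq (card_map_of_injective (MulAut.conj _).injective).symm)
    rintro _ ⟨s, hs, rfl⟩
    exact hfwd s hs
  refine ⟨(c : G) * g, ?_, fun s => ⟨hfwd s, fun h => ?_⟩⟩
  · calc (c : G) * g * z * ((c : G) * g)⁻¹ = (c : G) * (g * z * g⁻¹) * (c : G)⁻¹ := by group
      _ = (c : G) * v * (c : G)⁻¹ := by rw [hg]
      _ = v := mul_inv_eq_iff_eq_mul.mpr (mem_centralizer_singleton_iff.mp c.2)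
  · rw [← hmap] at h
    obtain ⟨t, ht, e⟩ := h
    exact (MulAut.conj ((c : G) * g)).injective e ▸ ht

omit D in
/-- Two subgroups of index two meet in a subgroup of index at most four. -/
theorem exists_big {R R' L : Subgroup G} (hR : R.relIndex L ≤ 2) (hR' : R'.relIndex L ≤ 2) :
    Nat.card L ≤ 4 * Nat.card (R ⊓ R' ⊓ L : Subgroup G) := by
  have h1 := relIndex_inf_le (H := R) (K := R') (L := L)
  have h2 := ((R ⊓ R').subgroupOf L).card_mul_index
  have h3 : (R ⊓ R').relIndex L ≤ 4 := h1.trans (Nat.mul_le_mul hR hR')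
  rw [← inf_subgroupOf_right, Nat.card_congr (subgroupOfEquivOfLe (inf_le_right : R ⊓ R' ⊓ L ≤ L)).toEquiv,
    inf_subgroupOf_right] at h2
  rw [← h2, mul_comm]
  exact Nat.mul_le_mul_right _ h3

/-- No element outside the core centralises a subgroup of index two. -/
theorem no_big {e : G} (he : e ∈ S) (heQ : e ∉ Q) {R : Subgroup G} (hRQ : R ≤ Q) (hR : 16 ≤ Nat.card R)
    (hc : ∀ r ∈ R, e * r = r * e) : False := by
  classical
  set R' := R.map (MulAut.conj x).toMonoidHom with hR'def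
  have hR'Q : R' ≤ Q := by
    rintro _ ⟨r, hr, rfl⟩
    exact D.conjx_mem (hRQ hr)
  have hidx : ∀ T : Subgroup G, T ≤ Q → 16 ≤ Nat.card T → T.relIndex Q ≤ 2 := fun T hT h16 => by
    have h := (T.subgroupOf Q).card_mul_index
    rw [Nat.card_congr (subgroupOfEquivOfLe hT).toEquiv, D.cardQ] at h
    show (T.subgroupOf Q).index ≤ 2
    nlinarith
  have hbig := exists_big (hidx R hRQ hR) (hidx R' hR'Q (by
    rw [card_map_of_injective (MulAut.conj x).injective]; exact hR))
  rw [D.cardQ] at hbig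
  haveI := Fintype.ofFinite (R ⊓ R' ⊓ Q : Subgroup G)
  have hall : ∀ u : (R ⊓ R' ⊓ Q : Subgroup G), (u : G) = 1 ∨ (u : G) = z := fun u => by
    obtain ⟨⟨hu1, hu2⟩, hu3⟩ := mem_inf.mp u.2 |>.imp_left mem_inf.mp
    obtain ⟨r, hr, hr'⟩ := hu2
    refine D.key he heQ hu3 (hc _ hu1) ?_
    have : x⁻¹ * (u : G) * x = r := by
      rw [← hr']; show x⁻¹ * (x * r * x⁻¹) * x = r; group
    rw [this]; exact hc r hr
  have hle : Nat.card (R ⊓ R' ⊓ Q : Subgroup G) ≤ 2 := by
    rw [← Fintype.card_bool, ← Nat.card_eq_fintype_card]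
    refine Nat.card_le_card_of_injective (fun u => decide ((u : G) = z)) fun u w h => Subtype.ext ?_
    simp only [decide_eq_decide] at h
    rcases hall u with a | a <;> rcases hall w with b | b <;> rw [a, b] at h ⊢
    · exact absurd (h.mpr rfl).symm D.z_ne
    · exact absurd (h.mp rfl).symm D.z_ne
  omega

theorem tau_inv {τ : G} (hτ : ∀ s, s ∈ S ↔ τ * s * τ⁻¹ ∈ S) {s : G} (hs : s ∈ S) : τ⁻¹ * s * τ ∈ S := by
  refine (hτ _).2 ?_
  rwa [show τ * (τ⁻¹ * s * τ) * τ⁻¹ = s by group]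

omit D in
/-- A finite subgroup mapped into itself by a conjugation is fixed by it. -/
theorem inv_of_le {τ : G} {H : Subgroup G} (h : ∀ q ∈ H, τ * q * τ⁻¹ ∈ H) {q : G} (hq : q ∈ H) :
    τ⁻¹ * q * τ ∈ H := by
  have hmap : H.map (MulAut.conj τ).toMonoidHom = H := by
    refine eq_of_le_of_card_ge ?_ (le_of_eq (card_map_of_injective (MulAut.conj _).injective).symm)
    rintro _ ⟨t, ht, rfl⟩
    exact h t ht
  rw [← hmap] at hq
  obtain ⟨t, ht, rfl⟩ := hq
  show τ⁻¹ * (τ * t * τ⁻¹) * τ ∈ H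
  rwa [show τ⁻¹ * (τ * t * τ⁻¹) * τ = t by group]

/-- The core is moved: an element of the image outside it and their intersection. -/
theorem moved {τ : G} (hτ : ∀ s, s ∈ S ↔ τ * s * τ⁻¹ ∈ S) (hne : ¬ ∀ q ∈ Q, τ * q * τ⁻¹ ∈ Q) :
    (∃ e ∈ Q, τ * e * τ⁻¹ ∈ S ∧ τ * e * τ⁻¹ ∉ Q) ∧
      Nat.card (Q ⊓ Q.map (MulAut.conj τ).toMonoidHom : Subgroup G) ≥ 16 := by
  push Not at hne
  obtain ⟨e, he, he'⟩ := hne
  refine ⟨⟨e, he, (hτ e).1 (D.QS he), he'⟩, ?_⟩
  set Q' := Q.map (MulAut.conj τ).toMonoidHom with hQ'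
  have hQ'S : Q' ≤ S := by
    rintro _ ⟨q, hq, rfl⟩
    exact (hτ q).1 (D.QS hq)
  have hidx : ∀ T : Subgroup G, T ≤ S → Nat.card T = 32 → T.relIndex S ≤ 2 := fun T hT h => by
    have h' := (T.subgroupOf S).card_mul_index
    rw [Nat.card_congr (subgroupOfEquivOfLe hT).toEquiv, h, D.cardS] at h'
    show (T.subgroupOf S).index ≤ 2
    omega
  have := exists_big (hidx Q D.QS D.cardQ) (hidx Q' hQ'S (by
    rw [card_map_of_injective (MulAut.conj τ).injective, D.cardQ]))
  rw [D.cardS, inf_eq_left.mpr (inf_le_left.trans D.QS)] at this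
  omega

end CentData

end CfsgSimpleM12
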