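/-
The centre and the squares of the 2-core.
-/
import Cfsg.Agent.Lib.SimpleM12.Extra

set_option autoImplicit false
set_option linter.style.haveILetI false
set_option linter.unusedSectionVars false

namespace CfsgSimpleM12

open Cfsg CfsgLib.CharTheory Subgroup CfsgSimpleM11

universe u
variable {G : Type u} [Group G] [Fintype G]

namespace CentData

variable {z x j : G} {Q S : Subgroup G} (D : CentData z x j Q S)
include D

theorem no_shift {q : G} (h : x * q * x⁻¹ = q * z) : False := by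
  have hxc : x * z * x⁻¹ = z := by rw [D.xz, mul_inv_cancel_right]
  have e3 : q = q * z * z * z := by
    calc q = (x * x * x) * q * (x * x * x)⁻¹ := by rw [D.x3]; group
      _ = x * (x * (x * q * x⁻¹) * x⁻¹) * x⁻¹ := by group
      _ = x * (x * (q * z) * x⁻¹) * x⁻¹ := by rw [h]
      _ = x * ((x * q * x⁻¹) * (x * z * x⁻¹)) * x⁻¹ := by group
      _ = x * (q * z * z) * x⁻¹ := by rw [h, hxc]
      _ = (x * q * x⁻¹) * (x * z * x⁻¹) * (x * z * x⁻¹) := by group
      _ = _ := by rw [h, hxc]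
  rw [mul_assoc q, D.zz, mul_one] at e3
  exact D.z_ne (mul_eq_left.mp e3.symm)

theorem fix_mod {q : G} (hq : q ∈ Q) (h : x * q * x⁻¹ = q ∨ x * q * x⁻¹ = q * z) : q = 1 ∨ q = z := by
  rcases h with h | h
  · exact D.fix_x hq (mul_inv_eq_iff_eq_mul.mp h)
  · exact (D.no_shift h).elim

/-- A subgroup stable under `x` has its order congruent to the number of fixed points. -/
theorem card_mod (T : Subgroup G) (hT : T ≤ Q) (hx : ∀ t ∈ T, x * t * x⁻¹ ∈ T) :
    (z ∈ T → Nat.card T % 3 = 2) ∧ (z ∉ T → Nat.card T % 3 = 1) := by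
  classical
  haveI := Fintype.ofFinite T
  have hx' : ∀ t ∈ T, x⁻¹ * t * x ∈ T := fun t ht => inv_of_le hx ht
  let σ : Equiv.Perm T :=
    { toFun := fun t => ⟨x * t * x⁻¹, hx t t.2⟩
      invFun := fun t => ⟨x⁻¹ * t * x, hx' t t.2⟩
      left_inv := fun t => Subtype.ext (by show x⁻¹ * (x * (t : G) * x⁻¹) * x = t; group)
      right_inv := fun t => Subtype.ext (by show x * (x⁻¹ * (t : G) * x) * x⁻¹ = t; group) }
  have h := fixed_mod_three σ fun t => Subtype.ext (by
    show x * (x * (x * (t : G) * x⁻¹) * x⁻¹) * x⁻¹ = t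
    calc _ = (x * x * x) * (t : G) * (x * x * x)⁻¹ := by group
      _ = t := by rw [D.x3]; group)
  rw [← Nat.card_eq_fintype_card] at h
  have hmem : ∀ t : T, σ t = t ↔ (t : G) = 1 ∨ (t : G) = z := fun t => by
    constructor
    · intro ht
      exact D.fix_mod (hT t.2) (Or.inl (congrArg Subtype.val ht))
    · rintro (e | e) <;> apply Subtype.ext <;> show x * (t : G) * x⁻¹ = t <;> rw [e]
      · group
      · rw [D.xz, mul_inv_cancel_right]
  constructor <;> intro hz
  · have : (Finset.univ.filter fun t => σ t = t) = {(1 : T), ⟨z, hz⟩} := by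
      ext t
      simp only [Finset.mem_filter, Finset.mem_univ, true_and, hmem, Finset.mem_insert, Finset.mem_singleton,
        Subtype.ext_iff, OneMemClass.coe_one]
    rw [this, Finset.card_pair (fun e => D.z_ne (congrArg Subtype.val e).symm)] at h
    exact h.symm
  · have : (Finset.univ.filter fun t => σ t = t) = {(1 : T)} := by
      ext t
      simp only [Finset.mem_filter, Finset.mem_univ, true_and, hmem, Finset.mem_singleton,
        Subtype.ext_iff, OneMemClass.coe_one, or_iff_left_iff_imp]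
      intro e; exact absurd (e ▸ t.2) hz
    rw [this, Finset.card_singleton] at h
    exact h.symm

theorem exists_outside : ∃ e ∈ S, e ∉ Q := by
  by_contra h
  push Not at h
  have := Nat.le_of_dvd Nat.card_pos (card_dvd_of_le (h : S ≤ Q))
  rw [D.cardS, D.cardQ] at this
  omega

theorem index_two : (Q.subgroupOf S).index = 2 := by
  have h := (Q.subgroupOf S).card_mul_index
  rw [Nat.card_congr (subgroupOfEquivOfLe D.QS).toEquiv, D.cardQ, D.cardS] at h
  omega

theorem sq_mem {e : G} (he : e ∈ S) : e * e ∈ Q :=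
  mem_subgroupOf.mp (mul_self_mem_of_index_two D.index_two ⟨e, he⟩)

theorem commute_S {e : G} (he : e ∈ S) (heQ : e ∉ Q) {v : G} (hv : ∀ q ∈ Q, q * v = v * q)
    (hev : e * v = v * e) : ∀ s ∈ S, s * v = v * s := by
  intro s hs
  by_cases hsQ : s ∈ Q
  · exact hv s hsQ
  · have h := (mul_mem_iff_of_index_two D.index_two (a := (⟨e, he⟩ : S)⁻¹) (b := ⟨s, hs⟩)).mpr
      ⟨fun h => absurd (by simpa [mem_subgroupOf] using h) heQ, fun h => absurd (mem_subgroupOf.mp h) hsQ⟩
    have h' : e⁻¹ * s ∈ Q := mem_subgroupOf.mp h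
    have := (show Commute e v from hev).mul_left (hv _ h')
    rwa [mul_inv_cancel_left] at this

/-- A fixed point produced from a central element of order two. -/
theorem fixed_of {e u : G} (he : e ∈ S) (huc : ∀ q ∈ Q, q * u = u * q) (hu : u ∈ Q) :
    e * (u * (e * u * e⁻¹)) = u * (e * u * e⁻¹) * e := by
  have hee := huc (e * e) (D.sq_mem he)
  have heu : e * u * e⁻¹ ∈ Q := D.normQ e (D.SC e he) u hu
  apply mul_inv_eq_iff_eq_mul.mp
  calc e * (u * (e * u * e⁻¹)) * e⁻¹ = (e * u * e⁻¹) * ((e * e) * u * (e * e)⁻¹) := by group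
    _ = (e * u * e⁻¹) * u := by rw [hee, mul_inv_cancel_right]
    _ = _ := huc _ heu

/-- A central involution of the core is impossible. -/
theorem no_second (hG : IsM12 G) {a : G} (Sh : Shape16 a) (ha : orderOf a = 11) {v : G} (hvQ : v ∈ Q)
    (hv2 : v * v = 1) (hv1 : v ≠ 1) (hvz : v ≠ z) (hvS : ∀ s ∈ S, s * v = v * s)
    (hfixed : ∀ τ : G, τ * z * τ⁻¹ = v → (∀ q ∈ Q, τ * q * τ⁻¹ ∈ Q) → False)
    (hmoved : ∀ τ : G, (∀ s, s ∈ S ↔ τ * s * τ⁻¹ ∈ S) → τ * z * τ⁻¹ = v → (∃ q ∈ Q, τ * q * τ⁻¹ ∉ Q) → False) :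
    False := by
  haveI : Fact (Nat.Prime 2) := ⟨Nat.prime_two⟩
  have ho : orderOf v = 2 := orderOf_eq_prime (by rw [pow_two, hv2]) hv1
  obtain ⟨τ, hτ, hτS⟩ := D.exists_tau hG Sh ha ho hvS
  by_cases h : ∀ q ∈ Q, τ * q * τ⁻¹ ∈ Q
  · exact hfixed τ hτ h
  · push Not at h
    exact hmoved τ hτS hτ h

theorem not_elementary (hG : IsM12 G) {a : G} (Sh : Shape16 a) (ha : orderOf a = 11)
    (hab : ∀ p ∈ Q, ∀ q ∈ Q, p * q = q * p) (hsq : ∀ q ∈ Q, q * q = 1) : False := by
  classical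
  haveI : Fact (Nat.Prime 2) := ⟨Nat.prime_two⟩
  have h64 := D.cc_S fun s hs => D.SC s hs
  have hz := central_values Sh hG ha D.oz h64
  have hval : ∀ q : Q, q ≠ 1 → (Sh.ch 2 : G → ℂ) q = 6 := by
    intro q hq
    have hq1 : (q : G) ≠ 1 := fun e => hq (Subtype.ext e)
    have ho : orderOf (q : G) = 2 := orderOf_eq_prime (by rw [pow_two, hsq q q.2]) hq1
    by_cases hc : IsConj z (q : G)
    · rw [← CfsgSimpleM11.irr_of_isConj (Sh.ch 2) hc, hz.2.1.val 2]; simp
    · have h16 : 16 ∣ cc (q : G) :=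
        (show 16 ∣ 32 by norm_num).trans (D.cc_Q fun s hs => hab s hs q q.2)
      rcases outer_values Sh hG ha D.oz h64 ho h16 hc with h | h <;> rw [h.val 2] <;> simp
  haveI := Fintype.ofFinite Q
  obtain ⟨m, hm⟩ := sum_subgroup (isCharacter_of_irr (Sh.ch 2).2) Q
  have hd : charDegree (Sh.ch 2 : G → ℂ) = 54 := Sh.dg_eq 2
  rw [← Finset.add_sum_erase _ _ (Finset.mem_univ (1 : Q)), OneMemClass.coe_one, irr_degree, hd,
    Finset.sum_congr rfl (fun q hq => hval q (Finset.mem_erase.1 hq).1), Finset.sum_const,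
    Finset.card_erase_of_mem (Finset.mem_univ _), Finset.card_univ, ← Nat.card_eq_fintype_card, D.cardQ] at hm
  have h2 : ((240 : ℤ) : ℂ) = ((32 * m : ℤ) : ℂ) := by
    rw [nsmul_eq_mul] at hm
    norm_num at hm ⊢
    linear_combination hm
  have : (240 : ℤ) = 32 * m := by exact_mod_cast h2
  omega

theorem not_abelian (hG : IsM12 G) {a : G} (Sh : Shape16 a) (ha : orderOf a = 11)
    (hab : ∀ p ∈ Q, ∀ q ∈ Q, p * q = q * p) : False := by
  classical
  by_cases hsq : ∀ q ∈ Q, q * q = 1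
  · exact D.not_elementary hG Sh ha hab hsq
  push Not at hsq
  obtain ⟨q0, hq0, hq0'⟩ := hsq
  obtain ⟨e, he, heQ⟩ := D.exists_outside
  -- an involution among the squares
  obtain ⟨w, hw, hw1, hw2⟩ : ∃ w ∈ Q, w * w ≠ 1 ∧ (w * w) * (w * w) = 1 := by
    haveI : Fact (Nat.Prime 2) := ⟨Nat.prime_two⟩
    have h32 : q0 ^ 32 = 1 := orderOf_dvd_iff_pow_eq_one.mp (D.cardQ ▸ Subgroup.orderOf_dvd_natCard Q hq0)
    obtain ⟨m, hm, hmo⟩ := (Nat.dvd_prime_pow Nat.prime_two).mp
      (show orderOf q0 ∣ 2 ^ 5 from orderOf_dvd_of_pow_eq_one (by norm_num; exact h32))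
    have h2 : 2 ≤ m := by
      by_contra hlt
      apply hq0'
      rw [← pow_two]
      exact orderOf_dvd_iff_pow_eq_one.mp (hmo ▸ (pow_dvd_pow 2 (show m ≤ 1 by omega)).trans (by norm_num))
    refine ⟨q0 ^ 2 ^ (m - 2), pow_mem hq0 _, ?_, ?_⟩
    · rw [← pow_add, ← two_mul, ← pow_succ', show m - 2 + 1 = m - 1 by omega]
      intro h
      have := orderOf_dvd_of_pow_eq_one h
      rw [hmo, Nat.pow_dvd_pow_iff_le_right (by norm_num)] at this
      omega
    · rw [← pow_add, ← two_mul, ← pow_succ', ← pow_add, ← two_mul, ← pow_succ',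
        show m - 2 + 1 + 1 = m by omega, ← hmo, pow_orderOf_eq_one]
  set u := w * w with hu
  have huQ : u ∈ Q := mul_mem hw hw
  have hec : e * w * e⁻¹ ∈ Q := D.normQ e (D.SC e he) w hw
  obtain ⟨v, hvQ, hv1, hv2, hev, r, hr, hrv⟩ : ∃ v ∈ Q, v ≠ 1 ∧ v * v = 1 ∧ e * v = v * e ∧
      ∃ r ∈ Q, r * r = v := by
    by_cases h : u * (e * u * e⁻¹) = 1
    · refine ⟨u, huQ, hw1, hw2, ?_, w, hw, rfl⟩
      exact mul_inv_eq_iff_eq_mul.mp ((eq_inv_of_mul_eq_one_right h).trans (inv_eq_of_mul_eq_one_right hw2))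
    · have heu : e * u * e⁻¹ ∈ Q := D.normQ e (D.SC e he) u huQ
      refine ⟨_, mul_mem huQ heu, h, ?_, D.fixed_of he (fun q hq => hab q hq u huQ) huQ, w * (e * w * e⁻¹),
        mul_mem hw hec, ?_⟩
      · rw [← pow_two, (show Commute u (e * u * e⁻¹) from hab u huQ _ heu).mul_pow, pow_two, hw2, one_mul, conj_pow,
          pow_two, hw2]
        group
      · rw [← pow_two, (show Commute w (e * w * e⁻¹) from hab w hw _ hec).mul_pow, pow_two, ← hu, conj_pow, pow_two,
          ← hu]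
  have hnz : ∀ t ∈ Q, t * t ≠ z := fun t ht => D.z_not_sq ht (hab t ht _ (D.conjx_mem ht))
  refine D.no_second hG Sh ha hvQ hv2 hv1 (fun h => hnz r hr (hrv.trans h))
    (D.commute_S he heQ (fun q hq => hab q hq v hvQ) hev) (fun τ hτ h => ?_) fun τ hτS hτ ⟨q, hq, hq'⟩ => ?_
  · refine hnz (τ⁻¹ * r * τ) (inv_of_le h hr) ?_
    calc τ⁻¹ * r * τ * (τ⁻¹ * r * τ) = τ⁻¹ * (r * r) * τ := by group
      _ = z := by rw [hrv, ← hτ]; group
  · obtain ⟨-, h16⟩ := D.moved hτS (fun h => hq' (h q hq))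
    refine D.no_big ((hτS q).1 (D.QS hq)) hq' inf_le_left h16 fun t ht => ?_
    obtain ⟨t', ht', rfl⟩ := (mem_inf.mp ht).2
    show τ * q * τ⁻¹ * (τ * t' * τ⁻¹) = τ * t' * τ⁻¹ * (τ * q * τ⁻¹)
    calc τ * q * τ⁻¹ * (τ * t' * τ⁻¹) = τ * (q * t') * τ⁻¹ := by group
      _ = τ * (t' * q) * τ⁻¹ := by rw [hab q hq t' ht']
      _ = _ := by group

/-- The centre of the core. -/
theorem core_center (hG : IsM12 G) {a : G} (Sh : Shape16 a) (ha : orderOf a = 11) {u : G} (hu : u ∈ Q)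
    (huc : ∀ p ∈ Q, p * u = u * p) : u = 1 ∨ u = z := by
  classical
  by_contra hne
  push Not at hne
  obtain ⟨hu1, huz⟩ := hne
  set Z : Subgroup G := Q ⊓ centralizer (Q : Set G) with hZdef
  have hZ : ∀ t, t ∈ Z ↔ t ∈ Q ∧ ∀ p ∈ Q, p * t = t * p := fun t => by
    rw [hZdef, mem_inf, mem_centralizer_iff]; rfl
  have hzZ : z ∈ Z := (hZ z).2 ⟨D.zQ, fun p hp => D.leC p hp⟩
  have hZn : ∀ c, c * z = z * c → ∀ t ∈ Z, c * t * c⁻¹ ∈ Z := fun c hc t ht => by
    obtain ⟨h1, h2⟩ := (hZ t).1 ht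
    refine (hZ _).2 ⟨D.normQ c hc t h1, fun p hp => ?_⟩
    have hci : c⁻¹ * z = z * c⁻¹ := ((show Commute c z from hc).inv_left).eq
    have hp' : c⁻¹ * p * c ∈ Q := by simpa using D.normQ c⁻¹ hci p hp
    calc p * (c * t * c⁻¹) = c * ((c⁻¹ * p * c) * t) * c⁻¹ := by group
      _ = c * (t * (c⁻¹ * p * c)) * c⁻¹ := by rw [h2 _ hp']
      _ = _ := by group
  have hZx := fun t (ht : t ∈ Z) => hZn x D.xz t ht
  have huZ : u ∈ Z := (hZ u).2 ⟨hu, huc⟩
  by_cases hab : ∀ p ∈ Q, ∀ q ∈ Q, p * q = q * p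
  · exact D.not_abelian hG Sh ha hab
  have hZQ : Z ≤ Q := inf_le_left
  have hd : Nat.card Z ∈ Nat.divisors 32 := Nat.mem_divisors.2 ⟨D.cardQ ▸ card_dvd_of_le hZQ, by norm_num⟩
  have hmod := (D.card_mod Z hZQ hZx).1 hzZ
  have hne2 : Nat.card Z ≠ 2 := fun h => by
    have hle : zpowers z ≤ Z := zpowers_le.mpr hzZ
    have he := eq_of_le_of_card_ge hle (by rw [h, Nat.card_zpowers, D.oz])
    have := he.ge huZ
    rw [mem_zpowers_iff_mem_range_orderOf, D.oz, Finset.mem_image] at this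
    obtain ⟨k, hk, hk'⟩ := this
    rw [Finset.mem_range] at hk
    interval_cases k
    · exact hu1 (by rw [← hk', pow_zero])
    · exact huz (by rw [← hk', pow_one])
  have hne32 : Nat.card Z ≠ 32 := fun h => by
    have he := eq_of_le_of_card_ge hZQ (by rw [h, D.cardQ])
    exact hab fun p hp q hq => ((hZ q).1 (he.ge hq)).2 p hp
  have key : ∀ m ∈ Nat.divisors 32, m % 3 = 2 → m ≠ 2 → m ≠ 32 → m = 8 := by decide +kernel
  have h8 : Nat.card Z = 8 := key _ hd hmod hne2 hne32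
  have hcomm : ∀ p ∈ Z, ∀ q ∈ Z, p * q = q * p := fun p hp q hq => ((hZ q).1 hq).2 p (hZQ hp)
  -- the centre is elementary
  have hel : ∀ t ∈ Z, t * t = 1 := by
    let f : Z →* G :=
      { toFun := fun t => (t : G) * t
        map_one' := by simp
        map_mul' := fun p q => by
          show (p : G) * q * ((p : G) * q) = (p : G) * p * ((q : G) * q)
          rw [mul_assoc, ← mul_assoc (q : G), hcomm q q.2 p p.2]; group }
    have hT : f.range ≤ Z := by rintro _ ⟨t, rfl⟩; exact mul_mem t.2 t.2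
    have hzT : z ∉ f.range := by
      rintro ⟨t, ht⟩
      exact D.z_not_sq (hZQ t.2) (hcomm t t.2 _ (hZx t t.2)) ht
    have h1 := (D.card_mod f.range (hT.trans hZQ) (by
      rintro _ ⟨t, rfl⟩
      exact ⟨⟨x * t * x⁻¹, hZx t t.2⟩,
        show x * (t : G) * x⁻¹ * (x * t * x⁻¹) = x * ((t : G) * t) * x⁻¹ by group⟩)).2 hzT
    have hk := f.ker.card_mul_index
    rw [index_ker, h8] at hk
    have hzk : (⟨z, hzZ⟩ : Z) ∈ f.ker := MonoidHom.mem_ker.mpr D.zz
    have hk1 : 1 < Nat.card f.ker :=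
      Finite.one_lt_card_iff_nontrivial.mpr
        ⟨⟨⟨1, one_mem _⟩, ⟨_, hzk⟩, fun e => D.z_ne (congrArg Subtype.val (congrArg Subtype.val e)).symm⟩⟩
    intro t ht
    by_contra hne
    have hr : 1 < Nat.card f.range :=
      Finite.one_lt_card_iff_nontrivial.mpr ⟨⟨1, ⟨t * t, ⟨t, ht⟩, rfl⟩, fun e => hne (congrArg Subtype.val e).symm⟩⟩
    have hrd : Nat.card f.range ∈ Nat.divisors 8 := Nat.mem_divisors.2 ⟨⟨_, hk.symm.trans (mul_comm _ _)⟩, by norm_num⟩
    have key : ∀ m ∈ Nat.divisors 8, m % 3 = 1 → 1 < m → m = 4 := by decide +kernel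
    have h4 := key _ hrd h1 hr
    rw [h4] at hk
    obtain ⟨w, hw, hwo⟩ := exists_order Nat.prime_two (show 2 ∣ Nat.card f.range by rw [h4]; norm_num)
    have hwk : (⟨w, hT hw⟩ : Z) ∈ f.ker := MonoidHom.mem_ker.mpr (by
      show w * w = 1; rw [← pow_two, ← hwo, pow_orderOf_eq_one])
    haveI := Fintype.ofFinite f.ker
    have h2 : Fintype.card f.ker = 2 := by rw [← Nat.card_eq_fintype_card]; omega
    have := Finset.two_lt_card.mpr ⟨(1 : f.ker), Finset.mem_univ _, ⟨_, hzk⟩, Finset.mem_univ _, ⟨_, hwk⟩,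
      Finset.mem_univ _, fun e => D.z_ne (congrArg (fun q : f.ker => ((q : Z) : G)) e).symm,
      fun e => by
        have : w = 1 := (congrArg (fun q : f.ker => ((q : Z) : G)) e).symm
        rw [this, orderOf_one] at hwo; norm_num at hwo,
      fun e => hzT (by rw [show z = w from congrArg (fun q : f.ker => ((q : Z) : G)) e]; exact hw)⟩
    rw [Finset.card_univ, h2] at this
    omega
  -- an element fixed by the Sylow subgroup
  obtain ⟨e, he, heQ⟩ := D.exists_outside
  obtain ⟨v, hvZ, hv1, hvz, hev⟩ : ∃ v ∈ Z, v ≠ 1 ∧ v ≠ z ∧ e * v = v * e := by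
    have key : ∀ t ∈ Z, t ≠ 1 → t ≠ z → (∃ v ∈ Z, v ≠ 1 ∧ v ≠ z ∧ e * v = v * e) ∨ e * t * e⁻¹ = t * z := by
      intro t ht h1 h2
      obtain ⟨htQ, htc⟩ := (hZ t).1 ht
      have hm := mul_mem ht (hZn e (D.SC e he) t ht)
      by_cases hA : t * (e * t * e⁻¹) = 1
      · left
        exact ⟨t, ht, h1, h2, mul_inv_eq_iff_eq_mul.mp
          ((eq_inv_of_mul_eq_one_right hA).trans (inv_eq_of_mul_eq_one_right (hel t ht)))⟩
      by_cases hB : t * (e * t * e⁻¹) = z
      · right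
        calc e * t * e⁻¹ = (t * t) * (e * t * e⁻¹) := by rw [hel t ht, one_mul]
          _ = t * z := by rw [mul_assoc, hB]
      · exact Or.inl ⟨_, hm, hA, hB, D.fixed_of he htc htQ⟩
    rcases key u huZ hu1 huz with h | h
    · exact h
    have hu' := hZx u huZ
    rcases key (x * u * x⁻¹) hu' (fun h' => hu1 (by simpa using h')) (fun h' => huz (by
        have hxc : x⁻¹ * z * x = z := by rw [mul_assoc, ← D.xz, inv_mul_cancel_left]
        rw [← hxc, ← h']; group)) with h2 | h2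
    · exact h2
    refine ⟨u * (x * u * x⁻¹), mul_mem huZ hu', fun h' => ?_, fun h' => ?_, ?_⟩
    · have e1 : x * u * x⁻¹ = u := (eq_inv_of_mul_eq_one_right h').trans (inv_eq_of_mul_eq_one_right (hel u huZ))
      rcases D.fix_mod hu (Or.inl e1) with h3 | h3
      · exact hu1 h3
      · exact huz h3
    · exact D.no_shift (show x * u * x⁻¹ = u * z by
        calc x * u * x⁻¹ = (u * u) * (x * u * x⁻¹) := by rw [hel u huZ, one_mul]
          _ = u * z := by rw [mul_assoc, h'])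
    · apply mul_inv_eq_iff_eq_mul.mp
      calc e * (u * (x * u * x⁻¹)) * e⁻¹ = (e * u * e⁻¹) * (e * (x * u * x⁻¹) * e⁻¹) := by group
        _ = (u * z) * ((x * u * x⁻¹) * z) := by rw [h, h2]
        _ = u * (z * (x * u * x⁻¹)) * z := by group
        _ = u * ((x * u * x⁻¹) * z) * z := by rw [(D.leC _ (hZQ hu')).symm]
        _ = u * (x * u * x⁻¹) * (z * z) := by group
        _ = _ := by rw [D.zz, mul_one]
  obtain ⟨hvQ, hvc⟩ := (hZ v).1 hvZ
  refine D.no_second hG Sh ha hvQ (hel v hvZ) hv1 hvz (D.commute_S he heQ hvc hev) (fun τ hτ h => ?_)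
    fun τ hτS hτ ⟨q, hq, hq'⟩ => ?_
  · push Not at hab
    obtain ⟨p, hp, q, hq, hpq⟩ := hab
    have hz' : p * q * p⁻¹ * q⁻¹ = z := (D.comm_mem hp hq).resolve_left fun h' => hpq (by
      calc p * q = (p * q * p⁻¹ * q⁻¹) * (q * p) := by group
        _ = q * p := by rw [h', one_mul])
    have hv' : (τ * p * τ⁻¹) * (τ * q * τ⁻¹) * (τ * p * τ⁻¹)⁻¹ * (τ * q * τ⁻¹)⁻¹ = v := by
      rw [← hτ, ← hz']; group
    rcases D.comm_mem (h p hp) (h q hq) with h' | h' <;> rw [hv'] at h'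
    · exact hv1 h'
    · exact hvz h'
  · obtain ⟨-, h16⟩ := D.moved hτS (fun h => hq' (h q hq))
    set R := Q ⊓ Q.map (MulAut.conj τ).toMonoidHom with hR
    have hZR : ∀ c ∈ Z, ∀ p ∈ Q, τ * c * τ⁻¹ * (τ * p * τ⁻¹) = τ * p * τ⁻¹ * (τ * c * τ⁻¹) := fun c hc p hp => by
      calc τ * c * τ⁻¹ * (τ * p * τ⁻¹) = τ * (c * p) * τ⁻¹ := by group
        _ = τ * (p * c) * τ⁻¹ := by rw [((hZ c).1 hc).2 p hp]
        _ = _ := by group
    by_cases hcQ : ∀ c ∈ Z, τ * c * τ⁻¹ ∈ Q
    swap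
    · push Not at hcQ
      obtain ⟨c, hc, hc'⟩ := hcQ
      refine D.no_big ((hτS c).1 (D.QS (hZQ hc))) hc' inf_le_left h16 fun t ht => ?_
      obtain ⟨t', ht', rfl⟩ := (mem_inf.mp ht).2
      exact hZR c hc t' ht'
    by_cases hcZ : ∀ c ∈ Z, τ * c * τ⁻¹ ∈ Z
    · have hback : ∀ t ∈ Z, ∃ c ∈ Z, τ * c * τ⁻¹ = t := fun t ht => ⟨τ⁻¹ * t * τ, inv_of_le hcZ ht, by group⟩
      obtain ⟨c, hc, rfl⟩ := hback u huZ
      obtain ⟨c', hc', e'⟩ := hback (x⁻¹ * (τ * c * τ⁻¹) * x) (inv_of_le hZx huZ)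
      rcases D.key ((hτS q).1 (D.QS hq)) hq' (hZQ huZ) (hZR c hc q hq).symm (by rw [← e']; exact (hZR c' hc' q hq).symm)
        with h' | h'
      · exact hu1 h'
      · exact huz h'
    push Not at hcZ
    obtain ⟨c, hc, hwZ⟩ := hcZ
    set w := τ * c * τ⁻¹ with hw
    have hwQ : w ∈ Q := hcQ c hc
    have hw2 : w * w = 1 := by
      calc w * w = τ * (c * c) * τ⁻¹ := by rw [hw]; group
        _ = 1 := by rw [hel c hc]; group
    set Cw := Q ⊓ centralizer ({w} : Set G) with hCw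
    set w' := x * w * x⁻¹ with hw'
    have hw'Q : w' ∈ Q := D.conjx_mem hwQ
    set w'' := x * w' * x⁻¹ with hw''
    have hw''Q : w'' ∈ Q := D.conjx_mem hw'Q
    have hxw : x * w'' * x⁻¹ = w := by
      rw [hw'', hw']
      calc _ = (x * x * x) * w * (x * x * x)⁻¹ := by group
        _ = w := by rw [D.x3]; group
    have hinv' : w' * w' = 1 := by
      calc w' * w' = x * (w * w) * x⁻¹ := by rw [hw']; group
        _ = 1 := by rw [hw2]; group
    have hinv'' : w'' * w'' = 1 := by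
      calc w'' * w'' = x * (w' * w') * x⁻¹ := by rw [hw'']; group
        _ = 1 := by rw [hinv']; group
    have hm : w * w' * w'' = 1 ∨ w * w' * w'' = z := by
      have hmQ : w * w' * w'' ∈ Q := mul_mem (mul_mem hwQ hw'Q) hw''Q
      refine D.fix_mod hmQ ?_
      have e1 : x * (w * w' * w'') * x⁻¹ = w' * w'' * w := by
        calc _ = (x * w * x⁻¹) * (x * w' * x⁻¹) * (x * w'' * x⁻¹) := by group
          _ = _ := by rw [hxw, ← hw', ← hw'']
      rcases D.comm_mem (mul_mem hw'Q hw''Q) hwQ with h' | h'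
      · left
        rw [e1]
        calc w' * w'' * w = (w' * w'' * w * (w' * w'')⁻¹ * w⁻¹) * (w * w' * w'') := by group
          _ = _ := by rw [h', one_mul]
      · right
        rw [e1]
        calc w' * w'' * w = (w' * w'' * w * (w' * w'')⁻¹ * w⁻¹) * (w * w' * w'') := by group
          _ = z * (w * w' * w'') := by rw [h']
          _ = _ := (D.leC _ hmQ).symm
    have hww : w * w' * (w * w') = 1 := by
      have h1 : (w * w')⁻¹ * (w * w')⁻¹ = 1 := by
        rcases hm with h' | h'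
        · rw [show (w * w')⁻¹ = w'' from inv_eq_of_mul_eq_one_right h', hinv'']
        · have e2 : w'' = (w * w')⁻¹ * z := eq_inv_mul_iff_mul_eq.mpr h'
          have h3 := hinv''
          rw [e2] at h3
          calc (w * w')⁻¹ * (w * w')⁻¹ = (w * w')⁻¹ * (w * w')⁻¹ * (z * z) := by rw [D.zz, mul_one]
            _ = (w * w')⁻¹ * ((w * w')⁻¹ * z) * z := by group
            _ = (w * w')⁻¹ * (z * (w * w')⁻¹) * z := by rw [D.leC _ (inv_mem (mul_mem hwQ hw'Q))]
            _ = _ := by rw [← h3]; group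
      calc w * w' * (w * w') = ((w * w')⁻¹ * (w * w')⁻¹)⁻¹ := by group
        _ = 1 := by rw [h1, inv_one]
    have hcomm' : w' * w = w * w' := by
      calc w' * w = (w * w) * (w' * w) * (w' * w') := by rw [hw2, hinv', one_mul, mul_one]
        _ = w * (w * w' * (w * w')) * w' := by group
        _ = w * w' := by rw [hww, mul_one]
    have hZC : Z ≤ Cw := fun t ht => mem_inf.mpr
      ⟨hZQ ht, mem_centralizer_singleton_iff.mpr (((hZ t).1 ht).2 w hwQ).symm⟩
    have hwC : w ∈ Cw := mem_inf.mpr ⟨hwQ, mem_centralizer_singleton_iff.mpr rfl⟩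
    have hw'C : w' ∈ Cw := mem_inf.mpr ⟨hw'Q, mem_centralizer_singleton_iff.mpr hcomm'⟩
    have hCle : Nat.card Cw ≤ 16 := by
      have hd' : Nat.card Cw ∈ Nat.divisors 32 :=
        Nat.mem_divisors.2 ⟨D.cardQ ▸ card_dvd_of_le (inf_le_left : Cw ≤ Q), by norm_num⟩
      have hne : Nat.card Cw ≠ 32 := fun h' => hwZ ((hZ w).2 ⟨hwQ, fun p hp => mem_centralizer_singleton_iff.mp
        ((eq_of_le_of_card_ge (inf_le_left : Cw ≤ Q) (by rw [h', D.cardQ])).ge hp).2⟩)
      have key : ∀ m ∈ Nat.divisors 32, m ≠ 32 → m ≤ 16 := by decide +kernel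
      exact key _ hd' hne
    have hw'Z : w' ∉ Z := fun h' => hwZ (by
      have := inv_of_le hZx h'
      rwa [hw', show x⁻¹ * (x * w * x⁻¹) * x = w by group] at this)
    have hwwZ : w * w' ∉ Z := fun h' => hwZ (by
      have h2 : w'' ∈ Z := by
        rcases hm with h3 | h3
        · rw [← inv_eq_of_mul_eq_one_right h3]; exact inv_mem h'
        · rw [show w'' = (w * w')⁻¹ * z from eq_inv_mul_iff_mul_eq.mpr h3]; exact mul_mem (inv_mem h') hzZ
      rw [← hxw]; exact hZx _ h2)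
    let F : Option (Option Unit) × Z → Cw := fun p => match p.1 with
      | none => ⟨p.2, hZC p.2.2⟩
      | some none => ⟨w * p.2, mul_mem hwC (hZC p.2.2)⟩
      | some (some _) => ⟨w' * p.2, mul_mem hw'C (hZC p.2.2)⟩
    have hsep : ∀ (s t : G), s ∈ Z → t ∈ Z → w * s ≠ t ∧ w' * s ≠ t ∧ w * s ≠ w' * t := fun s t hs ht =>
      ⟨fun h' => hwZ (by rw [show w = t * s⁻¹ by rw [← h', mul_inv_cancel_right]]; exact mul_mem ht (inv_mem hs)),
       fun h' => hw'Z (by rw [show w' = t * s⁻¹ by rw [← h', mul_inv_cancel_right]]; exact mul_mem ht (inv_mem hs)),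
       fun h' => hwwZ (by
        have e2 : w * w' = s * t⁻¹ := by
          calc w * w' = w * (w' * t) * t⁻¹ := by group
            _ = w * (w * s) * t⁻¹ := by rw [h']
            _ = (w * w) * s * t⁻¹ := by group
            _ = _ := by rw [hw2, one_mul]
        rw [e2]; exact mul_mem hs (inv_mem ht))⟩
    have hF : Function.Injective F := by
      rintro ⟨i, s⟩ ⟨k, t⟩ h'
      have h'' := congrArg Subtype.val h'
      rcases i with _ | _ | ⟨⟩ <;> rcases k with _ | _ | ⟨⟩ <;> simp only [F] at h'' <;>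
        first
          | (rw [Subtype.ext h'']; done)
          | (rw [Subtype.ext (mul_left_cancel h'')]; done)
          | exact absurd h'' (hsep _ _ s.2 t.2).1
          | exact absurd h''.symm (hsep _ _ t.2 s.2).1
          | exact absurd h'' (hsep _ _ s.2 t.2).2.1
          | exact absurd h''.symm (hsep _ _ t.2 s.2).2.1
          | exact absurd h'' (hsep _ _ s.2 t.2).2.2
          | exact absurd h''.symm (hsep _ _ t.2 s.2).2.2
    have h24 := Nat.card_le_card_of_injective F hF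
    rw [Nat.card_prod, h8, Nat.card_eq_fintype_card, show Fintype.card (Option (Option Unit)) = 3 from rfl] at h24
    omega

/-- Squares in the core. -/
theorem core_sq (hG : IsM12 G) {a : G} (Sh : Shape16 a) (ha : orderOf a = 11) {q : G} (hq : q ∈ Q) :
    q * q = 1 ∨ q * q = z :=
  D.core_center hG Sh ha (mul_mem hq hq) fun _ hp => D.sq_central hp hq

end CentData

end CfsgSimpleM12
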