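/-
The central involution is not weakly closed in the core.
-/
import Cfsg.Agent.Lib.SimpleM12.Extraspecial
import Cfsg.Agent.Lib.QS3.Fusion

set_option autoImplicit false
set_option linter.style.haveILetI false
set_option linter.unusedSectionVars false

namespace CfsgSimpleM12

open Cfsg CfsgLib.CharTheory Subgroup CfsgSimpleM11 CfsgQS3

universe u
variable {G : Type u} [Group G] [Fintype G]

/-- The trivial multiplicity is monotone in the subgroup. -/
theorem sum_mono {F : G → ℂ} (hF : IsCharacter G F) {H K : Subgroup G} (hKH : K ≤ H) [Fintype H] [Fintype K] :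
    ∃ m m' : ℕ, m ≤ m' ∧ ∑ h : H, F h = (Nat.card H : ℂ) * m ∧ ∑ k : K, F k = (Nat.card K : ℂ) * m' := by
  classical
  obtain ⟨n, ρ, rfl⟩ := hF
  let σ : Representation ℂ H (Fin n → ℂ) := ρ.comp H.subtype
  let τ : Representation ℂ K (Fin n → ℂ) := ρ.comp K.subtype
  haveI : Invertible (Nat.card H : ℂ) := invertibleOfNonzero (Nat.cast_ne_zero.2 Nat.card_pos.ne')
  haveI : Invertible (Nat.card K : ℂ) := invertibleOfNonzero (Nat.cast_ne_zero.2 Nat.card_pos.ne')
  have h := σ.card_inv_mul_sum_char_eq_finrank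
  have h' := τ.card_inv_mul_sum_char_eq_finrank
  rw [inv_mul_eq_iff_eq_mul₀ (Nat.cast_ne_zero.2 Nat.card_pos.ne')] at h h'
  exact ⟨_, _, Submodule.finrank_mono (s := σ.invariants) (t := τ.invariants) fun v hv k => hv ⟨(k : G), hKH k.2⟩, h, h'⟩

/-- The orbit representative of a code of the core. -/
def orbRep (k p : ℕ) : ℕ :=
  if k < 2 then [0,1,1,1,4,1,1,1,8,9,10,10,8,9,10,10,8,10,9,10,8,10,9,10,8,10,10,9,8,10,10,9].getD p 0
  else [0,1,1,1,4,1,1,1,1,9,10,11,1,9,10,11,1,11,9,10,1,11,9,10,1,10,11,9,1,10,11,9].getD p 0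

/-- An element conjugating the representative to the code. -/
def orbWit (k p : ℕ) : ℕ :=
  if k < 2 then [0,0,2,4,0,1,3,5,0,0,0,1,1,12,6,7,2,3,2,2,3,15,8,8,4,4,5,4,5,16,11,10].getD p 0
  else [0,0,2,4,0,12,8,10,97,0,0,0,1,12,6,6,51,1,2,2,3,13,8,8,53,1,3,4,5,13,9,10].getD p 0

theorem orb_check : ∀ k < 4, ∀ p < 32, orbRep k p < 32 ∧ orbWit k p < 192 ∧
    mconj k (orbWit k p) (6 * orbRep k p) = 6 * p := by decide +kernel

theorem four_cent : ∀ k < 4, ∀ p ∈ ([1, 8] : List ℕ), (mcent k (6 * p)).length ≤ 32 ∧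
    mmul k (6 * p) (6 * p) = 24 := by decide +kernel

theorem two_sq : ∀ k < 4, ∀ p ∈ ([9, 10, 11] : List ℕ), mmul k (6 * p) (6 * p) = 0 := by decide +kernel

theorem centre_or : ∀ k < 4, ∀ p < 32, p = 0 ∨ p = 4 ∨
    (((List.range 32).filter fun q => mmul k (6 * p) (6 * q) == mmul k (6 * q) (6 * p)).length = 16) := by
  decide +kernel

theorem commute_code : ∀ k < 4, ∀ p < 32, ∀ q < 32,
    (mmul k (6 * q) (6 * p) == mmul k (6 * p) (6 * q)) = (qmul q p == qmul p q) := by decide +kernel

/-- The value of the exceptional character on a representative. -/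
def orbVal (t9 t10 t11 c1 c8 : ℤ) (r : ℕ) : ℤ :=
  if r == 0 then 16 else if r == 4 then 0 else if r == 9 then t9 else if r == 10 then t10 else if r == 11 then t11
  else if r == 1 then c1 else c8

/-- The values on the core. -/
def coreVal (k : ℕ) (t9 t10 t11 c1 c8 : ℤ) : List ℤ :=
  (List.range 32).map fun p => orbVal t9 t10 t11 c1 c8 (orbRep k p)

theorem core_check : ∀ k < 4, ∀ t9 ∈ ([4, -4] : List ℤ), ∀ t10 ∈ ([4, -4] : List ℤ), ∀ t11 ∈ ([4, -4] : List ℤ),
    ∀ c1 ∈ ([0, 2, -2] : List ℤ), ∀ c8 ∈ ([0, 2, -2] : List ℤ),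
    (((List.range 32).map fun p => orbVal t9 t10 t11 c1 c8 (orbRep k p)).sum % 32 != 0 ||
      (List.range 32).any fun b => b != 0 && b != 4 &&
        ((((List.range 32).filter fun p => qmul p b == qmul b p).map
            fun p => orbVal t9 t10 t11 c1 c8 (orbRep k p)).sum % 16 != 0 ||
          decide (2 * (((List.range 32).filter fun p => qmul p b == qmul b p).map
            fun p => orbVal t9 t10 t11 c1 c8 (orbRep k p)).sum <
              ((List.range 32).map fun p => orbVal t9 t10 t11 c1 c8 (orbRep k p)).sum))) = true := by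
  decide +kernel

theorem vec16 (v : Fin 5 → ℤ) (h : v = ![5, 4, 6, 0, 4] ∨ v = ![5, -4, 6, 0, -4]) : v 4 = 4 ∨ v 4 = -4 := by
  rcases h with rfl | rfl
  · exact Or.inl rfl
  · exact Or.inr rfl

variable {z x j : G} {Q S : Subgroup G} {k : ℕ} {φ : ℕ → G}

/-- Some other conjugate of the central involution lies in the core. -/
theorem not_weakly_closed (hG : IsM12 G) {a : G} (Sh : Shape16 a) (ha : orderOf a = 11) (D : CentData z x j Q S)
    (E : Dat z k φ) (hQ : ∀ g, g ∈ Q ↔ ∃ n < 192, n % 6 = 0 ∧ φ n = g) :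
    ∃ n < 192, n % 6 = 0 ∧ n ≠ 24 ∧ InU z φ n := by
  classical
  haveI : Fact (Nat.Prime 2) := ⟨Nat.prime_two⟩
  by_contra hno
  push Not at hno
  have hk := E.type
  have hmem : ∀ p < 32, φ (6 * p) ∈ Q := fun p hp => (hQ _).2 ⟨6 * p, by omega, by omega, rfl⟩
  have hinj : ∀ p < 32, ∀ q < 32, φ (6 * p) = φ (6 * q) → p = q := fun p hp q hq h => by
    have := E.inj (6 * p) (by omega) (6 * q) (by omega) h
    omega
  have h64 := D.cc_S fun s hs => D.SC s hs
  obtain ⟨hc192, VZ, -⟩ := central_values Sh hG ha D.oz h64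
  -- values at the involutions
  have ht : ∀ p ∈ ([9, 10, 11] : List ℕ), ∃ t ∈ ([4, -4] : List ℤ), (Sh.ch 4 : G → ℂ) (φ (6 * p)) = t := by
    intro p hp
    have hp32 : p < 32 := by simp only [List.mem_cons, List.not_mem_nil, or_false] at hp; omega
    have hp4 : p ≠ 0 ∧ p ≠ 4 := by simp only [List.mem_cons, List.not_mem_nil, or_false] at hp; omega
    have hsq : φ (6 * p) * φ (6 * p) = 1 := by rw [← E.mul _ (by omega) _ (by omega), two_sq k hk p hp, E.one]
    have h1 : φ (6 * p) ≠ 1 := fun h => hp4.1 (hinj p hp32 0 (by norm_num) (by rw [h, mul_zero, E.one]))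
    have ho : orderOf (φ (6 * p)) = 2 := orderOf_eq_prime (by rw [pow_two, hsq]) h1
    have hnc : ¬ IsConj z (φ (6 * p)) := fun h => by
      obtain ⟨g, hg⟩ := isConj_iff.mp h
      exact hno (6 * p) (by omega) (by omega) (by omega) ⟨g, hg⟩
    have h16 : 16 ∣ cc (φ (6 * p)) := by
      set s := Q ⊓ centralizer ({φ (6 * p)} : Set G) with hs
      have hc : Nat.card s = 16 := by
        rw [← ((centre_or k hk p hp32).resolve_left hp4.1).resolve_left hp4.2, Nat.card_eq_fintype_card,
          Fintype.card_subtype]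
        rw [← List.toFinset_card_of_nodup (List.nodup_range.filter _)]
        refine (Finset.card_bij (fun q _ => φ (6 * q)) ?_ ?_ ?_).symm
        · intro q hq
          simp only [List.mem_toFinset, List.mem_filter, List.mem_range, beq_iff_eq] at hq
          refine Finset.mem_filter.2 ⟨Finset.mem_univ _, mem_inf.mpr ⟨hmem q hq.1, mem_centralizer_singleton_iff.mpr ?_⟩⟩
          rw [← E.mul _ (by omega) _ (by omega), ← E.mul _ (by omega) _ (by omega), hq.2]
        · intro q hq q' hq' h
          simp only [List.mem_toFinset, List.mem_filter, List.mem_range] at hq hq'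
          exact hinj q hq.1 q' hq'.1 h
        · intro g hg
          obtain ⟨h1', h2'⟩ := mem_inf.mp (Finset.mem_filter.1 hg).2
          obtain ⟨n, hn, hn6, rfl⟩ := (hQ g).1 h1'
          have he : 6 * (n / 6) = n := by omega
          refine ⟨n / 6, ?_, by rw [he]⟩
          simp only [List.mem_toFinset, List.mem_filter, List.mem_range, beq_iff_eq]
          refine ⟨by omega, E.inj _ (mmul_lt hk (by omega) (by omega)) _ (mmul_lt hk (by omega) (by omega)) ?_⟩
          rw [he, E.mul _ (by omega) _ hn, E.mul _ hn _ (by omega)]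
          exact (mem_centralizer_singleton_iff.mp h2').symm
      rw [← hc]
      exact card_dvd_of_le inf_le_right
    obtain ⟨v, V, hv⟩ : ∃ v, Sh.Vals (φ (6 * p)) v ∧ (v = ![5, 4, 6, 0, 4] ∨ v = ![5, -4, 6, 0, -4]) := by
      rcases outer_values Sh hG ha D.oz h64 ho h16 hnc with h | h
      · exact ⟨_, h, Or.inl rfl⟩
      · exact ⟨_, h, Or.inr rfl⟩
    refine ⟨v 4, ?_, V.val 4⟩
    rcases vec16 v hv with e | e <;> simp [e]
  -- values at the elements of order four
  have hc : ∀ p ∈ ([1, 8] : List ℕ), ∃ c ∈ ([0, 2, -2] : List ℤ), (Sh.ch 4 : G → ℂ) (φ (6 * p)) = c := by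
    intro p hp
    have hp32 : p < 32 := by simp only [List.mem_cons, List.not_mem_nil, or_false] at hp; omega
    obtain ⟨hlen, hsq'⟩ := four_cent k hk p hp
    have hsq : φ (6 * p) * φ (6 * p) = z := by rw [← E.mul _ (by omega) _ (by omega), hsq', E.zc]
    have h4 : φ (6 * p) ^ 2 ^ 2 = 1 := by
      rw [show (2 : ℕ) ^ 2 = 2 * 2 from rfl, pow_mul, pow_two, pow_two, hsq, D.zz]
    have hreg : orderOf (φ (6 * p)) ≠ 11 := fun h => by
      have := orderOf_dvd_of_pow_eq_one h4
      rw [h] at this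
      norm_num at this
    obtain ⟨v, V⟩ := vals16 Sh hG ha hreg
    have hcc : cc (φ (6 * p)) ≤ 32 := by
      refine le_trans ?_ hlen
      have hsub : ∀ g : centralizer ({φ (6 * p)} : Set G), ∃ n ∈ mcent k (6 * p), φ n = g := fun g => by
        have h := mem_centralizer_singleton_iff.mp g.2
        have hgz : (g : G) * z = z * g := by
          rw [← hsq, ← mul_assoc, h, mul_assoc, h, ← mul_assoc]
        obtain ⟨n, hn, hn'⟩ := (E.cent _).1 hgz
        refine ⟨n, List.mem_filter.2 ⟨List.mem_range.2 hn, ?_⟩, hn'⟩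
        rw [beq_iff_eq]
        refine E.inj _ (mmul_lt hk hn (by omega)) _ (mmul_lt hk (by omega) hn) ?_
        rw [E.mul _ hn _ (by omega), E.mul _ (by omega) _ hn, hn', h]
      choose f hf hf' using hsub
      have hfi : Function.Injective (fun g => (⟨f g, List.mem_toFinset.2 (hf g)⟩ : (mcent k (6 * p)).toFinset)) :=
        fun g g' h => Subtype.ext (by rw [← hf' g, ← hf' g']; exact congrArg φ (congrArg Subtype.val h))
      refine (Nat.card_le_card_of_injective _ hfi).trans ?_
      rw [Nat.card_eq_fintype_card, Fintype.card_coe]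
      exact List.toFinset_card_le _
    have hn := V.norm
    rw [Fin.sum_univ_five] at hn
    have hb : (cc (φ (6 * p)) : ℤ) ≤ 32 := by exact_mod_cast hcc
    have h2 : v 4 % 2 = 0 := by
      have h := modEq_degree (Sh.ch 4) (p := 2) (k := 2) h4 (V.val 4)
      rw [show dg (Sh.ch 4) = 16 from Sh.dg_eq 4] at h
      simp only [Int.ModEq] at h
      omega
    refine ⟨v 4, ?_, V.val 4⟩
    have hb1 : v 4 < 4 := by nlinarith [sq_nonneg (v 0), sq_nonneg (v 1), sq_nonneg (v 2), sq_nonneg (v 3)]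
    have hb2 : -4 < v 4 := by nlinarith [sq_nonneg (v 0), sq_nonneg (v 1), sq_nonneg (v 2), sq_nonneg (v 3)]
    simp only [List.mem_cons, List.not_mem_nil, or_false]
    omega
  obtain ⟨t9, ht9, e9⟩ := ht 9 (by decide)
  obtain ⟨t10, ht10, e10⟩ := ht 10 (by decide)
  obtain ⟨t11, ht11, e11⟩ := ht 11 (by decide)
  obtain ⟨c1, hc1, f1⟩ := hc 1 (by decide)
  obtain ⟨c8, hc8, f8⟩ := hc 8 (by decide)
  set g := fun p => orbVal t9 t10 t11 c1 c8 (orbRep k p) with hg
  have hval : ∀ p < 32, (Sh.ch 4 : G → ℂ) (φ (6 * p)) = (g p : ℂ) := by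
    intro p hp
    obtain ⟨hr, hw, e⟩ := orb_check k hk p hp
    rw [← e, E.conj hw (by omega), irr_conjInv]
    have hrm : orbRep k p ∈ ([0, 4, 9, 10, 11, 1, 8] : List ℕ) := by
      have key : ∀ k < 4, ∀ p < 32, orbRep k p ∈ ([0, 4, 9, 10, 11, 1, 8] : List ℕ) := by decide +kernel
      exact key k hk p hp
    simp only [hg]
    simp only [List.mem_cons, List.not_mem_nil, or_false] at hrm
    rcases hrm with h | h | h | h | h | h | h <;> rw [h]
    · rw [show 6 * 0 = 0 from rfl, E.one, irr_degree, show charDegree (Sh.ch 4 : G → ℂ) = 16 from Sh.dg_eq 4]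
      simp [orbVal]
    · rw [show 6 * 4 = 24 from rfl, E.zc, VZ.val 4]
      simp [orbVal]
    · exact e9
    · exact e10
    · exact e11
    · exact f1
    · exact f8
  have hsum : ∀ (K : Subgroup G) [Fintype K] (P : ℕ → Bool), (∀ y, y ∈ K ↔ ∃ p < 32, P p = true ∧ φ (6 * p) = y) →
      Nat.card K = ((List.range 32).filter P).length ∧
      ∑ y : K, (Sh.ch 4 : G → ℂ) y = ((((List.range 32).filter P).map g).sum : ℤ) := by
    intro K _ P hK
    have hnd := (List.nodup_range (n := 32)).filter P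
    rw [← List.toFinset_card_of_nodup hnd, ← List.sum_toFinset _ hnd, Int.cast_sum, Nat.card_eq_fintype_card]
    have hm : ∀ q, q ∈ ((List.range 32).filter P).toFinset → φ (6 * q) ∈ K := fun q hq => by
      simp only [List.mem_toFinset, List.mem_filter, List.mem_range] at hq
      exact (hK _).2 ⟨q, hq.1, hq.2, rfl⟩
    constructor
    · rw [← Finset.card_univ]
      refine (Finset.card_bij (fun q hq => (⟨φ (6 * q), hm q hq⟩ : K)) (fun _ _ => Finset.mem_univ _) ?_ ?_).symm
      · intro q hq q' hq' h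
        simp only [List.mem_toFinset, List.mem_filter, List.mem_range] at hq hq'
        exact hinj q hq.1 q' hq'.1 (congrArg Subtype.val h)
      · intro y _
        obtain ⟨p, hp, hP, e⟩ := (hK y).1 y.2
        exact ⟨p, by simp [hp, hP], Subtype.ext e⟩
    · refine (Finset.sum_bij (fun q hq => (⟨φ (6 * q), hm q hq⟩ : K)) (fun _ _ => Finset.mem_univ _) ?_ ?_ ?_).symm
      · intro q hq q' hq' h
        simp only [List.mem_toFinset, List.mem_filter, List.mem_range] at hq hq'
        exact hinj q hq.1 q' hq'.1 (congrArg Subtype.val h)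
      · intro y _
        obtain ⟨p, hp, hP, e⟩ := (hK y).1 y.2
        exact ⟨p, by simp [hp, hP], Subtype.ext e⟩
      · intro q hq
        simp only [List.mem_toFinset, List.mem_filter, List.mem_range] at hq
        exact (hval q hq.1).symm
  haveI := Fintype.ofFinite Q
  obtain ⟨-, hsQ⟩ := hsum Q (fun _ => true) fun y => by
    rw [hQ]
    exact ⟨fun ⟨n, hn, h6, e⟩ => ⟨n / 6, by omega, rfl, by rw [show 6 * (n / 6) = n by omega, e]⟩,
      fun ⟨p, hp, _, e⟩ => ⟨6 * p, by omega, by omega, e⟩⟩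
  rw [List.filter_true] at hsQ
  have hchk := core_check k hk t9 ht9 t10 ht10 t11 ht11 c1 hc1 c8 hc8
  rw [Bool.or_eq_true] at hchk
  rcases hchk with hchk | hchk
  · obtain ⟨m, hm⟩ := sum_subgroup (isCharacter_of_irr (Sh.ch 4).2) Q
    rw [D.cardQ, hsQ] at hm
    have hm' : ((List.range 32).map g).sum = 32 * (m : ℤ) := by exact_mod_cast hm
    simp only [hg] at hm'
    rw [hm'] at hchk
    simp at hchk
  simp only [List.any_eq_true, List.mem_range, Bool.and_eq_true, bne_iff_ne, ne_eq, Bool.or_eq_true,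
    decide_eq_true_eq] at hchk
  obtain ⟨b, hb, ⟨hb0, hb4⟩, hbad⟩ := hchk
  set K := Q ⊓ centralizer ({φ (6 * b)} : Set G) with hKdef
  haveI := Fintype.ofFinite K
  obtain ⟨hcK, hsK⟩ := hsum K (fun p => qmul p b == qmul b p) fun y => by
    rw [hKdef, mem_inf, hQ, mem_centralizer_singleton_iff]
    constructor
    · rintro ⟨⟨n, hn, h6, rfl⟩, hc'⟩
      have he : 6 * (n / 6) = n := by omega
      refine ⟨n / 6, by omega, ?_, by rw [he]⟩
      rw [← commute_code k hk b hb (n / 6) (by omega), beq_iff_eq]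
      refine E.inj _ (mmul_lt hk (by omega) (by omega)) _ (mmul_lt hk (by omega) (by omega)) ?_
      rw [he, E.mul _ hn _ (by omega), E.mul _ (by omega) _ hn, hc']
    · rintro ⟨p, hp, hP, rfl⟩
      refine ⟨⟨6 * p, by omega, by omega, rfl⟩, ?_⟩
      rw [← commute_code k hk b hb p hp, beq_iff_eq] at hP
      rw [← E.mul _ (by omega) _ (by omega), ← E.mul _ (by omega) _ (by omega), hP]
  have h16 : ((List.range 32).filter fun p => qmul p b == qmul b p).length = 16 := by
    rw [← ((centre_or k hk b hb).resolve_left hb0).resolve_left hb4]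
    congr 1
    refine List.filter_congr fun q hq => ?_
    rw [← commute_code k hk b hb q (List.mem_range.1 hq), Bool.beq_comm]
  obtain ⟨m, m', hmm, h1, h2⟩ := sum_mono (isCharacter_of_irr (Sh.ch 4).2) (inf_le_left : K ≤ Q)
  rw [hsQ, D.cardQ] at h1
  rw [hsK, hcK, h16] at h2
  have h1' : ((List.range 32).map g).sum = 32 * (m : ℤ) := by exact_mod_cast h1
  have h2' : (((List.range 32).filter fun p => qmul p b == qmul b p).map g).sum = 16 * (m' : ℤ) := by
    exact_mod_cast h2
  simp only [hg] at h1' h2'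
  rw [h1', h2'] at hbad
  omega

end CfsgSimpleM12
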