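/-
Simple groups of order 95040 are isomorphic to the Mathieu group.
-/
import Cfsg.Agent.Lib.SimpleM12.Weak
import Cfsg.Agent.Lib.QS3.Main
import Cfsg.Agent.Lib.Golay.Mathieu

set_option autoImplicit false
set_option maxRecDepth 100000
set_option linter.style.haveILetI false
set_option linter.unusedSectionVars false

namespace CfsgSimpleM12

open Cfsg Subgroup CfsgSimpleM11 CfsgQS3

universe u
variable {G : Type u} [Group G] [Fintype G]

/-- The coordinates of the centraliser of a central involution. -/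
theorem exists_coords {z x j : G} {Q S : Subgroup G} (hG : IsM12 G) {a : G} (Sh : Shape16 a) (ha : orderOf a = 11)
    (D : CentData z x j Q S) :
    ∃ k φ, Dat z k φ ∧ ∀ g, g ∈ Q ↔ ∃ n < 192, n % 6 = 0 ∧ φ n = g := by
  classical
  have hxji : j * x⁻¹ * j⁻¹ = x := by
    rw [show j * x⁻¹ * j⁻¹ = (j * x * j⁻¹)⁻¹ by group, D.jx, inv_inv]
  have T : CfsgQS3.Shape z Q x j :=
    { s_mem := D.zQ
      s_ne := D.z_ne
      ss := D.zz
      center := fun q hq hc => D.core_center hG Sh ha hq fun p hp => (hc p hp).symm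
      sq := fun q hq => D.core_sq hG Sh ha hq
      cardQ := D.cardQ
      le := D.leC
      cs := ⟨D.xz, D.jz⟩
      normX := D.normQ x D.xz
      normJ := D.normQ j D.jz
      x3 := D.x3
      jx := D.jx
      jj := D.jj
      fpf := fun q hq h => D.fix_x hq h
      outside := by
        have key : ∀ i : ℕ, j * x ^ i ∉ Q := fun i h => by
          have h1 := D.normQ x D.xz _ h
          have h2 : x ^ 2 ∈ Q := by
            have := mul_mem (inv_mem h) h1
            rwa [show (j * x ^ i)⁻¹ * (x * (j * x ^ i) * x⁻¹) = (x ^ i)⁻¹ * (j⁻¹ * x * j) * (x ^ i * x⁻¹) by group,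
              show j⁻¹ * x * j = x⁻¹ by
                rw [show j⁻¹ * x * j = j⁻¹ * (j * x⁻¹ * j⁻¹) * j by rw [hxji]]; group,
              show (x ^ i)⁻¹ * x⁻¹ * (x ^ i * x⁻¹) = x⁻¹ * x⁻¹ by group,
              show x⁻¹ * x⁻¹ = (x ^ 2)⁻¹ by group, inv_mem_iff] at this
          have h4 := mul_mem h2 h2
          rw [← pow_add, show 2 + 2 = 3 + 1 from rfl, pow_succ,
            show x ^ 3 = 1 by rw [pow_succ, pow_two, D.x3], one_mul] at h4
          exact D.xQ h4
        refine ⟨D.xQ, ?_, ?_, ?_⟩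
        · simpa using key 0
        · simpa using key 1
        · simpa [pow_two, mul_assoc] using key 2
      cover := D.cardC }
  obtain ⟨b, b', F, hcase⟩ := T.adapted
  let t : ℕ := if j * j = 1 then 0 else 1
  have ht : j * j = if t = 1 then z else 1 := by
    simp only [t]
    split_ifs with h h' h'
    · exact absurd h' (by norm_num)
    · exact h
    · exact D.jj.resolve_left h
    · exact absurd rfl h'
  have htlt : t < 2 := by simp only [t]; split_ifs <;> norm_num
  obtain ⟨k, hk, hkt, hj⟩ : ∃ k < 4, k % 2 = t ∧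
      ∀ g, g ∈ [8, 1] → qel z x b b' (qtau k g) = j * qel z x b b' g * j⁻¹ := by
    have e12 : qel z x b b' 12 = b * z := qel_gen.2.2.2.2.2.2.2.2.1
    have e5 : qel z x b b' 5 = b' * z := by rw [qel_gen.2.2.2.2.2.2.2.2.2, T.comm_s F.ha']
    rcases hcase with ⟨h1, h2⟩ | ⟨h1, h2⟩
    · have tt : ∀ t < 2, qtau t 8 = 12 ∧ qtau t 1 = 5 := by decide +kernel
      refine ⟨t, by omega, Nat.mod_eq_of_lt htlt, fun g hg => ?_⟩
      simp only [List.mem_cons, List.not_mem_nil, or_false] at hg
      rcases hg with rfl | rfl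
      · rw [(tt t htlt).1, e12, qel_gen.1, h1]
      · rw [(tt t htlt).2, e5, qel_gen.2.2.2.1, h2]
    · have tt : ∀ t < 2, qtau (2 + t) 8 = 5 ∧ qtau (2 + t) 1 = 12 := by decide +kernel
      refine ⟨2 + t, by omega, by omega, fun g hg => ?_⟩
      simp only [List.mem_cons, List.not_mem_nil, or_false] at hg
      rcases hg with rfl | rfl
      · rw [(tt t htlt).1, e5, qel_gen.1, h1]
      · rw [(tt t htlt).2, e12, qel_gen.2.2.2.1, h2]
  refine ⟨k, _, F.dat T hk (hkt ▸ ht) hj, fun g => ⟨fun hg => ?_, ?_⟩⟩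
  · obtain ⟨p, hp, hpe⟩ := F.q_surj T hg
    refine ⟨6 * p, by omega, by omega, ?_⟩
    rw [show 6 * p / 6 = p by omega, show 6 * p / 2 % 3 = 0 by omega, show 6 * p % 2 = 0 by omega]
    simpa using hpe
  · rintro ⟨n, hn, hn6, rfl⟩
    rw [show n / 2 % 3 = 0 by omega, show n % 2 = 0 by omega]
    simpa using F.q_mem T (n / 6) (by omega)

/-- A simple group of order 95040 is the Mathieu group of degree twelve. -/
theorem isoM12 (hG : IsM12 G) : Spor.IsoM12 G := by
  haveI : Fact (Nat.Prime 11) := ⟨by norm_num⟩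
  obtain ⟨a, ha⟩ := exists_prime_orderOf_dvd_card' 11 (show 11 ∣ Nat.card G by rw [card_eq hG]; norm_num)
  obtain ⟨Sh⟩ := exists_shape_sixteen hG ha
  obtain ⟨z, x, j, Q, S, D⟩ := exists_centData hG Sh ha
  obtain ⟨k, φ, E, hQ⟩ := exists_coords hG Sh ha D
  obtain ⟨n, hn, h6, h24, hU⟩ := not_weakly_closed hG Sh ha D E hQ
  rcases E.classification hn h6 hU h24 with ⟨N, hN, -, -, hc, -⟩ | ⟨⟨e⟩⟩ | ⟨⟨e⟩⟩ | h
  · exfalso
    rcases normal_cases hG hN with e | e <;> rw [e] at hc
    · rw [card_bot] at hc; norm_num at hc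
    · rw [card_top, card_eq hG] at hc; norm_num at hc
  · exfalso
    have h := Nat.card_congr e.toEquiv
    rw [card_eq hG, nat_card_alternatingGroup, Nat.card_fin] at h
    norm_num [Nat.factorial] at h
  · exfalso
    have h := Nat.card_congr e.toEquiv
    rw [card_eq hG, nat_card_alternatingGroup, Nat.card_fin] at h
    norm_num [Nat.factorial] at h
  · exact h

end CfsgSimpleM12
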